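import Cfsg.Agent.EqLemmas

/-!
# Outer automorphisms through the normaliser of a Sylow subgroup of prime order

* `card_out_eq_one` : automorphisms fixing generators up to inner ones;  `natCard_out_congr`
* `exists_inner_normal` : every automorphism is, up to an inner one, `x ↦ x ^ i`, `y ↦ y`
* `index_mod_prime` : the index of a subgroup containing a Sylow normaliser
* `prime_le_index` : proper subgroups of simple groups have large index
-/

set_option autoImplicit false

namespace Cfsg.Agent.OutCert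

variable {G : Type} [Group G]

/-- Every automorphism is inner if it fixes generators up to an inner one. -/
theorem card_out_eq_one (S : Set G) (hS : Subgroup.closure S = ⊤)
    (h : ∀ α : MulAut G, ∃ g : G, ∀ s ∈ S, g * α s * g⁻¹ = s) : Nat.card (Cfsg.Out G) = 1 := by
  rw [Nat.card_eq_one_iff_unique]
  refine ⟨⟨fun a b => ?_⟩, ⟨1⟩⟩
  have key : ∀ q : Cfsg.Out G, q = 1 := by
    intro q
    induction q using QuotientGroup.induction_on with
    | _ α =>
      rw [QuotientGroup.eq_one_iff]
      obtain ⟨g, hg⟩ := h α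
      refine ⟨g⁻¹, ?_⟩
      have e : ((MulAut.conj g).toMonoidHom.comp α.toMonoidHom : G →* G) = MonoidHom.id G :=
        MonoidHom.eq_of_eqOn_dense hS hg
      refine MulEquiv.ext fun a => ?_
      have := DFunLike.congr_fun e a
      simp only [MonoidHom.coe_comp, MulEquiv.coe_toMonoidHom, Function.comp_apply,
        MulAut.conj_apply, MonoidHom.id_apply] at this
      rw [MulAut.conj_apply]
      nth_rewrite 1 [← this]
      group
  rw [key a, key b]

/-- Isomorphic groups have equally large outer automorphism groups. -/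
theorem natCard_out_congr {H : Type} [Group H] (e : G ≃* H) :
    Nat.card (Cfsg.Out G) = Nat.card (Cfsg.Out H) := by
  refine Nat.card_congr (QuotientGroup.congr _ _ (MulAut.congr e) ?_).toEquiv
  ext β
  simp only [Subgroup.mem_map, MonoidHom.mem_range]
  constructor
  · rintro ⟨α, ⟨g, rfl⟩, rfl⟩
    refine ⟨e g, MulEquiv.ext fun a => ?_⟩
    simp [MulAut.congr, MulAut.conj_apply]
  · rintro ⟨g, rfl⟩
    refine ⟨MulAut.conj (e.symm g), ⟨_, rfl⟩, MulEquiv.ext fun a => ?_⟩
    simp [MulAut.congr, MulAut.conj_apply]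

theorem zpowers_eq_of_mem {p : ℕ} [Fact p.Prime] {x z : G} (hx : orderOf x = p)
    (hz : orderOf z = p) (h : z ∈ Subgroup.zpowers x) : Subgroup.zpowers z = Subgroup.zpowers x := by
  have : Finite (Subgroup.zpowers x) :=
    Nat.finite_of_card_ne_zero (by rw [Nat.card_zpowers, hx]; exact (Fact.out : p.Prime).ne_zero)
  exact Subgroup.eq_of_le_of_card_ge (Subgroup.zpowers_le.2 h)
    (by rw [Nat.card_zpowers, Nat.card_zpowers, hx, hz])

/-- Normal form of an automorphism on the Sylow normaliser. -/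
theorem exists_inner_normal [Finite G] {p r : ℕ} [hp : Fact p.Prime] {x y : G} (s : ℕ)
    (hx : orderOf x = p) (hp2 : ¬ p ^ 2 ∣ Nat.card G) (hy : orderOf y = r)
    (hyx : y * x * y⁻¹ = x ^ s)
    (hs : ∀ b < r, s ^ b % p = 1 → b = 0) (hs1 : s ^ r % p = 1) (hr : 1 < r)
    (hN : ∀ g : G, g * x * g⁻¹ ∈ Subgroup.zpowers x → ∃ a b : ℕ, g = x ^ a * y ^ b)
    (I : List ℕ) (hI : ∀ i < p, i ≠ 0 → ∃ b, b < r ∧ (s ^ b * i) % p ∈ I) (α : MulAut G) :
    ∃ g : G, ∃ i ∈ I, g * α x * g⁻¹ = x ^ i ∧ g * α y * g⁻¹ = y := by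
  classical
  have hpp := hp.out
  have hz : orderOf (α x) = p := by
    rw [← hx]; exact orderOf_injective α.toMonoidHom α.injective x
  -- the image of the Sylow subgroup is conjugate to it
  have hfac : p ^ (Nat.card G).factorization p = p := by
    have h1 : p ∣ Nat.card G := hx ▸ orderOf_dvd_natCard x
    have hne : Nat.card G ≠ 0 := Nat.card_pos.ne'
    have h3 := (hpp.pow_dvd_iff_le_factorization hne).not.1 hp2
    have h4 := (hpp.pow_dvd_iff_le_factorization (k := 1) hne).1 (by rwa [pow_one])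
    rw [show (Nat.card G).factorization p = 1 by omega, pow_one]
  obtain ⟨g, hg⟩ : ∃ g : G, g * α x * g⁻¹ ∈ Subgroup.zpowers x := by
    let P : Sylow p G := Sylow.ofCard (Subgroup.zpowers x) (by rw [Nat.card_zpowers, hx, hfac])
    let Q : Sylow p G := Sylow.ofCard (Subgroup.zpowers (α x)) (by rw [Nat.card_zpowers, hz, hfac])
    obtain ⟨g, hg⟩ := MulAction.exists_smul_eq G Q P
    refine ⟨g, ?_⟩
    have e : g * α x * g⁻¹ ∈ ((g • Q : Sylow p G) : Subgroup G) := by
      rw [Sylow.coe_subgroup_smul]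
      exact Subgroup.mem_smul_pointwise_iff_exists _ _ _ |>.2 ⟨α x, Subgroup.mem_zpowers _, by
        simp [MulAut.smul_def]⟩
    rw [hg] at e
    exact e
  obtain ⟨i₀, hi₀, hgi⟩ := mem_zpowers_iff_mem_range_orderOf.mp hg |> fun h => by
    simpa [hx] using h
  -- β is α followed by the conjugation
  set β : MulAut G := MulAut.conj g * α with hβ
  have βx : β x = x ^ i₀ := by rw [hβ, MulAut.mul_apply, MulAut.conj_apply]; exact hgi.symm
  have hi0 : i₀ ≠ 0 := by
    rintro rfl
    rw [pow_zero] at βx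
    have := congrArg orderOf ((map_eq_one_iff β β.injective).1 βx)
    rw [hx, orderOf_one] at this
    exact hpp.ne_one this
  have hxi : Subgroup.zpowers (x ^ i₀) = Subgroup.zpowers x :=
    zpowers_eq_of_mem hx (by rw [← βx, ← hx]; exact orderOf_injective β.toMonoidHom β.injective x)
      (pow_mem (Subgroup.mem_zpowers x) _)
  -- the image of `y` normalises the Sylow subgroup and acts as `y` does
  obtain ⟨a, b, hab⟩ : ∃ a b : ℕ, β y = x ^ a * y ^ b := by
    refine hN _ ?_
    have h1 : β y * x ^ i₀ * (β y)⁻¹ ∈ Subgroup.zpowers x := by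
      rw [← βx, ← map_inv, ← map_mul, ← map_mul, hyx, map_pow, βx]
      exact pow_mem (pow_mem (Subgroup.mem_zpowers x) _) _
    have h2 : Subgroup.zpowers (x ^ i₀) ≤ (Subgroup.zpowers x).comap (MulAut.conj (β y)).toMonoidHom :=
      Subgroup.zpowers_le.2 h1
    rw [hxi] at h2
    exact h2 (Subgroup.mem_zpowers x)
  have conjpow : ∀ k n : ℕ, y ^ k * x ^ n * (y ^ k)⁻¹ = x ^ (s ^ k * n) := by
    intro k
    induction k with
    | zero => simp
    | succ k ih =>
      intro n
      rw [pow_succ', show y * y ^ k * x ^ n * (y * y ^ k)⁻¹ = y * (y ^ k * x ^ n * (y ^ k)⁻¹) * y⁻¹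
        by group, ih, ← conj_pow, hyx, ← pow_mul, pow_succ']
      ring_nf
  have hpow : ∀ u v : ℕ, x ^ u = x ^ v ↔ u % p = v % p := fun u v => by
    rw [pow_eq_pow_iff_modEq, hx]; rfl
  have hb1 : (b % r) = 1 := by
    have e := congrArg β hyx
    rw [map_mul, map_mul, map_inv, map_pow, βx, hab, show x ^ a * y ^ b * x ^ i₀ *
      (x ^ a * y ^ b)⁻¹ = x ^ a * (y ^ b * x ^ i₀ * (y ^ b)⁻¹) * (x ^ a)⁻¹ by group, conjpow,
      ← pow_add, ← pow_mul, mul_inv_eq_iff_eq_mul, ← pow_add, hpow] at e
    have hnd : ¬ p ∣ i₀ := fun h => by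
      have := Nat.le_of_dvd (Nat.pos_of_ne_zero hi0) h
      omega
    have e2 : s ^ b ≡ s [MOD p] := by
      have h1 : i₀ * s ^ b + a ≡ i₀ * s + a [MOD p] := by
        have : (a + s ^ b * i₀) % p = (i₀ * s + a) % p := e
        show (i₀ * s ^ b + a) % p = _
        rw [← this]; ring_nf
      exact Nat.ModEq.cancel_left_of_coprime ((hpp.coprime_iff_not_dvd).2 hnd)
        (Nat.ModEq.add_right_cancel' a h1)
    have hsr : s ^ r ≡ 1 [MOD p] := by
      show _ = 1 % p
      rw [hs1, Nat.one_mod_eq_one.2 hpp.ne_one]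
    have hbm : s ^ (b % r) ≡ s [MOD p] := by
      refine Nat.ModEq.trans ?_ e2
      conv_rhs => rw [← Nat.mod_add_div b r, pow_add, pow_mul]
      simpa using ((hsr.pow (b / r)).mul_left (s ^ (b % r))).symm
    have hlt := Nat.mod_lt b (by omega : 0 < r)
    have h3 : s ^ ((b % r + (r - 1)) % r) % p = 1 := by
      have h4 : s ^ (b % r + (r - 1)) ≡ 1 [MOD p] := by
        rw [pow_add]
        refine (hbm.mul_right _).trans ?_
        rw [← pow_succ', show r - 1 + 1 = r by omega]
        exact hsr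
      have h5 : s ^ ((b % r + (r - 1)) % r) ≡ 1 [MOD p] := by
        refine Nat.ModEq.trans ?_ h4
        conv_rhs => rw [← Nat.mod_add_div (b % r + (r - 1)) r, pow_add, pow_mul]
        simpa using ((hsr.pow ((b % r + (r - 1)) / r)).mul_left _).symm
      rw [h5, Nat.one_mod_eq_one.2 hpp.ne_one]
    have h0 := hs _ (Nat.mod_lt _ (by omega)) h3
    by_contra hne
    rcases Nat.eq_zero_or_pos (b % r) with hz' | hpos
    · rw [hz', zero_add, Nat.mod_eq_of_lt (by omega)] at h0
      omega
    · rw [show b % r + (r - 1) = b % r - 1 + r by omega, Nat.add_mod_right,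
        Nat.mod_eq_of_lt (by omega)] at h0
      omega
  have hyb : y ^ b = y := by
    rw [← pow_mod_orderOf y b, hy, hb1, pow_one]
  rw [hyb] at hab
  -- a conjugation by a power of `x` repairs `y`
  have hsp : ¬ (s : ZMod p) = 1 := fun h => by
    rw [show (1 : ZMod p) = ((1 : ℕ) : ZMod p) by simp, ZMod.natCast_eq_natCast_iff] at h
    have := hs 1 hr (by rw [pow_one, h, Nat.one_mod_eq_one.2 hpp.ne_one])
    omega
  obtain ⟨c, hc⟩ : ∃ c : ℕ, (c + a) % p = (s * c) % p := by
    refine ⟨((a : ZMod p) / ((s : ZMod p) - 1)).val, (ZMod.natCast_eq_natCast_iff' _ _ p).1 ?_⟩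
    have h1 : (s : ZMod p) - 1 ≠ 0 := sub_ne_zero.2 hsp
    rw [Nat.cast_add, Nat.cast_mul, ZMod.natCast_zmod_val]
    field_simp
    ring
  obtain ⟨k, hk, hkI⟩ := hI (i₀ % p) (Nat.mod_lt _ hpp.pos) (by
    rw [Nat.mod_eq_of_lt hi₀]; exact hi0)
  refine ⟨y ^ k * x ^ c * g, (s ^ k * i₀) % p, by
    rwa [Nat.mul_mod, Nat.mod_mod, ← Nat.mul_mod] at hkI, ?_, ?_⟩
  · rw [show y ^ k * x ^ c * g * α x * (y ^ k * x ^ c * g)⁻¹ =
      y ^ k * (x ^ c * (g * α x * g⁻¹) * (x ^ c)⁻¹) * (y ^ k)⁻¹ by group, ← hgi,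
      show x ^ c * x ^ i₀ * (x ^ c)⁻¹ = x ^ i₀ by rw [← pow_add, add_comm, pow_add]; group,
      conjpow, hpow, Nat.mod_mod]
  · have e : g * α y * g⁻¹ = x ^ a * y := by
      rw [← hab, hβ, MulAut.mul_apply, MulAut.conj_apply]
    rw [show y ^ k * x ^ c * g * α y * (y ^ k * x ^ c * g)⁻¹ =
      y ^ k * (x ^ c * (g * α y * g⁻¹) * (x ^ c)⁻¹) * (y ^ k)⁻¹ by group, e]
    have e2 : x ^ c * (x ^ a * y) * (x ^ c)⁻¹ = y := by
      have h1 := conjpow 1 c
      rw [pow_one, pow_one] at h1
      rw [← mul_assoc, ← pow_add, (hpow _ _).2 hc, ← h1]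
      group
    rw [e2]
    group

/-- The index of a subgroup containing the normaliser of a subgroup of order `p` with `p² ∤ |G|`. -/
theorem index_mod_prime [Finite G] {p : ℕ} [hp : Fact p.Prime] {x : G} (hx : orderOf x = p)
    (hp2 : ¬ p ^ 2 ∣ Nat.card G) (H : Subgroup G)
    (hN : Subgroup.normalizer ((Subgroup.zpowers x : Subgroup G) : Set G) ≤ H) : H.index % p = 1 := by
  have hxH : Subgroup.zpowers x ≤ H := le_trans Subgroup.le_normalizer hN
  have hne : Nat.card G ≠ 0 := Nat.card_pos.ne'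
  have h3 := (hp.out.pow_dvd_iff_le_factorization hne).not.1 hp2
  have h4 := (hp.out.pow_dvd_iff_le_factorization (k := 1) hne).1
    (by rw [pow_one]; exact hx ▸ orderOf_dvd_natCard x)
  have hfG : (Nat.card G).factorization p = 1 := by omega
  have hne' : Nat.card H ≠ 0 := Nat.card_pos.ne'
  have h5 := (hp.out.pow_dvd_iff_le_factorization (k := 1) hne').1 (by
    rw [pow_one, ← hx, ← Nat.card_zpowers]; exact Subgroup.card_dvd_of_le hxH)
  have h6 : (Nat.card H).factorization p ≤ (Nat.card G).factorization p :=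
    (Nat.factorization_le_iff_dvd hne' hne).2 (Subgroup.card_subgroup_dvd_card H) p
  have hfH : (Nat.card H).factorization p = 1 := by omega
  let P : Sylow p G := Sylow.ofCard (Subgroup.zpowers x) (by
    rw [Nat.card_zpowers, hx, hfG, pow_one])
  let Q : Sylow p H := Sylow.ofCard ((Subgroup.zpowers x).subgroupOf H) (by
    rw [Nat.card_congr (Subgroup.subgroupOfEquivOfLe hxH).toEquiv, Nat.card_zpowers, hx, hfH,
      pow_one])
  have hG := card_sylow_modEq_one p G
  have hH := card_sylow_modEq_one p H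
  rw [P.card_eq_index_normalizer] at hG
  rw [Q.card_eq_index_normalizer] at hH
  have hQ : Subgroup.normalizer (Q : Set H) =
      (Subgroup.normalizer (P : Set G)).subgroupOf H := by
    show Subgroup.normalizer (((Subgroup.zpowers x).subgroupOf H : Subgroup H) : Set H) = _
    exact (Subgroup.subgroupOf_normalizer_eq hxH).symm
  rw [hQ] at hH
  have hmul := Subgroup.relIndex_mul_index (show Subgroup.normalizer (P : Set G) ≤ H
    from hN)
  rw [← hmul] at hG
  have : H.index ≡ 1 [MOD p] := by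
    refine Nat.ModEq.trans ?_ hG
    simpa [Subgroup.relIndex] using (hH.mul_right H.index).symm
  rw [this, Nat.one_mod_eq_one.2 hp.out.ne_one]

/-- A proper subgroup of a finite simple group has index at least every prime divisor of the order. -/
theorem prime_le_index [Finite G] [IsSimpleGroup G] {H : Subgroup G} (hH : H ≠ ⊤) {p : ℕ}
    (hp : p.Prime) (hd : p ∣ Nat.card G) : p ≤ H.index := by
  have hker : H.normalCore = ⊥ :=
    (IsSimpleGroup.eq_bot_or_eq_top_of_normal _ H.normalCore_normal).resolve_right fun h =>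
      hH (eq_top_iff.2 (h ▸ H.normalCore_le))
  have hinj : Function.Injective (MulAction.toPermHom G (G ⧸ H)) := by
    rw [← MonoidHom.ker_eq_bot_iff, ← Subgroup.normalCore_eq_ker]; exact hker
  have hdvd : Nat.card G ∣ Nat.card (Equiv.Perm (G ⧸ H)) :=
    Subgroup.card_dvd_of_injective _ hinj
  rw [Nat.card_perm] at hdvd
  exact hp.dvd_factorial.1 (hd.trans hdvd)

end Cfsg.Agent.OutCert
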