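import Cfsg.Agent.Lib.Leech.Co3Simple
import Cfsg.Agent.Lib.Leech.Co2Simple
import Cfsg.Agent.Lib.OutCert.Basic

/-!
# The groups of `Spor` as stabilisers in `Co0`

* `sporEquivStab`, `nonempty_co3Equiv`, `nonempty_co2Equiv`
-/

set_option autoImplicit false

namespace Cfsg.Agent.OutCert

open Leech MulAction

/-- An intersection with `Co0` as a stabiliser in `Co0`. -/
def sporEquivStab (v : leechLattice) :
    ↥(Co0 ⊓ MulAction.stabilizer (Equiv.Perm leechLattice) v) ≃* stabilizer Co0 v where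
  toFun x := ⟨⟨x.1, x.2.1⟩, x.2.2⟩
  invFun y := ⟨y.1.1, y.1.2, y.2⟩
  left_inv _ := rfl
  right_inv _ := rfl
  map_mul' _ _ := rfl

theorem nonempty_stab_equiv {v w : leechLattice} (g : Co0) (hg : g • v = w) :
    Nonempty (stabilizer Co0 v ≃* stabilizer Co0 w) := by
  have e : (stabilizer Co0 v).map (MulAut.conj g).toMonoidHom = stabilizer Co0 w := by
    rw [← stabilizer_smul_eq_stabilizer_map_conj, hg]
  exact ⟨(Subgroup.equivMapOfInjective _ _ (MulAut.conj g).injective).trans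
    (MulEquiv.subgroupCongr e)⟩

theorem nonempty_co3Equiv : Nonempty (Spor.Co3 ≃* co3Group) := by
  obtain ⟨g, hg⟩ := exists_to_baseF golayUnique (v := Spor.leechV) (by decide +kernel)
  obtain ⟨f⟩ := nonempty_stab_equiv g hg
  exact ⟨(sporEquivStab Spor.leechV).trans f⟩

theorem nonempty_co2Equiv : Nonempty (Spor.Co2 ≃* stabilizer Co0 (⟨oddMin, oddMin_mem⟩ : leechLattice)) := by
  obtain ⟨g, hg⟩ := transitive32 golayUnique (v := Spor.leechU)
    (w := ⟨oddMin, oddMin_mem⟩) (by decide +kernel) sqNorm_oddMin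
  obtain ⟨f⟩ := nonempty_stab_equiv g hg
  exact ⟨(sporEquivStab Spor.leechU).trans f⟩

end Cfsg.Agent.OutCert
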