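import Cfsg.Agent.Lib.OutCert.Co1Words
import Cfsg.Agent.Lib.Leech.Co1Simple

/-!
# Seven generators of `Co0`

* `closure_lt7` : the letters of `Co1Words` generate
-/

set_option autoImplicit false

open scoped Pointwise symmDiff

namespace Cfsg.Agent.OutCert

open Leech MulAction

/-- The group of the letters. -/
noncomputable def gen7 : Subgroup Co0 := Subgroup.closure (Set.range lt7)

theorem lt7_mem (k : ℕ) : lt7 k ∈ gen7 := Subgroup.subset_closure ⟨k, rfl⟩

theorem xyz_le_gen7 : xyzGroup ≤ gen7 := by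
  rw [xyzGroup, Subgroup.closure_le]
  rintro _ (rfl | rfl | rfl)
  exacts [lt7_mem 0, lt7_mem 1, lt7_mem 2]

theorem permHom_mem (τ : M24) (h : (τ : Equiv.Perm GolayPt) none = none) :
    Leech.permHom τ ∈ gen7 :=
  xyz_le_gen7 (perm_mem_xyz τ.2 h)

theorem perm_mem_gen7 {σ : Equiv.Perm GolayPt} (hσ : σ ∈ M24) : permEl σ hσ ∈ gen7 := by
  by_cases h : σ none = none
  · exact xyz_le_gen7 (perm_mem_xyz hσ h)
  set a := Golay.idx (σ none) with ha
  have ha23 : a < 23 := by
    have := Golay.idx_lt (σ none)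
    have h2 : a ≠ 23 := fun e => h (by
      rw [← Golay.pt_idx (σ none), ← ha, e]; decide +kernel)
    omega
  let mS : M24 := ⟨Golay.toPerm dS, Golay.toPerm_mem_M24 isAut_dS⟩
  let ρ : M24 := mX ^ a * mS
  have hρ : (ρ : Equiv.Perm GolayPt) none = σ none := by
    rw [Subgroup.coe_mul, SubmonoidClass.coe_pow, Equiv.Perm.mul_apply,
      show (mX : Equiv.Perm GolayPt) = sX from rfl,
      show (mS : Equiv.Perm GolayPt) = Golay.toPerm dS from rfl]
    rw [show (none : GolayPt) = Golay.pt 23 from by decide +kernel,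
      Golay.toPerm_pt (Golay.validPerm_of_isAut isAut_dS) (by norm_num),
      show Golay.fn dS 23 = 0 by decide +kernel, sX_pow_pt a (by norm_num),
      fn_dX_iterate ⟨0, by norm_num⟩ ⟨a, ha23⟩]
    show Golay.pt ((0 + a) % 23) = _
    rw [zero_add, Nat.mod_eq_of_lt ha23, ha, Golay.pt_idx]
    exact congrArg σ (by decide +kernel)
  have hfix : ((ρ⁻¹ * ⟨σ, hσ⟩ : M24) : Equiv.Perm GolayPt) none = none := by
    show (ρ : Equiv.Perm GolayPt)⁻¹ (σ none) = none
    rw [← hρ, Equiv.Perm.coe_inv, Equiv.symm_apply_apply]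
  have h1 : Leech.permHom (ρ⁻¹ * ⟨σ, hσ⟩) ∈ gen7 := permHom_mem _ hfix
  have h2 : Leech.permHom ρ ∈ gen7 := by
    rw [map_mul, map_pow]
    have e0 : lt7 0 = Leech.permHom mX := by rw [lt7, if_pos rfl, pX]
    have e3 : lt7 3 = Leech.permHom mS := by
      rw [lt7, if_neg (by norm_num), if_neg (by norm_num), if_neg (by norm_num), if_pos rfl, pS]
      rfl
    exact mul_mem (pow_mem (e0 ▸ lt7_mem 0) a) (e3 ▸ lt7_mem 3)
  have h3 := mul_mem h2 h1
  rw [← map_mul, mul_inv_cancel_left] at h3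
  exact h3

/-- The translates of the sign support and everything. -/
def tMask (a : ℕ) : ℕ := if a < 23 then (Golay.imgMask dX)^[a] dD else 16777215

/-- The rows of the code as sums of translates. -/
def rowDec : List (List ℕ) :=
  [[1, 3, 6, 10, 11], [0, 1, 3, 4, 5, 6, 7, 8, 9, 11], [0, 3, 4, 7, 10], [3, 4, 5, 6, 8, 10],
   [1, 3, 4, 5, 7, 9, 10], [2, 4, 5, 6, 8, 10, 11], [0, 2, 3, 6, 7, 8, 10], [4, 6, 7, 8, 9, 10],
   [5, 7, 8, 9, 10, 11], [0, 2, 5, 6], [7, 10, 11], [0, 2, 5, 9, 10]]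

theorem rowDec_ok : rowDec.map (fun l => l.foldr (fun a acc => tMask a ^^^ acc) 0) = Golay.rows := by
  decide +kernel

/-- The sign change on the points of a mask belongs to `gen7`. -/
def SignIn (m : ℕ) : Prop :=
  ∃ h : Golay.pts m ∈ supports (golayCode : Set (GolayPt → ZMod 2)), signEl _ h ∈ gen7

theorem signIn_xor {a b : ℕ} (ha : SignIn a) (hb : SignIn b) : SignIn (a ^^^ b) := by
  obtain ⟨h1, m1⟩ := ha
  obtain ⟨h2, m2⟩ := hb
  have h3 := mul_mem m1 m2
  rw [signEl_mul_signEl] at h3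
  refine ⟨Golay.pts_xor a b ▸ Golay.symmDiff_mem h1 h2, ?_⟩
  rw [signEl_congr (hd := Golay.symmDiff_mem h1 h2) (Golay.pts_xor a b)]
  exact h3

theorem signIn_zero : SignIn 0 := by
  refine ⟨Golay.pts_zero ▸ Golay.empty_mem, ?_⟩
  rw [signEl_congr (hd := Golay.empty_mem) Golay.pts_zero, signEl_empty]
  exact one_mem _

theorem signIn_tMask (a : ℕ) : SignIn (tMask a) := by
  unfold tMask
  split_ifs with ha
  · clear ha
    induction a with
    | zero => exact ⟨mem_dD, lt7_mem 4⟩
    | succ a ih =>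
      obtain ⟨h1, m1⟩ := ih
      rw [Function.iterate_succ_apply']
      have e : Golay.pts (Golay.imgMask dX ((Golay.imgMask dX)^[a] dD)) =
          sX • Golay.pts ((Golay.imgMask dX)^[a] dD) :=
        Golay.pts_imgMask valid_xyz.1 _
      refine ⟨e ▸ Golay.smul_mem_supports sX_mem h1, ?_⟩
      have h3 : pX * signEl _ h1 * pX⁻¹ ∈ gen7 :=
        mul_mem (mul_mem (lt7_mem 0) m1) (inv_mem (lt7_mem 0))
      have e2 : pX * signEl _ h1 =
          signEl (sX • Golay.pts ((Golay.imgMask dX)^[a] dD))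
            (Golay.smul_mem_supports sX_mem h1) * pX := by
        show permEl sX sX_mem * _ = _ * permEl sX sX_mem
        simp only [permEl]
        rw [mono_mul_signEl, mono_eq_signEl_mul]
      rw [signEl_congr (hd := Golay.smul_mem_supports sX_mem h1) e]
      rwa [e2, mul_inv_cancel_right] at h3
  · have hm : Golay.pts 16777215 ∈ supports (golayCode : Set (GolayPt → ZMod 2)) :=
      Golay.pts_full ▸ ⟨1, one_mem_code, by ext i; simp [support₂]⟩
    refine ⟨hm, ?_⟩
    have e : signEl _ hm = negOne := by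
      refine co0_ext fun v => Subtype.ext (funext fun i => ?_)
      rw [vec_signEl, vec_negOne]
      exact if_pos (Golay.pts_full ▸ Finset.mem_univ i)
    rw [e]
    exact lt7_mem 6

theorem signIn_rows {r : ℕ} (hr : r ∈ Golay.rows) : SignIn r := by
  rw [← rowDec_ok] at hr
  obtain ⟨l, -, rfl⟩ := List.mem_map.1 hr
  clear hr
  induction l with
  | nil => exact signIn_zero
  | cons a l ih => exact signIn_xor (signIn_tMask a) ih

theorem signIn_encAux : ∀ gs : List ℕ, (∀ g ∈ gs, g ∈ Golay.rows) → ∀ x, SignIn (Golay.encAux gs x)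
  | [], _, _ => signIn_zero
  | g :: gs, h, x => by
    rw [Golay.encAux]
    refine signIn_xor ?_ (signIn_encAux gs (fun a ha => h a (List.mem_cons_of_mem _ ha)) _)
    split_ifs
    · exact signIn_rows (h g List.mem_cons_self)
    · exact signIn_zero

theorem stdStab_le_gen7 : stdStab ≤ gen7 := by
  intro g hg
  obtain ⟨σ, hσ, c, hc, rfl⟩ := exists_mono_of_mem hg
  rw [mono_eq_signEl_mul]
  refine mul_mem ?_ (perm_mem_gen7 hσ)
  obtain ⟨x, -, rfl⟩ := Golay.mem_supports_iff_exists.1 hc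
  obtain ⟨h, hm⟩ := signIn_encAux Golay.rows (fun _ h => h) x
  exact hm

theorem invA_not_mem : invA ∉ stdStab := by
  intro h
  obtain ⟨p, s, hs, e⟩ : ((invA • eightVec none : leechLattice) : GolayPt → ℤ) ∈ stdCross := h
  have h1 := congrFun e p
  rw [Pi.single_eq_same] at h1
  rw [invA, matEl_eightVec] at h1
  have key : ∀ i : Fin 24, entry t3Rows i.val (Golay.idx none) ≠ 8 ∧
      entry t3Rows i.val (Golay.idx none) ≠ -8 := by decide +kernel
  have k := key ⟨_, Golay.idx_lt p⟩
  rcases hs with rfl | rfl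
  · exact k.1 h1
  · exact k.2 h1

theorem closure_lt7 : gen7 = ⊤ :=
  isCoatom_stdStab.2 _ (lt_of_le_of_ne stdStab_le_gen7 fun e =>
    invA_not_mem (e ▸ lt7_mem 5))

end Cfsg.Agent.OutCert
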