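import Cfsg.Agent.Lib.OutCert.Co1Norm
import Cfsg.Agent.Lib.OutCert.Co1Gen

/-!
# The quotient of `Co0` by its centre has no outer automorphisms

* `card_out_co1`
-/

set_option autoImplicit false

namespace Cfsg.Agent.OutCert

open Leech

/-- The projection. -/
noncomputable def q1 : Co0 →* Co0 ⧸ Subgroup.center Co0 := QuotientGroup.mk' (Subgroup.center Co0)

theorem q1_eq_one {g : Co0} : q1 g = 1 ↔ g ∈ Subgroup.center Co0 := QuotientGroup.eq_one_iff g

theorem q1_sign {s : List ℕ} (hs : s ∈ [[], [6]]) (w : List ℕ) : q1 (W (s ++ w)) = q1 (W w) := by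
  rw [W_append, map_mul]
  have : q1 (W s) = 1 := by
    rw [q1_eq_one]
    rcases List.mem_cons.1 hs with rfl | hs
    · rw [W_nil]; exact one_mem _
    · rw [List.mem_singleton.1 hs, W_single]; exact negOne_mem_center
  rw [this, one_mul]

theorem orderOf_q1 {g : Co0} {p : ℕ} [Fact p.Prime] (hg : orderOf g = p) (hp : p ≠ 2) :
    orderOf (q1 g) = p := by
  refine orderOf_eq_prime (by rw [← map_pow, ← hg, pow_orderOf_eq_one, map_one]) fun h => ?_
  rcases center_eq (q1_eq_one.1 h) with rfl | rfl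
  · rw [orderOf_one] at hg
    exact (Fact.out : p.Prime).ne_one hg.symm
  · have : Fact (Nat.Prime 2) := ⟨Nat.prime_two⟩
    have h2 : orderOf negOne = 2 := orderOf_eq_prime (co0_ext fun v => by
      rw [sq, mul_smul, negOne_smul, negOne_smul, one_smul, neg_neg]) negOne_ne_one
    exact hp (hg.symm.trans h2)

/-- Relations between elements of odd order lift. -/
theorem lift_rel {g a : Co0} {e n : ℕ} (hn : Odd n) (ha : orderOf a = n)
    (h : q1 (g * a) = q1 (a ^ e * g)) : g * a = a ^ e * g := by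
  have hc : (a ^ e * g)⁻¹ * (g * a) ∈ Subgroup.center Co0 := QuotientGroup.eq.1 h.symm
  rcases center_eq hc with h1 | h1
  · exact (inv_mul_eq_one.1 h1).symm
  exfalso
  have h2 : g * a * g⁻¹ = negOne * a ^ e := by
    rw [inv_mul_eq_iff_eq_mul, Subgroup.mem_center_iff.1 negOne_mem_center] at h1
    rw [h1, ← mul_assoc, mul_inv_cancel_right]
  have h3 := congrArg (fun b => b ^ n) h2
  have hcn : Commute negOne (a ^ e) :=
    (Subgroup.mem_center_iff.1 negOne_mem_center (a ^ e)).symm
  simp only [conj_pow, hcn.mul_pow, ← pow_mul, mul_comm e n] at h3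
  rw [pow_mul, ← ha, pow_orderOf_eq_one, mul_one, mul_inv_cancel, one_pow, mul_one, ha] at h3
  obtain ⟨k, rfl⟩ := hn
  have hsq : negOne ^ 2 = 1 := co0_ext fun v => by
    rw [sq, mul_smul, negOne_smul, negOne_smul, one_smul, neg_neg]
  rw [pow_succ, pow_mul, hsq, one_pow, one_mul] at h3
  exact negOne_ne_one h3.symm

theorem natCard_co1 : Nat.card (Co0 ⧸ Subgroup.center Co0) * 2 = 8315553613086720000 := by
  rw [← card_co0, Subgroup.card_eq_card_quotient_mul_card_subgroup (Subgroup.center Co0),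
    natCard_center]

/-- A substitution of letters. -/
def substW (σ : ℕ → List ℕ) : List ℕ → List ℕ
  | [] => []
  | k :: w => σ k ++ substW σ w

theorem image_word (f : Co0 ⧸ Subgroup.center Co0 →* Co0 ⧸ Subgroup.center Co0) (σ : ℕ → List ℕ) :
    ∀ w : List ℕ, (∀ k ∈ w, f (q1 (lt7 k)) = q1 (W (σ k))) →
      f (q1 (W w)) = q1 (W (substW σ w))
  | [], _ => by rw [substW, W_nil, map_one, map_one]
  | k :: w, h => by
    rw [show k :: w = [k] ++ w from rfl, W_append, W_single, map_mul, map_mul,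
      h k (by simp), image_word f σ w fun a ha => h a (by simp [ha]), ← map_mul, ← W_append]
    rfl

/-- A relation is violated by a substitution. -/
theorem false_of_moved (f : Co0 ⧸ Subgroup.center Co0 →* Co0 ⧸ Subgroup.center Co0)
    (σ : ℕ → List ℕ) {w : List ℕ} (hw : sameW w [] = true ∨ sameW w [6] = true)
    (hσ : ∀ k ∈ w, f (q1 (lt7 k)) = q1 (W (σ k))) (hm : movedW (substW σ w) = true) : False := by
  refine W_not_central hm (q1_eq_one.1 ?_)
  rw [← image_word f σ w hσ, q1_eq_one.2 (W_central hw), map_one]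

/-- The substitution of one letter and of `x` by `x ^ i`. -/
def sub1 (i kk : ℕ) (opt : List ℕ) (k : ℕ) : List ℕ :=
  if k = 0 then List.replicate i 0 else if k = kk then opt else [k]

/-- An image of a letter with exponent `e`. -/
def optW (c : List ℕ) (e b : ℕ) : List ℕ := c ++ midW e ++ List.replicate b 1

/-- A repeated word. -/
def repW (n : ℕ) (w : List ℕ) : List ℕ := (List.replicate n w).flatten

/-- Relations on `x`, `y`, `z`. -/
def relsZ : List (List ℕ) := [repW 5 [2], repW 4 [1, 2, 2, 0, 2]]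

/-- Relations on `x` and the sign change. -/
def relsD : List (List ℕ) :=
  [[4, 4], repW 2 ([4, 0, 4] ++ List.replicate 22 0)]

/-- Relations on `x`, `z` and `pS`. -/
def relsS : List (List ℕ) := [[3, 3], repW 3 [3, 0], repW 4 [0, 2, 3, 2, 2, 0]]

/-- Relations on `x` and the involution. -/
def relsT : List (List ℕ) := [[5, 5], repW 12 [0, 5]]

theorem rels_ok : ∀ w ∈ relsZ ++ relsD ++ relsS ++ relsT,
    sameW w [] = true ∨ sameW w [6] = true := by
  decide +kernel

theorem rels_letters : (∀ w ∈ relsZ, ∀ k ∈ w, k = 0 ∨ k = 1 ∨ k = 2) ∧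
    (∀ w ∈ relsD, ∀ k ∈ w, k = 0 ∨ k = 4) ∧ (∀ w ∈ relsS, ∀ k ∈ w, k = 0 ∨ k = 2 ∨ k = 3) ∧
    (∀ w ∈ relsT, ∀ k ∈ w, k = 0 ∨ k = 5) := by
  decide +kernel

theorem killZc : ∀ c ∈ cWords, ∀ b < 11, c = [] ∨
    movedW (substW (sub1 1 2 (optW c 3 b)) (repW 5 [2])) = true := by
  decide +kernel

theorem killZb : ∀ i ∈ [1, 5], ∀ b < 11, (i = 1 ∧ b = 0) ∨
    movedW (substW (sub1 i 2 (optW [] 3 b)) (repW 4 [1, 2, 2, 0, 2])) = true := by
  decide +kernel

theorem killZ : ∀ i ∈ [1, 5], ∀ c ∈ cWords, ∀ b < 11, (i = 1 ∧ optW c 3 b = [2]) ∨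
    ∃ w ∈ relsZ, movedW (substW (sub1 i 2 (optW c 3 b)) w) = true := by
  intro i hi c hc b hb
  rcases killZc c hc b hb with rfl | h
  · rcases killZb i hi b hb with ⟨rfl, rfl⟩ | h
    · exact Or.inl ⟨rfl, rfl⟩
    · exact Or.inr ⟨_, List.mem_cons_of_mem _ (List.mem_singleton_self _), h⟩
  · refine Or.inr ⟨_, List.mem_cons_self, ?_⟩
    have e : ∀ (o : List ℕ), substW (sub1 i 2 o) (repW 5 [2]) = substW (sub1 1 2 o) (repW 5 [2]) :=
      fun o => rfl
    rwa [e]

theorem killD : ∀ c ∈ cWords, ∀ b < 11, optW c 1 b = [4] ∨ optW c 1 b = [] ∨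
    ∃ w ∈ relsD, movedW (substW (sub1 1 4 (optW c 1 b)) w) = true := by
  decide +kernel

theorem killS : ∀ c ∈ cWords, ∀ b < 11, optW c 10 b = [3] ∨
    ∃ w ∈ relsS, movedW (substW (sub1 1 3 (optW c 10 b)) w) = true := by
  decide +kernel

theorem killT : ∀ c ∈ cWords, ∀ b < 11, optW c 1 b = [5] ∨ optW c 1 b = [] ∨ optW c 1 b = [4] ∨
    ∃ w ∈ relsT, movedW (substW (sub1 1 5 (optW c 1 b)) w) = true := by
  decide +kernel

theorem letters_conj : sameW [2, 1] [1, 1, 1, 2] = true ∧
    sameW [3, 1] (List.replicate 10 1 ++ [3]) = true ∧ sameW [4, 1] [1, 4] = true ∧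
    sameW [5, 1] [1, 5] = true ∧ movedW [4] = true ∧ movedW [5] = true ∧ movedW [5, 4] = true := by
  decide +kernel

theorem q1_letters_top : Subgroup.closure (Set.range fun k => q1 (lt7 k)) = ⊤ := by
  rw [show (Set.range fun k => q1 (lt7 k)) = q1 '' Set.range lt7 from Set.range_comp q1 lt7,
    ← MonoidHom.map_closure, show Subgroup.closure (Set.range lt7) = ⊤ from closure_lt7]
  exact Subgroup.map_top_of_surjective q1 (QuotientGroup.mk'_surjective _)

theorem card_out_co1 : Nat.card (Cfsg.Out (Co0 ⧸ Subgroup.center Co0)) = 1 := by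
  refine card_out_eq_one _ q1_letters_top fun α => ?_
  have : Fact (Nat.Prime 23) := ⟨by norm_num⟩
  have : Fact (Nat.Prime 11) := ⟨by norm_num⟩
  have oX : orderOf (q1 pX) = 23 := orderOf_q1 orderOf_pX (by norm_num)
  have oY : orderOf (q1 pY) = 11 := orderOf_q1 orderOf_pY (by norm_num)
  obtain ⟨g, i, hi, h1, h2⟩ := exists_inner_normal (p := 23) (r := 11) (x := q1 pX) (y := q1 pY) 2
    oX (fun h => by
      have hd := Dvd.dvd.mul_right h 2
      rw [natCard_co1] at hd
      norm_num at hd)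
    oY (by rw [← map_inv, ← map_mul, ← map_mul, pY_conj_pX, map_pow])
    (by decide +kernel) (by decide +kernel) (by norm_num)
    (fun g h => by
      obtain ⟨g, rfl⟩ := QuotientGroup.mk'_surjective (Subgroup.center Co0) g
      obtain ⟨j, hj⟩ := mem_powers_iff_mem_zpowers.2 h
      change q1 pX ^ j = q1 g * q1 pX * (q1 g)⁻¹ at hj
      rw [eq_mul_inv_iff_mul_eq, ← map_pow, ← map_mul, ← map_mul] at hj
      have h' : g * pX * g⁻¹ ∈ Subgroup.zpowers pX := by
        rw [lift_rel (n := 23) ⟨11, rfl⟩ orderOf_pX hj.symm, mul_inv_cancel_right]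
        exact pow_mem (Subgroup.mem_zpowers _) j
      obtain ⟨a, b, e | e⟩ := normX_pm h'
      · exact ⟨a, b, by rw [e]; show q1 _ = _; rw [map_mul, map_pow, map_pow]⟩
      · refine ⟨a, b, ?_⟩
        rw [e]
        show q1 _ = _
        rw [map_mul q1 negOne, q1_eq_one.2 negOne_mem_center, one_mul, map_mul, map_pow, map_pow])
    [1, 5] (by decide +kernel) α
  refine ⟨g, ?_⟩
  let f : Co0 ⧸ Subgroup.center Co0 →* Co0 ⧸ Subgroup.center Co0 :=
    (MulAut.conj g * α : MulAut (Co0 ⧸ Subgroup.center Co0)).toMonoidHom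
  have finj : Function.Injective f :=
    (MulAut.conj g * α : MulAut (Co0 ⧸ Subgroup.center Co0)).injective
  have fx : f (q1 (lt7 0)) = q1 (W (List.replicate i 0)) := by
    rw [W_replicate, map_pow]; exact h1
  have fy : f (q1 (lt7 1)) = q1 (W [1]) := by rw [W_single]; exact h2
  -- the shape of the image of a letter normalising the doubling
  have shape : ∀ (k e : ℕ), e ∈ [1, 3, 10] → sameW [k, 1] (List.replicate e 1 ++ [k]) = true →
      ∃ c ∈ cWords, ∃ b < 11, f (q1 (lt7 k)) = q1 (W (optW c e b)) := by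
    intro k e he hk
    have hr := W_eq hk
    rw [show ([k, 1] : List ℕ) = [k] ++ [1] from rfl, W_append, W_append, W_replicate, W_single,
      W_single] at hr
    obtain ⟨u, hu⟩ := QuotientGroup.mk'_surjective (Subgroup.center Co0) (f (q1 (lt7 k)))
    change q1 u = _ at hu
    have hfy : f (q1 (lt7 1)) = q1 pY := h2
    have hrel : q1 (u * pY) = q1 (pY ^ e * u) := by
      have := congrArg (fun a => f (q1 a)) hr
      simp only [map_mul, map_pow, hfy, ← hu] at this
      rw [map_mul, map_mul, map_pow]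
      exact this
    have hu' := lift_rel (n := 11) ⟨5, rfl⟩ orderOf_pY hrel
    obtain ⟨s, hs, c, hc, b, hb, e'⟩ := normal_y he hu'
    refine ⟨c, hc, b, hb, ?_⟩
    rw [← hu, e', q1_sign hs]
    rfl
  obtain ⟨hL1, hL2, hL3, hL4⟩ := rels_letters
  obtain ⟨cz, cs, cd, ct, md, mt, mtd⟩ := letters_conj
  -- the element of order five
  obtain ⟨c, hc, b, hb, fz0⟩ := shape 2 3 (by simp) cz
  obtain ⟨rfl, hoz⟩ : i = 1 ∧ optW c 3 b = [2] := by
    rcases killZ i (by simpa using hi) c hc b hb with h | ⟨w, hw, hm⟩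
    · exact h
    · refine (false_of_moved f _ (rels_ok w (by simp [hw])) (fun k hk => ?_) hm).elim
      rcases hL1 w hw k hk with rfl | rfl | rfl
      · exact fx
      · exact fy
      · exact fz0
  have fz : f (q1 (lt7 2)) = q1 (W [2]) := hoz ▸ fz0
  have fx1 : f (q1 (lt7 0)) = q1 (W [0]) := by simpa using fx
  -- the sign change
  obtain ⟨c, hc, b, hb, fd0⟩ := shape 4 1 (by simp) cd
  have fd : f (q1 (lt7 4)) = q1 (W [4]) := by
    rcases killD c hc b hb with h | h | ⟨w, hw, hm⟩
    · exact h ▸ fd0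
    · exfalso
      rw [h, W_nil, map_one, ← map_one f] at fd0
      exact W_not_central md (by rw [W_single]; exact q1_eq_one.1 (finj fd0))
    · refine (false_of_moved f _ (rels_ok w (by simp [hw])) (fun k hk => ?_) hm).elim
      rcases hL2 w hw k hk with rfl | rfl
      · exact fx1
      · exact fd0
  -- the exchange of two points
  obtain ⟨c, hc, b, hb, fs0⟩ := shape 3 10 (by simp) cs
  have fs : f (q1 (lt7 3)) = q1 (W [3]) := by
    rcases killS c hc b hb with h | ⟨w, hw, hm⟩
    · exact h ▸ fs0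
    · refine (false_of_moved f _ (rels_ok w (by simp [hw])) (fun k hk => ?_) hm).elim
      rcases hL3 w hw k hk with rfl | rfl | rfl
      · exact fx1
      · exact fz
      · exact fs0
  -- the involution
  obtain ⟨c, hc, b, hb, ft0⟩ := shape 5 1 (by simp) ct
  have ft : f (q1 (lt7 5)) = q1 (W [5]) := by
    rcases killT c hc b hb with h | h | h | ⟨w, hw, hm⟩
    · exact h ▸ ft0
    · exfalso
      rw [h, W_nil, map_one, ← map_one f] at ft0
      exact W_not_central mt (by rw [W_single]; exact q1_eq_one.1 (finj ft0))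
    · exfalso
      rw [h, ← fd] at ft0
      have e := finj ft0
      refine W_not_central mtd ?_
      rw [show ([5, 4] : List ℕ) = [5] ++ [4] from rfl, W_append, W_single, W_single,
        ← q1_eq_one, map_mul, e, ← map_mul, q1_eq_one]
      have hd2 : W [4, 4] ∈ Subgroup.center Co0 :=
        W_central (rels_ok [4, 4] (by simp [relsD]))
      rwa [show ([4, 4] : List ℕ) = [4] ++ [4] from rfl, W_append, W_single] at hd2
    · refine (false_of_moved f _ (rels_ok w (by simp [hw])) (fun k hk => ?_) hm).elim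
      rcases hL4 w hw k hk with rfl | rfl
      · exact fx1
      · exact ft0
  rintro _ ⟨k, rfl⟩
  show f (q1 (lt7 k)) = q1 (lt7 k)
  rw [← W_single k]
  by_cases h6 : k < 6
  · interval_cases k
    · rw [W_single]; exact W_single 0 ▸ fx1
    · rw [W_single]; exact W_single 1 ▸ fy
    · rw [W_single]; exact W_single 2 ▸ fz
    · rw [W_single]; exact W_single 3 ▸ fs
    · rw [W_single]; exact W_single 4 ▸ fd
    · rw [W_single]; exact W_single 5 ▸ ft
  · have hk : lt7 k = negOne := by
      unfold lt7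
      rw [if_neg (by omega), if_neg (by omega), if_neg (by omega), if_neg (by omega),
        if_neg (by omega), if_neg (by omega)]
    rw [W_single, hk, q1_eq_one.2 negOne_mem_center, map_one]

end Cfsg.Agent.OutCert
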