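import Cfsg.Agent.Lib.Golay.Perm
import Cfsg.Agent.Lib.StabCert.Chain

/-!
# Certificate data: three generators of the stabiliser of a point in `M24`

* `m23Perms`, `m23Words` : derived letters and their words;  `m23Chain` : a stabiliser chain
-/

set_option autoImplicit false

namespace Cfsg.Agent.OutCert

/-- The letters as packed permutations. -/
def m23Perms : List ℕ :=
  [0xb82d5a4e5183dcd62d4941cc520c41,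
   0xbd6717b56939461b52507314831040,
   0xbae75734e2a3d8354606b24b222020,
   0xb98a2659c38124754d21a3d156ae20,
   0xbb09411e63322b15164b835cf4d820,
   0xb90f1aa5762c9afa0dca9999040820,
   0xba4d29c0b4639446ad16a9c6f88820,
   0xb9cac1b553424c4b2e508ba9578820,
   0xbd17661a2a23933ac1a7448af18820,
   0xbcc8cb2a265b8f47c9096c0b518820,
   0xba64d4562f83a87312d362caa18820,
   0xb990f640a75466db512492dd518820,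
   0xbc92655a2c3b9706cea47d0a818820]

/-- Each letter after the third as a word in earlier ones. -/
def m23Words : List (List ℕ) :=
  [[0], [1], [2], [0, 2, 0, 1, 0, 0, 0], [3, 2, 1], [4, 4, 4, 4, 2, 2, 4, 4, 4], [2, 2, 2, 2, 4, 4, 4, 4, 2, 4], [2, 2, 2, 2, 4, 4, 4, 2, 4, 2], [5, 5, 7, 7], [6, 6, 6, 6, 5, 7], [5, 5, 5, 5, 7, 6], [5, 5, 6, 6, 5, 7, 5], [11, 11, 9, 11]]

/-- Level 0. -/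
def m23Lev0 : StabCert.Lev :=
  ⟨0, [0, 1, 2, 3, 4, 5, 6, 7, 8, 9, 10, 11, 12], [[], [0], [0, 0], [3, 0], [0, 0, 0], [1, 0, 0], [2, 0, 0], [3, 0, 0], [4, 0, 0], [0, 3, 0], [2, 3, 0], [3, 3, 0], [4, 3, 0], [6, 3, 0], [7, 3, 0], [1, 0, 0, 0], [3, 0, 0, 0], [4, 0, 0, 0], [7, 0, 0, 0], [3, 1, 0, 0], [5, 1, 0, 0], [0, 3, 0, 0], [5, 3, 0, 0]],
    [(1, []), (2, []), (4, []), (9, []), (5, [4, 4, 1, 4, 4, 6, 7, 11, 11]), (13, [3, 1, 1, 2, 2, 5, 9, 5, 11, 9]), (17, [2, 3, 5, 2, 5, 6, 10, 9]), (21, []), (0, [7, 3, 4, 5, 2, 11, 5, 5, 11, 12, 9]), (12, [3, 1, 1, 12, 4, 6, 5, 11, 11, 10, 9]), (6, [5, 3, 1, 8, 2, 11, 6, 5, 11, 9]), (18, [2, 3, 4, 2, 2, 11, 5, 5, 10, 9]), (22, [4, 1, 5, 5, 2, 11, 11, 12, 10, 9, 8]), (15, [1, 1, 9, 4, 2, 9, 5, 12, 10, 8]), (7, [3, 1, 1, 8, 4,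 6, 5, 11, 9]), (10, [3, 1, 1, 2, 2, 6, 11, 12]), (11, [4, 4, 1, 7, 2, 2, 5, 5, 11, 12, 10, 9]), (14, [1, 1, 8, 4, 2, 9, 5, 5, 11, 11, 9, 8]), (20, [2, 2, 1, 5, 2, 5, 10, 9, 8]), (8, [6, 3, 7, 2, 8, 5, 10, 9, 8]), (3, [3, 1, 11, 2, 9, 8, 5, 11, 11, 10, 9, 8]), (16, [7, 4, 3, 4, 2, 6, 6, 11, 11, 10, 8]), (19, [2, 1, 1, 9, 2, 8, 5, 11, 10]), (0, [1]), (2, [1]), (5, []), (7, [5, 1, 1, 2, 11, 5, 11, 10, 9]), (15, []), (6, [3, 1, 2, 2, 11, 5, 11, 12, 9, 8]), (20, [3, 1, 10, 2, 10, 9, 8]), (8, [3, 3, 4, 6, 8, 5, 12, 10, 8]), (19, [5, 1, 1, 2, 5, 2, 9, 8, 5, 11, 10, 9, 8]), (16, [6, 3, 8, 2, 6, 11, 12, 10, 9, 8]), (11, [3, 1, 8, 2, 7, 5, 12]), (13, [3, 3, 4, 5, 2, 10, 5, 11, 11, 12]), (18, [1, 12, 4, 11, 5, 5, 11, 11, 12, 9, 8]), (14, [9, 2, 1, 12, 4, 6, 5, 11, 11, 10,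 9, 8]), (22, [2, 1, 4, 7, 11, 12, 10, 9, 8]), (21, [1, 1, 5, 6, 11, 12, 10, 8]), (4, [5, 1, 1, 9, 2, 5, 5, 11, 11, 9, 8]), (9, [3, 1, 1, 12, 4, 6, 6, 11, 10, 9]), (10, [7, 4, 3, 10, 2, 5, 11, 11, 12, 9, 8]), (12, [4, 4, 1, 2, 6, 8, 5, 11, 11, 9]), (17, [4, 3, 10, 2, 11, 5, 5, 11, 12, 10, 8]), (1, [1, 1, 4, 5, 2, 5, 5, 11, 11, 12, 10, 9]), (3, [4, 1, 1, 10, 2, 11, 5, 11, 11, 12]), (0, [2]), (1, [2, 3, 10, 2, 5, 11, 12, 9]), (6, []), (10, []), (5, [2, 3, 5, 5, 2, 6, 7, 11, 11, 12]), (9, [1, 1, 4, 5, 2, 8, 5, 11, 11]), (15, [2, 2, 1, 8, 4, 2, 11, 5, 5, 11, 11, 12, 10, 9]), (14, [2, 2, 1, 4, 8, 5, 10, 9, 8]), (7, [6, 3, 1, 4, 4, 11, 6, 5, 10]), (16, [6, 3, 1, 4, 6, 6, 11, 10]), (8, [7, 3, 4, 5, 6, 12, 10, 9]), (18, [1, 1, 8, 4, 2, 6, 5, 11, 11, 12, 10, 9]), (11, [2,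 3, 7, 8]), (13, [6, 3, 7, 2, 2, 7, 5, 11, 12, 10, 9, 8]), (3, [2, 7]), (17, [4, 4, 1, 2, 6, 8, 5, 11, 11, 12, 10, 8]), (21, [3, 1, 4, 5, 2, 5, 9, 5, 12, 10]), (20, [4, 1, 1, 4, 2, 9, 8, 5, 11, 12, 8]), (22, [7, 3, 2, 2, 9, 5, 5, 11, 12, 8]), (12, [2, 2, 1, 4, 5, 2, 10, 5, 11, 11, 10, 9, 8]), (2, [2, 3, 2, 5, 2, 11, 6, 5, 11, 12, 9]), (4, [4, 4, 1, 7, 2, 2, 11, 6, 5, 12, 8]), (19, [4, 3, 4, 2, 2, 11, 5, 5, 11, 11]), (0, [3]), (3, []), (7, []), (11, []), (16, []), (19, []), (1, [5, 3, 1, 4, 5, 2, 6, 9]), (14, [2, 1, 2, 2, 5, 9, 5, 12, 8]), (15, [6, 3, 1, 4, 4, 5, 5, 9, 8]), (8, [5, 1, 1, 10, 2, 8, 5, 11, 11, 12, 10, 9]), (22, [7, 3, 8, 4, 6, 8, 5, 11, 11, 12, 10, 9, 8]), (5, [4, 3, 7, 2, 5, 5, 11, 11, 12]), (21, [3, 1, 8, 4, 2, 7, 11, 12, 10, 8]), (6, [1, 8, 4, 2,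 11, 6, 5, 11, 10, 9]), (12, [6, 3, 9, 8, 5, 12, 10, 9, 8]), (18, [3, 1, 1, 12, 4, 6, 6, 11, 11, 9, 8]), (9, [6, 3, 1, 7, 2, 2, 5, 9, 5, 11, 11, 9, 8]), (17, [1, 1, 7, 2, 11, 5, 11, 12, 10, 8]), (20, [3, 12, 4, 9, 8, 5, 10, 8]), (13, [4, 4, 1, 4, 6, 7, 10, 9]), (4, [4, 4, 1, 9, 2, 11, 5, 5, 11, 9, 8]), (10, [4, 1, 1, 4, 2, 6, 7, 11, 11, 12, 8]), (2, [5, 1, 1, 9, 4, 2, 5, 6, 12]), (0, [4]), (1, [3, 1, 1, 8, 2, 9, 5, 11, 11, 10, 8]), (8, []), (12, []), (17, []), (18, [4, 1, 1, 7, 2, 5, 9, 5, 12, 10, 9, 8]), (7, [1, 1, 7, 2, 2, 6, 7, 11, 11, 10, 9]), (14, [6, 3, 1, 9, 4, 2, 11, 5, 11, 10, 9]), (21, [4, 1, 8, 4, 6, 7, 11, 11, 10, 8]), (10, [7, 3, 9, 4, 2, 8, 5, 12, 10, 8]), (20, [3, 4, 5, 2, 11, 5]), (6, [7, 4, 3, 9, 4, 2, 11, 5, 11, 12, 10, 9]), (2, [7, 4, 3, 5, 2,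 11, 5, 11, 10, 9]), (11, [6, 3, 1, 4, 9, 5, 5, 11, 9]), (13, [6, 3, 2, 9, 5, 5, 11, 11, 10, 8]), (16, [4, 1, 7, 2, 11, 6, 5, 8]), (19, [6, 3, 4, 5, 2, 11, 5, 11, 11, 12, 9]), (9, [5, 3, 1, 4, 4, 5, 9, 5, 11, 11, 10, 9]), (15, [4, 1, 9, 2, 7, 11, 11, 10]), (5, [5, 2, 9, 5, 11, 11, 10, 8]), (4, [7, 3, 8, 4, 7, 5, 11, 11, 12, 8]), (3, [1, 1, 7, 2, 6, 8, 5, 8]), (22, [2, 1, 12, 4, 5, 12, 10, 8]), (0, [5]), (1, [8, 2, 12, 10, 9, 8]), (2, [2, 2, 1, 4, 5, 12, 10, 8]), (7, [6, 3, 2, 6, 7, 11, 11, 8]), (6, [2, 3, 12, 4, 5, 5, 11, 12, 8]), (20, []), (14, [1, 1, 11, 2, 9, 8, 5, 11, 11, 12, 10]), (22, []), (5, [6, 3, 2, 2, 6, 12, 10, 8]), (17, [2, 2, 11, 11, 12, 9]), (12, [3, 3, 7, 2, 8, 5, 11, 11, 10, 8]), (9, [4, 3, 11, 2, 11, 5, 5, 11, 11, 9, 8]), (19, [2, 2, 1, 2, 2, 5,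 6, 11, 11, 8]), (21, [3, 4, 2, 2, 8, 5, 10, 9, 8]), (4, [5, 5, 2, 10, 5, 11, 12, 10, 8]), (15, [1, 4, 5, 2, 11, 6, 5, 8]), (16, [9, 2, 1, 5, 5, 2, 6, 5, 9, 8]), (11, [7, 4, 3, 5, 2, 9, 8, 5, 11, 10, 8]), (13, [3, 1, 1, 4, 2, 2, 9, 5, 5, 11, 11, 10, 8]), (10, [5, 3, 1, 5, 6, 10, 8]), (8, [6, 3, 1, 8, 4, 7, 5, 12]), (18, [2, 2, 1, 11, 2, 6, 11, 10, 9]), (3, [1, 7, 2, 9, 5, 11, 11, 12, 8]), (0, [6]), (1, [7, 2, 5, 11, 12]), (2, [4, 1, 1, 4, 2, 2, 10, 5, 8]), (13, []), (3, [6, 3, 7, 2, 2, 6, 5, 11, 12, 10]), (18, [4, 3, 2, 5, 2, 10, 5, 11, 11]), (8, [1, 7, 2, 2, 6, 11, 12, 10]), (16, [2, 1, 4, 9, 5, 5, 11, 11, 12, 10]), (17, [3, 1, 4, 5, 2, 5, 5, 11, 12, 8]), (20, [9, 2, 1, 8, 4, 2, 5, 11, 10, 8]), (19, [4, 1, 4, 5, 2, 11, 6, 5, 11, 10, 9, 8]), (11, [4, 3, 4, 2, 9,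 5, 5, 8]), (12, [1, 1, 8, 2, 9, 5, 5, 11, 11, 10]), (4, [2, 3, 8, 4, 5, 6, 11, 12, 9]), (7, [2, 3, 5, 5, 11, 10, 8]), (10, [3, 1, 4, 4, 8, 5, 10, 9, 8]), (14, [1, 4, 4, 8, 5, 11, 11, 10, 8]), (6, [3, 1, 4, 4, 9, 5, 5, 11, 11, 8]), (21, [4, 3, 8, 4, 9, 5, 5, 11, 11, 8]), (15, [7, 4, 3, 8, 4, 2, 6, 5, 11, 11, 12, 10]), (22, [1, 4, 2, 6, 6, 11, 10, 9]), (5, [6, 3, 2, 5, 2, 9, 8, 5, 11, 12, 10, 8]), (9, [2, 1, 11, 2, 10, 5, 11, 11, 10, 8]), (0, [7]), (1, [7, 2, 2, 6, 6, 11, 11, 10, 9]), (2, [6, 3, 1, 4, 5, 2, 8, 5, 10]), (14, []), (18, []), (19, [2, 1, 1, 7, 2, 2, 11, 6, 5, 11, 12, 9]), (20, [4, 3, 4, 4, 5, 5, 11, 12, 8]), (8, [6, 3, 1, 7, 2, 7, 11, 12]), (10, [6, 3, 1, 4, 5, 2, 9, 8, 5, 11, 12]), (16, [3, 1, 4, 2, 6, 11, 10, 9, 8]), (3, [4, 2, 2, 6, 7, 11, 12, 8]),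 (17, [6, 3, 8, 4, 2, 6, 5, 11, 11, 12, 10]), (4, [2, 1, 2, 7, 5, 11, 11, 12, 8]), (22, [5, 3, 1, 10, 2, 7, 5, 11, 10, 8]), (7, [7, 3, 7, 2, 9, 8, 5, 11, 11, 9]), (11, [6, 3, 5, 2, 9, 5, 5, 12, 8]), (15, [3, 1, 4, 6, 8, 5, 11, 12, 9]), (9, [3, 1, 8, 2, 11, 11, 10, 9, 8]), (6, [7, 4, 3, 9, 5, 5, 11, 11, 12, 8]), (13, [2, 1, 8, 4, 6, 5, 11, 11, 12, 9]), (12, [5, 3, 1, 9, 2, 6, 11, 11, 8]), (5, [3, 3, 7, 2, 9, 5, 11, 12, 10]), (21, [4, 3, 4, 8, 5, 11, 10, 8]), (0, [8]), (1, [5, 9, 5, 12, 8]), (2, [4, 2, 2, 11, 6, 5, 11, 11, 10, 9, 8]), (3, [7, 4, 3, 7, 2, 2, 10, 5, 11, 10, 9]), (4, [4, 4, 1, 8, 4, 11, 5, 5, 11, 11, 12]), (18, [2, 2, 1, 5, 2, 11, 6, 5, 11, 11, 12, 10, 9]), (10, [5, 1, 1, 2, 5, 2, 9, 8, 5, 12, 10]), (19, [3, 3, 4, 2, 2, 9, 5, 5, 12, 10, 9, 8]), (22,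 [7, 2, 8, 5, 11, 11, 12, 10, 8]), (15, [2, 1, 1, 12, 4, 6, 11, 10]), (6, [2, 3, 11, 2, 6]), (11, [6, 3, 7, 2, 11, 12, 9]), (21, [1, 1, 2, 11, 5, 5, 10, 9]), (13, [3, 10, 2, 11, 6, 5, 11, 9, 8]), (20, [4, 1, 1, 7, 2, 2, 11, 5, 5, 11, 11, 10, 9, 8]), (9, [3, 1, 1, 4, 2, 7, 5, 12]), (17, [6, 3, 7, 2, 2, 6, 11, 12]), (16, [3, 1, 8, 4, 9, 8, 5, 11, 11, 10]), (5, [4, 1, 1, 12, 4, 6, 6, 11, 12, 10, 9]), (7, [4, 4, 1, 5, 6, 11, 12, 10, 9, 8]), (14, [2, 1, 4, 2, 2, 11, 6, 5, 12, 9, 8]), (12, [5, 3, 1, 4, 2, 5, 6, 11, 11, 12, 10, 9, 8]), (8, [4, 4, 5, 6]), (0, [9]), (1, [11, 5, 5, 11, 11, 12, 10, 9, 8]), (2, [10, 2, 6, 7, 11, 10, 9]), (3, [6, 3, 4, 2, 6, 8, 5, 12, 10, 9]), (4, [2, 1, 1, 11, 2, 11, 5, 11, 12, 10, 9]), (19, [3, 2, 5, 2, 11, 6, 5, 11, 11, 12, 10, 9, 8]), (17,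 [7, 3, 2, 2, 11, 11, 10, 9]), (18, [4, 3, 7, 2, 11, 5, 5, 11, 8]), (12, [5, 1, 1, 2, 5, 2, 9, 8, 5, 12, 10]), (14, [5, 3, 1, 4, 5, 2, 11, 5, 5, 12]), (16, [7, 3, 10, 2, 5, 9, 5, 11, 11, 12]), (11, [1, 4, 4, 7, 12, 8]), (8, [2, 3, 11, 2, 6]), (13, [3, 1, 1, 2, 5, 2, 11, 5, 5, 12, 9]), (9, [4, 4, 1, 2, 5, 2, 6, 8, 5, 11, 12, 8]), (20, [2, 3, 8, 4, 2, 9, 8, 5, 11, 11, 8]), (10, [4, 1, 1, 9, 2, 6, 7, 11, 9, 8]), (6, [5, 3, 1, 9, 4, 2, 11, 5, 5, 12]), (7, [4, 4, 1, 4, 2, 7, 5, 11, 11, 10, 8]), (5, [4, 1, 1, 8, 4, 7, 11, 11, 12, 10, 9]), (15, [6, 3, 11, 2, 6, 7, 11, 11, 12, 8]), (22, [2, 3, 5, 5, 11, 12, 10, 9]), (21, [5, 3, 1, 9, 4, 2, 7, 5, 12, 10, 9, 8]), (0, [10]), (1, [9, 5, 11, 12, 9, 8]), (2, [2, 6, 7, 11, 11, 9]), (3, [3, 1, 1, 2, 5, 2, 11, 5, 5, 12, 9]), (4,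 [2, 3, 9, 4, 2, 8, 5]), (14, [7, 3, 4, 12, 10, 9]), (12, [5, 5, 9]), (15, [2, 3, 4, 5, 2, 5, 9, 5, 11, 11, 12, 9]), (17, [4, 1, 4, 9, 8, 5, 12, 10]), (19, [1, 1, 7, 2, 6, 7, 9, 8]), (21, [3, 3, 4, 4, 6, 11, 11, 10, 8]), (11, [5, 1, 1, 9, 2, 10, 5, 11, 9, 8]), (6, [9, 5]), (13, [3, 3, 5, 5, 2, 7, 5, 12]), (5, [3, 3, 4, 5, 6, 12, 10, 9]), (7, [2, 1, 12, 4, 6, 7, 11, 10]), (22, [4, 1, 1, 8, 4, 6, 7, 11, 10, 9, 8]), (8, [6, 3, 8, 4, 2, 10, 5, 11, 12, 10]), (20, [6, 3, 4, 2, 2, 9, 5, 5, 12, 10]), (9, [6, 3, 4, 5, 2, 6, 7, 11, 11, 9]), (18, [2, 3, 4, 11, 12, 10, 8]), (10, [9, 2, 1, 4, 2, 2, 11, 12, 10, 9, 8]), (16, [1, 1, 11, 2, 5, 6, 12]), (0, [11]), (1, [11, 5, 5, 8]), (2, [10, 2, 6, 11, 12, 10, 9]), (13, [1, 1, 2, 7, 5, 11, 12, 9]), (4, [2, 1, 1, 2, 5, 2, 9, 5, 5,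 11, 11, 10, 9, 8]), (19, [4, 1, 4, 5, 2, 9]), (5, [5, 3, 1, 4, 2, 9, 5, 12, 10, 9, 8]), (8, [4, 1, 1, 2, 5, 2, 5, 5, 11, 11, 12, 10, 8]), (15, [6, 3, 1, 5, 2, 6, 7, 11, 11, 12, 10, 9, 8]), (20, [5, 1, 1, 12, 4, 11, 5, 5, 11, 11, 9]), (9, [9, 2, 1, 2, 5, 2, 9, 5, 5, 12]), (3, [2, 2, 1, 4, 7, 5, 12, 10, 9, 8]), (21, [2, 1, 2, 5, 2, 6, 11, 11, 10, 8]), (11, [7, 3, 4, 2, 11, 11, 10, 9]), (22, [5, 3, 1, 10, 2, 7, 5, 11, 10, 8]), (7, [4, 4, 1, 2, 5, 2, 9, 5, 5, 9]), (12, [5, 1, 1, 7, 2, 2, 11, 5, 11, 11, 10, 9, 8]), (17, [2, 1, 5, 5, 2, 6, 11, 11, 10, 9]), (14, [6, 3, 7, 2, 2, 6, 5, 11, 12, 10]), (6, [9, 2, 1, 4, 9, 5, 5, 11, 11, 10, 8]), (10, [3, 8, 4, 2, 6, 7, 11, 11, 8]), (16, [3, 1, 1, 7, 2, 2, 5, 5, 9]), (18, [6, 3, 1, 5, 5]), (0, [12]), (1, [8, 5, 12, 10, 8]),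 (2, [2, 2, 9, 8, 5, 11, 11, 12, 10, 9, 8]), (3, [1, 4, 4, 9, 8, 5, 10]), (4, [6, 3, 8, 4, 5, 6, 11, 10]), (6, [6, 3, 1, 11, 2, 5, 5, 11, 11, 12, 10, 9, 8]), (5, [1, 7, 2, 9, 5, 5, 11, 11, 12, 9]), (16, [4, 1, 10, 2, 5, 6, 11, 12, 10, 9, 8]), (9, [2, 2, 1, 10, 2, 5, 9, 5, 10]), (8, [6, 3, 8, 4, 2, 7, 12, 9]), (18, [6, 3, 1, 4, 4, 11, 5, 5, 11, 11, 10, 9]), (11, [7, 3, 8, 2, 9, 5, 11]), (14, [3, 3, 2, 2, 6, 7, 8]), (13, [7, 3, 2, 5, 2, 11, 5, 5, 11, 11, 12, 10, 9]), (12, [2, 1, 11, 2, 10, 5, 12, 10, 9]), (22, [5, 1, 1, 8, 5, 12, 10]), (7, [2, 3, 5, 5, 2, 7, 5, 11, 12, 10]), (19, [1, 1, 7, 2, 6, 11, 11]), (10, [3, 1, 1, 9, 4, 2, 6, 7, 11, 11, 12, 10]), (17, [4, 1, 1, 9, 2, 6, 5, 11, 10, 9]), (21, [2, 1, 4, 2, 6, 8, 5, 10, 9]), (20, [3, 3, 11, 2, 5, 11, 12, 9]), (15,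 [3, 3, 2, 2, 9, 8, 5, 11, 12, 9])]⟩

/-- Level 1. -/
def m23Lev1 : StabCert.Lev :=
  ⟨1, [1, 2, 3, 4, 5, 6, 7, 8, 9, 10, 11, 12], [[], [1], [3], [1, 1], [2, 1], [3, 1], [4, 1], [2, 3], [3, 3], [4, 3], [6, 3], [7, 3], [2, 1, 1], [3, 1, 1], [4, 1, 1], [5, 1, 1], [2, 2, 1], [9, 2, 1], [5, 3, 1], [6, 3, 1], [4, 4, 1], [7, 4, 3]],
    [(1, []), (3, []), (5, [9, 2, 11, 6, 5, 11, 8]), (4, [7, 2, 7]), (15, [9, 2, 6, 5, 9, 8]), (6, [8, 4, 11, 6, 5, 11, 11, 12]), (13, [5, 5, 2, 9, 5, 11, 12, 10, 8]), (8, [4, 4, 5, 6, 10, 9, 8]), (10, [9, 4, 2, 6, 8, 5, 11, 10, 9, 8]), (14, [4, 5, 2, 5, 5, 11, 12, 9, 8]), (11, [5, 2, 6, 8, 5, 11, 11]), (18, [4, 5, 2, 7, 5, 10, 9, 8]), (19, [5, 5, 2, 7, 5, 11]), (9, [5, 2, 6, 8, 5, 11, 12, 10, 8]), (7, [4, 4, 11, 10, 9, 8]), (17, [12, 4, 9,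 8, 5, 11, 11, 12, 10]), (20, [9, 4, 2, 6, 7, 11, 11, 8]), (12, [8, 4, 2, 11, 5, 12, 8]), (2, [2, 5, 2, 9, 5, 11]), (21, [8, 2, 6, 12, 10, 9]), (0, [4, 4, 6, 7, 11, 11]), (16, [8, 4, 9, 8, 5, 10, 9]), (0, [2]), (4, []), (7, []), (12, []), (16, []), (11, [9, 4, 2, 11, 5, 5, 9]), (5, [9, 4, 2, 11, 5, 5, 8]), (6, [2, 2, 7, 5, 12, 10, 9]), (14, [5, 5, 2, 9, 5, 5, 11, 10, 8]), (8, [2, 6, 5, 11, 12, 10]), (10, [2, 2, 11, 6, 5, 11, 12, 10, 9, 8]), (2, [9, 5, 12, 10, 9]), (19, [9, 2, 12]), (9, [2, 7, 11, 11, 12, 10, 8]), (18, [7, 2, 2, 9, 5, 11, 11, 10, 9, 8]), (1, [8, 4, 8, 5, 11, 11, 10, 9]), (17, [10, 2, 6, 8, 5, 11, 11, 9]), (15, [4, 5, 2, 5, 10, 9]), (13, [7, 2, 5, 6, 12, 10, 8]), (20, [2, 5, 9, 5, 11, 11, 12]), (21, [8, 4, 2, 5, 5, 11, 11, 10]), (3, [7, 2, 2, 6, 11,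 11, 9, 8]), (2, []), (5, []), (8, []), (13, []), (0, [4]), (11, [11, 2, 5, 5, 11, 10, 8]), (16, [5, 5, 2, 9, 5, 5, 12, 10, 9, 8]), (18, [2, 2, 9, 5, 11, 11, 8]), (3, [4, 6, 7, 11, 11, 12, 8]), (20, [2, 2, 5, 6, 11, 11, 12, 10, 9]), (4, [6, 5, 10, 9, 8]), (9, [2, 2, 6, 8, 5]), (6, []), (10, [7, 2, 6, 7, 11, 11, 12, 9]), (15, [5, 10, 9]), (21, [4, 4, 6, 5, 12, 8]), (14, [2]), (17, [9, 4, 2, 7, 12, 8]), (1, [5, 2, 8, 5, 11, 10, 9, 8]), (12, [9, 4, 2, 11, 6, 5, 11, 11, 12, 10, 9, 8]), (7, [2, 5, 2, 6, 5, 12]), (19, [4, 2, 2, 5, 5, 11, 11, 12, 10, 9]), (0, [4]), (6, []), (9, []), (14, []), (5, [2, 2]), (11, [10, 2, 6, 7, 12, 10, 9]), (20, []), (15, [8, 4, 2, 5, 6, 12, 9]), (4, [7, 2, 2, 6, 6, 11, 12]), (1, [7, 2, 2, 9, 5, 11, 11, 9]), (8, [7, 2, 2, 9, 5, 5, 10, 9, 8]),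 (10, [2, 2, 9, 5, 11, 11, 12, 9, 8]), (7, [4, 2, 2, 9, 5, 11, 10]), (3, [2, 2, 6, 7, 11, 11, 12, 9]), (16, [4, 2, 6, 5]), (21, [5, 5, 2, 11]), (19, [2, 2, 6, 12, 10]), (12, [8, 2, 5, 5, 11, 11, 10]), (18, [8, 2, 5, 6, 11, 9, 8]), (13, [12, 4, 11, 5, 5, 12, 9, 8]), (2, [5, 5, 2, 11, 5, 12, 9]), (17, [6, 8, 5, 10, 9]), (0, [5]), (1, [2, 6, 7, 12, 8]), (5, [9, 4, 2, 11, 5, 12, 9]), (15, []), (11, [2, 5, 2, 11, 5, 5, 11, 10, 9, 8]), (18, []), (3, [8, 2, 9, 5, 5, 11, 11, 12, 9, 8]), (9, [9, 4, 2, 6, 6, 12]), (12, [5, 5, 2, 9, 5, 5, 11, 12]), (13, [11, 2, 6, 7, 9]), (20, [10, 2, 9, 5, 10, 9, 8]), (21, [12, 4, 9, 5, 11, 12, 9, 8]), (17, [7, 2, 6, 8, 5, 12, 9]), (7, [2, 11, 12, 10, 9, 8]), (10, [9, 4, 2, 11, 12, 9, 8]), (6, [2, 6, 6, 11, 11, 12]), (16, [11, 5, 5, 12, 10,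 9, 8]), (8, [9, 4, 2, 6, 8, 5, 11, 10, 8]), (2, [5, 2, 6, 11, 11, 10]), (19, [8, 5, 11, 12, 10]), (14, [8, 4, 2, 6, 5, 8]), (4, [10, 2, 11, 5, 5, 11, 11, 12, 10, 8]), (0, [6]), (1, [10, 2, 9, 5, 11, 12, 8]), (10, []), (14, [4, 4, 5, 9, 5, 11, 11, 8]), (6, [9, 4, 2, 5, 11, 11, 10, 9]), (19, []), (17, [10, 2, 7, 5, 11, 11, 10, 8]), (13, [4, 4, 6, 8, 5, 11, 12, 8]), (8, [8, 4, 9, 5, 11, 9, 8]), (9, [4, 5, 2, 9, 8, 5, 11, 12, 9]), (21, [10, 2, 7, 5, 10, 9]), (5, [7, 2, 9, 5, 5, 11, 11, 10, 8]), (15, [4, 2, 5, 6, 12, 8]), (16, [4, 4, 6, 7, 8]), (20, [10, 2, 5, 5, 10]), (18, [4, 4, 10, 5, 10]), (7, [11, 6, 5, 11, 12, 10, 8]), (4, [4, 2, 10]), (12, [4, 5, 2, 11, 11, 12, 10]), (11, [12, 4, 5, 6, 11, 12, 9, 8]), (3, [10, 2, 7, 11, 12, 9]), (2, [5, 5, 2, 8, 5, 10]), (0,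 [7]), (1, [4, 9, 5, 5, 11, 11, 10, 8]), (11, []), (13, [8, 4, 2, 11, 5, 5, 11, 11, 12, 10, 9]), (15, [9, 2, 6, 5, 11, 12, 9, 8]), (6, [4, 5, 2, 10, 5, 11, 11, 12, 8]), (7, [8, 4, 5, 5, 11, 10, 9, 8]), (2, [5, 9, 5, 12, 10]), (17, [8, 2, 8, 5, 11, 11, 12]), (21, []), (18, [4, 2, 8, 5, 11, 11, 8]), (5, [2, 2, 5, 9, 5, 11, 11, 12, 10]), (19, [8, 4, 5, 9, 5, 12, 10, 9]), (10, [2, 9, 5, 11, 11, 12, 8]), (4, [9, 4, 2, 9, 8, 5, 12, 9, 8]), (9, [4, 5, 2, 6, 6, 12, 10, 9]), (8, [12, 4, 11, 6, 5, 9, 8]), (12, [2, 5, 2, 7, 5, 11, 12, 9]), (20, [4, 2, 6, 5, 11, 11, 9, 8]), (16, [4, 7, 11, 10, 9, 8]), (3, [9, 4, 2, 5, 9]), (14, [4, 4, 5, 6, 11, 12, 9]), (0, [8]), (1, [10, 2, 8, 5, 11, 11, 12, 10]), (2, [11, 2, 11, 6, 5, 9, 8]), (14, [7, 2, 5, 5, 12, 10, 8]), (7, [4, 5, 2, 5,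 12, 9]), (13, [4, 4, 6, 8, 5, 10]), (18, [9, 2, 5, 6, 11, 11, 9]), (4, [7, 2, 6, 5, 11, 12, 9, 8]), (8, [2, 2, 12, 10, 8]), (20, [9, 2, 9, 5, 5, 11, 11, 12, 8]), (10, [12, 4, 5, 11, 9, 8]), (15, [8, 4, 6, 8, 5, 12, 9, 8]), (16, [4, 2, 2, 5, 12]), (5, [11, 2, 6, 6, 11, 12, 8]), (3, [4, 2, 6, 5, 11, 11, 12, 10, 8]), (11, [4, 5, 2, 7, 11, 12, 9]), (12, [4, 2, 2, 5, 9, 5, 10, 9]), (19, [12, 4, 11, 6, 5, 9]), (6, [8, 2, 6, 6, 11, 12, 10, 9]), (17, [2, 5, 2, 11, 6, 5, 10, 9, 8]), (9, [9, 2, 6, 6, 11, 11, 12, 9, 8]), (21, [11, 2, 6, 7, 11, 12, 9]), (0, [9]), (1, [4, 5, 9, 5, 11, 9, 8]), (2, [2, 2, 9, 5, 5, 11, 10, 9]), (13, [2, 6, 8, 5, 11, 12, 8]), (17, []), (14, [4, 2, 6, 8, 5, 11, 12, 9]), (9, [4, 5, 2, 5, 12, 9]), (19, [9, 4, 2, 7, 5, 11, 11, 12, 10, 8]), (8, [5,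 5, 2, 7, 5, 11, 12, 9]), (6, [7, 2, 6, 5, 11, 12, 9, 8]), (10, [4, 9, 5, 5, 12, 10, 9]), (12, [4, 2, 10, 5, 11, 9]), (11, [4, 5, 2, 5, 5]), (3, [2, 2, 5, 11, 8]), (5, [5, 5, 2, 5, 9, 5, 12, 10, 9, 8]), (16, [4, 2, 2, 6, 7, 12, 9, 8]), (15, [4, 2, 5, 10, 9, 8]), (4, []), (20, [10, 2, 5, 5, 11, 11, 12, 10, 9]), (7, [9, 2, 9, 5, 11, 11, 9]), (18, [8, 2, 9, 5, 5, 12, 9, 8]), (21, [9, 4, 2, 9, 5, 11, 11, 10, 9]), (0, [10]), (1, [4, 5, 2, 6, 6, 10, 8]), (2, [4, 9, 5, 5, 12, 10, 9]), (11, [9, 4, 2, 6, 5, 12, 9]), (9, [5, 5, 2, 5, 5, 11, 11, 12, 10]), (16, [4, 2, 2, 11, 6, 5, 12, 9]), (17, [11, 2, 6, 11, 11, 12, 9, 8]), (20, [12, 4, 6, 5, 12, 10, 9, 8]), (8, [2, 5, 2, 6, 11, 8]), (4, [4, 2, 2, 11, 5, 5, 11, 11, 12, 10, 8]), (10, [9, 4, 2, 7, 5, 11, 11, 10, 9]), (3, [2,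 7, 12, 8]), (13, [4, 4, 9, 8, 5, 11, 9, 8]), (12, [2, 2, 5, 12, 9, 8]), (15, [4, 2, 2, 6, 5, 11, 11, 8]), (14, [4, 2, 5, 5, 11, 12, 10, 9]), (5, [9, 4, 2, 9, 5, 10, 8]), (6, [4, 11, 5, 5, 11, 11, 12, 10]), (19, [5, 5, 2, 5, 9, 5, 11, 11]), (18, [4, 4, 6, 11, 11, 12, 10, 9]), (7, [12, 4, 6, 6, 12, 9]), (21, [4, 7, 5, 11, 10, 9]), (0, [11]), (1, [4, 6, 7, 11, 11, 12, 8]), (10, [4, 5, 2, 5, 5, 12, 10, 9, 8]), (13, [9, 4, 2, 6, 5, 10, 8]), (3, [11, 2, 11, 5, 5, 11, 12, 10, 9]), (6, [8, 2, 5, 5, 11, 11, 10, 9]), (16, [4, 2, 6, 5, 11, 9, 8]), (12, [8, 4, 2, 6, 5, 11, 11, 10, 8]), (2, [8, 2, 11, 11, 12, 10, 9, 8]), (20, [5, 2, 11, 6, 5, 12, 10]), (8, [4, 2, 8, 5, 11, 9, 8]), (18, [4, 2, 8, 5, 11, 11, 8]), (15, [5, 2, 11, 6, 5, 11, 11, 12, 10, 9, 8]), (4, [4, 4, 6, 11,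 11, 12, 9, 8]), (11, [11, 5, 11, 12, 10]), (7, [2, 2, 9, 5, 11, 11, 10]), (5, [4, 5, 2, 9, 8, 5, 11, 11, 10, 9]), (17, [12, 4, 6, 11, 11, 12, 10, 9]), (14, [2, 6, 11, 12, 9]), (9, [4, 5, 2, 7, 5, 12, 9, 8]), (19, [2, 5, 2, 11, 5, 11, 9, 8]), (21, [4, 5, 2, 9, 8, 5, 11, 12, 9]), (0, [12]), (1, [11, 2, 5, 9, 5, 11, 12, 9, 8]), (2, [5, 5, 2, 7, 5]), (4, [4, 2, 2, 5, 5, 10]), (3, [2, 5, 2, 9, 5, 11, 12, 9]), (19, [9, 2, 5, 9, 5, 12, 10, 8]), (12, [5, 2, 7, 12, 10]), (14, [5, 2, 6, 11, 9]), (8, [4, 2, 5, 11, 11, 12, 10, 9]), (11, [9, 4, 2, 9, 8, 5, 11, 11, 8]), (10, [4, 2, 6, 5, 8]), (9, [9, 2, 9, 5, 5, 10, 9]), (6, [5, 2, 6, 7, 12, 10, 9]), (17, [4, 4, 5, 9, 5, 11, 11, 10, 9]), (7, [4, 2, 2, 7, 5, 11, 11]), (20, [2, 2, 11, 6, 5, 11, 12, 8]), (18, [4, 4, 10, 5, 11,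 11, 9, 8]), (13, [7, 2, 2, 9, 8, 5, 11, 11, 10, 8]), (16, [8, 4, 2, 6, 6, 11, 11, 12, 10, 9]), (5, [9, 4, 2, 7, 5, 11, 12, 8]), (15, [8, 4, 5, 6, 11, 12, 8]), (21, [9, 2, 6, 7, 11])]⟩

/-- Level 2. -/
def m23Lev2 : StabCert.Lev :=
  ⟨2, [2, 4, 5, 6, 7, 8, 9, 10, 11, 12], [[], [2], [4], [2, 2], [4, 2], [5, 2], [7, 2], [8, 2], [9, 2], [10, 2], [11, 2], [4, 4], [8, 4], [12, 4], [4, 2, 2], [7, 2, 2], [8, 4, 2], [9, 4, 2], [2, 5, 2], [4, 5, 2], [5, 5, 2]],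
    [(1, []), (3, []), (4, [6]), (8, [6, 11, 11, 9]), (5, [6, 5, 11, 11, 12, 8]), (18, []), (0, [10, 5, 11]), (2, [11, 5, 5, 12]), (6, [9, 5, 12, 10, 9, 8]), (15, [5, 5, 10, 9, 8]), (13, [5, 6, 11, 12, 10, 9]), (20, [9, 5, 5, 11, 12]), (16, [5, 5, 11, 11, 10, 8]), (14, [5, 6, 11, 11, 8]), (11, [10, 5, 11]), (17, [7, 10, 8]), (9, [11, 5, 5, 11, 10]), (12, [8, 5, 11, 11, 8]), (7, [6, 11, 12, 8]), (19, [6, 8, 5, 12, 9, 8]), (10, [5, 11, 11, 12, 9, 8]), (2, []), (4, []), (11, []), (14, []), (5, [5, 10]), (19, []), (20, [9, 5, 11, 10]), (6, [9, 5, 5, 11, 10, 8]), (13, [5, 9, 5, 11, 11, 10, 8]), (0, [6, 6, 11, 12, 10, 9, 8]), (17, [9, 5, 5, 11, 11, 12, 10, 9, 8]), (18, [7, 11, 10, 9]), (12, [5, 11, 12, 9, 8]), (7, [5, 9, 5, 12, 10, 9, 8]), (16, [6, 5, 8]), (1, [11, 5,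 5, 11, 11, 12, 10, 8]), (10, [7, 8]), (3, [6, 5, 11, 9, 8]), (9, [11, 6, 5, 11, 10, 8]), (15, [6, 8, 5, 11, 11, 12, 10, 9, 8]), (8, [7, 11, 12, 10, 8]), (0, [5]), (5, []), (10, [6, 6, 9, 8]), (3, [5, 11, 9, 8]), (12, [5, 5]), (20, []), (2, [9, 5, 5, 11, 11, 10, 9, 8]), (9, [6, 6, 12, 9]), (15, [6, 11, 10, 9]), (16, [9, 5, 11, 10, 9]), (6, [8, 5, 11, 10, 9, 8]), (17, [10, 5, 11, 11, 8]), (18, [10, 5, 12]), (8, [9, 5, 5, 12, 9, 8]), (14, [5, 6, 12, 9, 8]), (13, [5, 9, 8]), (7, [5, 6, 12, 10, 9, 8]), (19, [6, 5, 10, 9]), (4, [6, 8, 5, 10, 9, 8]), (11, [6, 6, 11, 10]), (1, []), (0, [6]), (2, [11, 5, 11, 12]), (8, [11, 6, 5, 11, 11, 9]), (7, [5, 6, 11, 11, 8]), (14, [6, 11, 11, 12, 9, 8]), (4, [7, 10, 8]), (12, [9, 5, 11, 11, 12, 10]), (16, [5, 5, 11]), (1, [5, 10,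 8]), (9, [5, 10, 8]), (17, [6, 11, 11, 9, 8]), (10, [11, 5, 11, 11, 10, 8]), (13, [6, 11, 11, 8]), (6, [9, 5, 5, 11, 9]), (5, [6, 8, 5, 11, 11, 12, 10]), (15, [5, 6, 10, 8]), (3, [10, 5, 11, 10]), (11, [7, 11, 11, 10]), (19, [6, 11, 11]), (20, [6, 5, 11, 11, 9, 8]), (18, [5, 11, 10]), (0, [7]), (6, []), (7, [5, 11, 10]), (15, []), (2, [5, 9, 5, 11, 12, 10, 9, 8]), (4, [5, 5, 11, 11, 9, 8]), (9, [6, 6, 12, 9]), (18, [7, 5, 11]), (13, [5, 5, 10, 9, 8]), (20, [7, 11, 11, 10, 8]), (16, [5, 6, 12, 8]), (10, [9, 8, 5, 11, 11, 10]), (11, [11, 5, 11, 10, 9]), (14, [6, 5, 11, 11, 12, 10, 9]), (3, [5, 6]), (8, [9, 5, 11, 11, 12, 8]), (19, [9, 5, 5, 8]), (1, [8, 5, 11]), (5, [7, 5, 11]), (12, [6, 8, 5, 11, 12, 10, 9, 8]), (17, [5, 12, 8]), (0, [8]), (7, []), (12, []), (13,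 [11, 5, 5, 8]), (16, []), (6, [5, 5, 11, 10, 9]), (5, [5, 5, 11, 10, 9]), (1, []), (14, [7, 5, 11, 11, 8]), (11, [9, 5, 5, 10, 9]), (17, [10, 9, 8]), (9, [6, 5, 11, 11, 9]), (2, []), (3, [8, 5, 11, 11]), (8, [11, 6, 5, 11, 11, 8]), (15, [6, 8, 5, 11, 12, 10, 8]), (4, []), (10, [10, 9, 8]), (18, [10]), (19, [12, 9, 8]), (20, [5, 5, 11, 10, 9]), (0, [9]), (8, []), (9, [6, 8, 5, 12, 9, 8]), (6, [5, 5, 11, 11, 12, 10, 8]), (17, []), (13, [11, 5, 5, 11, 11, 12, 8]), (3, [6, 7, 10, 9]), (14, [7, 5, 11, 11, 8]), (1, []), (2, [9, 5, 11, 9, 8]), (16, [10, 9, 8]), (12, [8, 5, 11, 12, 9, 8]), (11, [9, 5, 11, 12]), (5, [8, 5, 11, 12, 10, 9]), (7, [11, 6, 5, 11, 11, 8]), (15, [6, 11, 12, 8]), (10, [10, 9, 8]), (4, []), (18, [12, 10, 8]), (19, [10]), (20, [11, 5, 5, 11, 11,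 12, 10, 9, 8]), (0, [10]), (9, []), (8, [6, 8, 5, 12, 9, 8]), (4, [9, 5, 5, 12, 10, 9, 8]), (3, [11, 6, 5, 10, 9, 8]), (10, [7, 11, 10, 9, 8]), (17, [6, 5, 10, 9, 8]), (11, [9, 5, 5, 10, 9]), (2, [9, 5, 11, 9, 8]), (1, []), (5, [10, 5, 11, 11, 12, 10, 9]), (7, [6, 5, 11, 11, 9]), (14, [5, 9, 5, 11, 11, 10, 9, 8]), (16, [5, 9, 5, 11, 11, 10, 8]), (12, [6, 11, 11, 9]), (15, [6, 6, 11, 11, 12, 9]), (13, [6, 11, 11, 12, 10, 9, 8]), (6, [9, 5, 5, 11, 12, 10]), (18, [10, 9, 8]), (19, [10, 9]), (20, [10, 5, 12]), (0, [11]), (10, []), (3, [5, 11, 11, 12, 8]), (4, [6, 11, 11, 12, 10]), (2, [5, 6, 11, 11, 8]), (12, [5, 9, 5, 11, 12]), (7, [6, 9, 8]), (13, [6, 11, 11, 12]), (8, [11, 6, 5, 11, 11, 12, 9, 8]), (11, [11, 5, 5, 9, 8]), (16, [11, 5, 12, 9, 8]), (14, [5, 5, 12,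 10, 9]), (17, [7, 5, 11, 12, 10, 9, 8]), (6, [5, 9, 5]), (9, [11, 5, 5, 10, 8]), (18, [6, 8, 5, 11, 11, 12, 10, 9]), (1, [11, 5, 5, 12]), (5, [9, 5, 11, 11, 8]), (19, [6, 12, 10]), (15, [11, 5, 5, 11, 11, 12, 9]), (20, [5, 10, 8]), (0, [12]), (10, [11, 5, 5, 12, 10, 9, 8]), (13, []), (12, [11, 5, 5, 8]), (14, [12, 10, 8]), (9, [6, 11, 12, 10]), (11, [7, 5, 10, 9, 8]), (17, [5, 11, 11, 12]), (16, [5, 11, 11, 12]), (5, [6, 11, 12, 10]), (1, [11, 6, 5, 11, 11, 12, 9, 8]), (6, [6, 5, 11, 11, 8]), (3, [8, 5, 11, 11]), (2, []), (4, [12, 10, 8]), (15, [6, 5, 12, 10, 9, 8]), (8, [11, 6, 5, 11, 11, 12, 10]), (7, [11, 6, 5, 11, 11, 12, 10]), (18, [10, 9]), (19, [10, 8]), (20, [11, 6, 5, 10, 9])]⟩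

/-- Level 3. -/
def m23Lev3 : StabCert.Lev :=
  ⟨3, [5, 6, 7, 8, 9, 10, 11, 12], [[], [5], [6], [7], [5, 5], [6, 5], [7, 5], [8, 5], [9, 5], [10, 5], [11, 5], [5, 6], [6, 6], [6, 7], [9, 5, 5], [11, 5, 5], [11, 6, 5], [6, 8, 5], [9, 8, 5], [5, 9, 5]],
    [(1, []), (4, []), (11, []), (12, [9]), (0, []), (10, [11, 12, 9]), (5, [11]), (9, [11, 8]), (19, []), (17, [12, 10, 9, 8]), (6, [11, 12]), (15, [9]), (13, [11, 11, 12, 9, 8]), (3, [11, 12, 10, 8]), (8, [12, 10, 9]), (2, [9]), (16, [11, 8]), (7, [11, 11, 12, 8]), (18, [11, 11, 12]), (14, [12, 10, 9]), (2, []), (5, []), (12, []), (13, []), (11, [11, 11, 8]), (8, [11, 11]), (15, [11, 11, 12, 10]), (17, []), (1, [11]), (9, [11]), (3, [11, 11, 9]), (18, [10]), (0, []), (10, [11, 12]), (6, [11, 12]), (14, [12, 9,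 8]), (7, [11, 10, 8]), (16, [11, 11, 12, 9, 8]), (4, [11, 9, 8]), (19, [11, 11, 10, 9, 8]), (3, []), (6, []), (4, [10]), (1, [8]), (11, [12, 8]), (7, [11, 11, 10, 9]), (9, [11, 8]), (2, [10]), (14, [11, 11, 10, 8]), (0, [11, 11]), (17, [11, 11, 12, 10, 9, 8]), (5, [11, 12]), (15, [10]), (10, [8]), (18, [10]), (13, [11, 11, 9, 8]), (19, [11, 11, 12, 10, 9, 8]), (12, [11, 11, 12, 9]), (16, [11, 12, 10]), (8, [11, 12, 9]), (0, [8]), (7, []), (2, [12, 10, 8]), (10, [11, 11, 9, 8]), (6, [8]), (15, [11, 11, 8]), (4, [8]), (1, []), (18, []), (13, [11, 10]), (3, [11, 12, 10, 9, 8]), (17, [11, 10]), (12, [12, 10]), (9, [11, 11, 12, 10, 8]), (16, [12, 8]), (5, [11, 10, 9, 8]), (14, [12, 8]), (11, [11, 11, 12, 10, 8]), (8, []), (19, [12, 9]), (0, [9]), (8, []), (2, [10]),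 (11, [11, 11]), (14, []), (9, [11]), (16, [12]), (18, []), (1, []), (5, [11, 11]), (17, [11, 12, 9, 8]), (3, [11]), (12, [10, 9]), (15, [12, 9]), (4, []), (13, [12, 9]), (6, [12]), (10, [11, 11, 12, 10, 9]), (7, []), (19, [12, 10]), (0, [10]), (9, []), (2, [10, 9]), (6, [11, 12, 8]), (10, [11, 12, 8]), (8, [11]), (3, [11, 11, 10]), (13, [11, 10]), (5, [11, 11]), (1, []), (4, [11, 11, 10]), (16, [11, 11, 12, 10, 9, 8]), (12, [9]), (7, [11, 11, 12, 10, 8]), (17, [11, 11, 12, 10]), (18, [11, 11, 10, 9, 8]), (11, [11, 12, 10]), (14, [11, 9, 8]), (15, [11, 10, 9]), (19, [12, 10, 9, 8]), (0, [11]), (10, []), (12, [11, 11, 12, 10, 9]), (4, [10]), (15, []), (16, []), (7, [11, 11, 10, 9]), (14, [11, 11, 10]), (8, [11, 11, 12, 9, 8]), (13, [10, 9]), (17, [10, 8]), (5, [12,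 9]), (19, [11, 11, 12]), (18, [11, 9, 8]), (6, [11, 11, 12, 10, 9]), (3, [10]), (11, [12, 9]), (1, [10, 8]), (9, [11, 11, 12, 9, 8]), (2, [11, 11, 12, 10, 9, 8]), (0, [12]), (10, [11, 10, 8]), (2, [10, 9, 8]), (7, [11, 12, 10, 8]), (9, [12, 10]), (14, [11, 9, 8]), (13, [11, 12, 8]), (3, [11, 11, 12, 8]), (17, [11, 11]), (4, [12, 10]), (1, [11, 11, 12, 9, 8]), (18, [11, 11, 10]), (12, [12, 10, 9, 8]), (6, [11, 11, 10]), (5, [11, 11, 12, 10]), (16, [11, 11, 12, 10]), (15, [11, 9, 8]), (8, [11]), (11, [11, 12, 8]), (19, [12, 10, 8])]⟩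

/-- Level 4. -/
def m23Lev4 : StabCert.Lev :=
  ⟨5, [8, 9, 10, 11, 12], [[], [11], [11, 11]],
    [(0, [8]), (1, [10, 9, 8]), (2, [10, 9]), (0, [9]), (1, [12]), (2, [12, 9]), (0, [10]), (1, [12, 8]), (2, [12, 10, 8]), (1, []), (2, []), (0, []), (0, [12]), (1, [12, 9]), (2, [9])]⟩

/-- Level 5. -/
def m23Lev5 : StabCert.Lev :=
  ⟨4, [8, 9, 10, 12], [[], [8], [9], [10], [12], [9, 8], [10, 8], [12, 8], [10, 9], [12, 9], [12, 10], [10, 9, 8], [12, 9, 8], [12, 10, 8], [12, 10, 9], [12, 10, 9, 8]],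
    [(1, []), (0, []), (5, []), (6, []), (7, []), (2, []), (3, []), (4, []), (11, []), (12, []), (13, []), (8, []), (9, []), (10, []), (15, []), (14, []), (2, []), (5, []), (0, []), (8, []), (9, []), (1, []), (11, []), (12, []), (3, []), (4, []), (14, []), (6, []), (7, []), (15, []), (10, []), (13, []), (3, []), (6, []), (8, []), (0, []), (10, []), (11, []), (1, []), (13, []), (2, []), (14, []), (4, []), (5, []), (15, []), (7, []), (9, []), (12, []), (4, []), (7, []), (9, []), (10, []), (0, []), (12, []), (13, []), (1, []), (14, []), (2, []), (3, []), (15, []), (5, []), (6, []), (8, []), (11, [])]⟩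

/-- The chain. -/
def m23Chain : List StabCert.Lev :=
  [m23Lev0, m23Lev1, m23Lev2, m23Lev3, m23Lev4, m23Lev5]

end Cfsg.Agent.OutCert
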