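import Cfsg.Agent.Lib.Golay.Mathieu
import Cfsg.Agent.Lib.Golay.Perm
import Cfsg.Agent.Lib.OutCert.M23Data

/-!
# A Frobenius group of order 253 in `M23` and its normalisers

* `sX`, `sY`, `sZ` : `i ↦ i + 1`, `i ↦ 2 i` and a normalising element of order five
* `normX_cases`, `normY_cases` : the normalisers of `⟨sX⟩` and `⟨sY⟩`
* `mem_closure_xyz` : the three generate the stabiliser of `∞`
-/

set_option autoImplicit false

open scoped Pointwise

namespace Cfsg.Agent.OutCert

open Golay StabCert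

/-- The code of `i ↦ i + 1`. -/
def dX : ℕ := 0xb82d5a4e5183dcd62d4941cc520c41

/-- The code of `i ↦ 2 i`. -/
def dY : ℕ := 0xbd6717b56939461b52507314831040

/-- The code of an element of order five. -/
def dZ : ℕ := 0xbae75734e2a3d8354606b24b222020

/-- The translation. -/
noncomputable def sX : Equiv.Perm GolayPt := toPerm dX

/-- The doubling. -/
noncomputable def sY : Equiv.Perm GolayPt := toPerm dY

/-- The element of order five. -/
noncomputable def sZ : Equiv.Perm GolayPt := toPerm dZ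

theorem isAut_xyz : isAut dX = true ∧ isAut dY = true ∧ isAut dZ = true := by decide +kernel

theorem valid_xyz : validPerm dX = true ∧ validPerm dY = true ∧ validPerm dZ = true :=
  ⟨validPerm_of_isAut isAut_xyz.1, validPerm_of_isAut isAut_xyz.2.1,
    validPerm_of_isAut isAut_xyz.2.2⟩

theorem sX_mem : sX ∈ M24 := toPerm_mem_M24 isAut_xyz.1

theorem sY_mem : sY ∈ M24 := toPerm_mem_M24 isAut_xyz.2.1

theorem sZ_mem : sZ ∈ M24 := toPerm_mem_M24 isAut_xyz.2.2

theorem perm_ext_pt {σ τ : Equiv.Perm GolayPt} (h : ∀ i < 24, σ (pt i) = τ (pt i)) : σ = τ :=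
  Equiv.ext fun p => by rw [← pt_idx p]; exact h _ (idx_lt p)

theorem iterate_lt {d : ℕ} (hd : validPerm d = true) :
    ∀ (n : ℕ) {i : ℕ}, i < 24 → (fn d)^[n] i < 24
  | 0, _, hi => hi
  | n + 1, i, hi => by
    rw [Function.iterate_succ_apply]; exact iterate_lt hd n (fn_lt_of_valid hd hi)

theorem toPerm_pow_pt {d : ℕ} (hd : validPerm d = true) :
    ∀ (n : ℕ) {i : ℕ}, i < 24 → (toPerm d ^ n) (pt i) = pt ((fn d)^[n] i)
  | 0, _, _ => by simp
  | n + 1, i, hi => by
    rw [pow_succ, Equiv.Perm.mul_apply, toPerm_pt hd hi,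
      toPerm_pow_pt hd n (fn_lt_of_valid hd hi), Function.iterate_succ_apply]

theorem sX_pow_pt (n : ℕ) {i : ℕ} (hi : i < 24) : (sX ^ n) (pt i) = pt ((fn dX)^[n] i) :=
  toPerm_pow_pt valid_xyz.1 n hi

theorem sY_pow_pt (n : ℕ) {i : ℕ} (hi : i < 24) : (sY ^ n) (pt i) = pt ((fn dY)^[n] i) :=
  toPerm_pow_pt valid_xyz.2.1 n hi

theorem sZ_pow_pt (n : ℕ) {i : ℕ} (hi : i < 24) : (sZ ^ n) (pt i) = pt ((fn dZ)^[n] i) :=
  toPerm_pow_pt valid_xyz.2.2 n hi

theorem sY_conj_sX : sY * sX = sX ^ 2 * sY := by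
  refine perm_ext_pt fun i hi => ?_
  rw [Equiv.Perm.mul_apply, Equiv.Perm.mul_apply]
  show toPerm dY (toPerm dX (pt i)) = (sX ^ 2) (toPerm dY (pt i))
  rw [toPerm_pt valid_xyz.1 hi, toPerm_pt valid_xyz.2.1 (fn_lt_of_valid valid_xyz.1 hi),
    toPerm_pt valid_xyz.2.1 hi, sX_pow_pt 2 (fn_lt_of_valid valid_xyz.2.1 hi)]
  exact congrArg pt ((by decide +kernel : ∀ i < 24, fn dY (fn dX i) = (fn dX)^[2] (fn dY i)) i hi)

theorem sZ_conj_sY : sZ * sY = sY ^ 3 * sZ := by
  refine perm_ext_pt fun i hi => ?_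
  rw [Equiv.Perm.mul_apply, Equiv.Perm.mul_apply]
  show toPerm dZ (toPerm dY (pt i)) = (sY ^ 3) (toPerm dZ (pt i))
  rw [toPerm_pt valid_xyz.2.1 hi, toPerm_pt valid_xyz.2.2 (fn_lt_of_valid valid_xyz.2.1 hi),
    toPerm_pt valid_xyz.2.2 hi, sY_pow_pt 3 (fn_lt_of_valid valid_xyz.2.2 hi)]
  exact congrArg pt ((by decide +kernel : ∀ i < 24, fn dZ (fn dY i) = (fn dY)^[3] (fn dZ i)) i hi)

theorem sX_pow_23 : sX ^ 23 = 1 :=
  perm_ext_pt fun i hi => (sX_pow_pt 23 hi).trans (congrArg pt
    ((by decide +kernel : ∀ i < 24, (fn dX)^[23] i = i) i hi))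

theorem sY_pow_11 : sY ^ 11 = 1 :=
  perm_ext_pt fun i hi => (sY_pow_pt 11 hi).trans (congrArg pt
    ((by decide +kernel : ∀ i < 24, (fn dY)^[11] i = i) i hi))

theorem sXY_none : sX none = none ∧ sY none = none ∧ sZ none = none := by
  have e : (none : GolayPt) = pt 23 := by decide +kernel
  refine ⟨?_, ?_, ?_⟩ <;> rw [e]
  · exact (toPerm_pt valid_xyz.1 (by norm_num)).trans (congrArg pt (by decide +kernel))
  · exact (toPerm_pt valid_xyz.2.1 (by norm_num)).trans (congrArg pt (by decide +kernel))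
  · exact (toPerm_pt valid_xyz.2.2 (by norm_num)).trans (congrArg pt (by decide +kernel))

/-- The code of a list of images. -/
def encList : List ℕ → ℕ
  | [] => 0
  | a :: l => a + 32 * encList l

theorem fn_encList : ∀ (l : List ℕ), (∀ a ∈ l, a < 32) → ∀ k, fn (encList l) k = l.getD k 0
  | [], _, k => by simp [encList, fn]
  | a :: l, h, 0 => by
    show (encList (a :: l) >>> (5 * 0)) &&& (2 ^ 5 - 1) = a
    rw [Nat.and_two_pow_sub_one_eq_mod, encList]
    have := h a List.mem_cons_self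
    simp
    omega
  | a :: l, h, k + 1 => by
    have ih := fn_encList l (fun b hb => h b (List.mem_cons_of_mem _ hb)) k
    show (encList (a :: l) >>> (5 * (k + 1))) &&& 31 = _
    rw [List.getD_cons_succ, ← ih, show 5 * (k + 1) = 5 + 5 * k by ring, Nat.shiftRight_add,
      encList]
    congr 2
    have := h a List.mem_cons_self
    rw [Nat.shiftRight_eq_div_pow]
    omega

/-- The code of a function on the points. -/
def encFun (g : ℕ → ℕ) : ℕ := encList ((List.range 24).map g)

/-- The images of the rows are code words. -/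
def rowsOK (d : ℕ) : Bool := rows.all fun r => isCode (imgMask d r)

theorem rowsOK_of_mem {σ : Equiv.Perm GolayPt} (hσ : σ ∈ M24) {g : ℕ → ℕ}
    (hg : ∀ k < 24, g k < 24) (h : ∀ k < 24, σ (pt k) = pt (g k)) : rowsOK (encFun g) = true := by
  have hfn : ∀ k < 24, fn (encFun g) k = g k := fun k hk => by
    rw [encFun, fn_encList _ (fun a ha => ?_), List.getD_eq_getElem _ _ (by simpa using hk)]
    · simp
    · obtain ⟨j, hj, rfl⟩ := List.mem_map.1 ha
      have := hg j (List.mem_range.1 hj)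
      omega
  refine List.all_eq_true.2 fun r hr => ?_
  have hlt : imgMask (encFun g) r < 2 ^ 24 := by
    refine Nat.lt_pow_two_of_testBit _ fun i hi => ?_
    by_contra hc
    rw [Bool.not_eq_false, imgMask, testBit_imgAux] at hc
    obtain ⟨k, hk, -, rfl⟩ := hc
    rw [hfn k hk] at hi
    have := hg k hk
    omega
  rw [← pts_mem_supports_iff hlt]
  convert smul_mem_supports hσ (rows_octads r hr).1 using 1
  ext p
  rw [mem_pts, imgMask, testBit_imgAux, smul_eq_image, Finset.mem_image]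
  constructor
  · rintro ⟨k, hk, hm, he⟩
    refine ⟨pt k, mem_pts.2 (by rwa [idx_pt hk]), ?_⟩
    rw [h k hk, ← hfn k hk, he, pt_idx]
  · rintro ⟨q, hq, rfl⟩
    refine ⟨idx q, idx_lt q, mem_pts.1 hq, ?_⟩
    rw [hfn _ (idx_lt q)]
    conv_rhs => rw [← pt_idx q, h _ (idx_lt q), idx_pt (hg _ (idx_lt q))]

/-- An affine map. -/
def affX (a i k : ℕ) : ℕ := if k = 23 then 23 else (a + i * k) % 23

theorem affX_check : ∀ a : Fin 23, ∀ i : Fin 23, rowsOK (encFun (affX a.val i.val)) = true →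
    ∃ b : Fin 11, ∀ k : Fin 24, (fn dX)^[a.val] ((fn dY)^[b.val] k.val) = affX a.val i.val k.val := by
  decide +kernel

theorem fn_dX_iterate : ∀ i : Fin 23, ∀ n : Fin 23, (fn dX)^[n.val] i.val = (i.val + n.val) % 23 := by
  decide +kernel

/-- The normaliser of `⟨sX⟩` in the stabiliser of `∞`. -/
theorem normX_cases {σ : Equiv.Perm GolayPt} (hσ : σ ∈ M24) (h0 : σ none = none) {i : ℕ}
    (h : σ * sX = sX ^ i * σ) : ∃ a b : ℕ, σ = sX ^ a * sY ^ b := by
  have h23 : pt 23 = none := by decide +kernel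
  have hA : idx (σ (pt 0)) < 23 := by
    have hne : σ (pt 0) ≠ none := fun e => by
      have := σ.injective (e.trans h0.symm)
      exact absurd this (by decide +kernel)
    have h1 := idx_lt (σ (pt 0))
    have h2 : idx (σ (pt 0)) ≠ 23 := fun e => hne (by rw [← pt_idx (σ (pt 0)), e, h23])
    omega
  set a := idx (σ (pt 0)) with ha
  have hstep : ∀ j : ℕ, j < 23 → (sX ^ i) (pt j) = pt ((j + i % 23) % 23) := fun j hj => by
    rw [← Nat.mod_add_div i 23, pow_add, pow_mul, sX_pow_23, one_pow, mul_one,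
      sX_pow_pt _ (show j < 24 by omega), Nat.add_mul_mod_self_left, Nat.mod_mod]
    exact congrArg pt (fn_dX_iterate ⟨j, hj⟩ ⟨i % 23, Nat.mod_lt _ (by norm_num)⟩)
  have hval : ∀ k, k < 23 → σ (pt k) = pt ((a + i % 23 * k) % 23) := by
    intro k
    induction k with
    | zero => intro _; rw [mul_zero, add_zero, Nat.mod_eq_of_lt hA, pt_idx]
    | succ k ih =>
      intro hk
      have e : sX (pt k) = pt (k + 1) := by
        have := sX_pow_pt 1 (show k < 24 by omega)
        rw [pow_one] at this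
        rw [this, fn_dX_iterate ⟨k, by omega⟩ ⟨1, by norm_num⟩]
        exact congrArg pt (Nat.mod_eq_of_lt hk)
      rw [← e, ← Equiv.Perm.mul_apply, h, Equiv.Perm.mul_apply, ih (by omega),
        hstep _ (Nat.mod_lt _ (by norm_num))]
      congr 1
      rw [Nat.mod_add_mod]
      ring_nf
  have hall : ∀ k < 24, σ (pt k) = pt (affX a (i % 23) k) := fun k hk => by
    unfold affX
    split_ifs with hk'
    · rw [hk', h23, h0]
    · exact hval k (by omega)
  have hlt : ∀ k < 24, affX a (i % 23) k < 24 := fun k _ => by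
    unfold affX
    split_ifs
    · norm_num
    · have := Nat.mod_lt (a + i % 23 * k) (show 0 < 23 by norm_num)
      omega
  obtain ⟨b, hb⟩ := affX_check ⟨a, hA⟩ ⟨i % 23, Nat.mod_lt _ (by norm_num)⟩
    (rowsOK_of_mem hσ hlt hall)
  refine ⟨a, b.val, perm_ext_pt fun k hk => ?_⟩
  rw [hall k hk, Equiv.Perm.mul_apply, sY_pow_pt _ hk, sX_pow_pt _ (iterate_lt valid_xyz.2.1 _ hk)]
  exact congrArg pt (hb ⟨k, hk⟩).symm

/-- A map commuting with the doubling up to the exponent `e`. -/
def affY (e u w k : ℕ) : ℕ :=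
  if k = 0 ∨ k = 23 then k
  else match (List.range 11).find? (fun m => 2 ^ m % 23 == k) with
    | some m => (fn dY)^[e * m % 11] u
    | none => (fn dY)^[e * ((List.range 11).findIdx fun m => 22 * 2 ^ m % 23 == k) % 11] w

theorem affY_check : ∀ e : Fin 11, e.val ∈ [1, 3, 8, 10] → ∀ u : Fin 23, ∀ w : Fin 23,
    u.val ≠ 0 → w.val ≠ 0 → rowsOK (encFun (affY e.val u.val w.val)) = true →
      e.val ∈ [1, 3] ∧ ∃ b : Fin 11, ∀ k : Fin 24,
        (fn dZ)^[if e.val = 1 then 0 else 1] ((fn dY)^[b.val] k.val) =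
          affY e.val u.val w.val k.val := by
  decide +kernel

/-- The normaliser of `⟨sY⟩` in the stabiliser of `∞`, for some exponents. -/
theorem normY_cases {σ : Equiv.Perm GolayPt} (hσ : σ ∈ M24) (h0 : σ none = none) {e : ℕ}
    (he : e ∈ [1, 3, 8, 10]) (h : σ * sY = sY ^ e * σ) :
    (e = 1 ∧ ∃ b : ℕ, σ = sY ^ b) ∨ (e = 3 ∧ ∃ b : ℕ, σ = sZ * sY ^ b) := by
  have h23 : pt 23 = none := by decide +kernel
  have he11 : e < 11 := by
    revert he; simp; omega
  have hfix : ∀ j : Fin 24, ∀ e : Fin 11, e.val ≠ 0 → (fn dY)^[e.val] j.val = j.val →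
      j.val = 0 ∨ j.val = 23 := by decide +kernel
  have he0 : e ≠ 0 := by revert he; simp; omega
  have hs0 : σ (pt 0) = pt 0 := by
    have e1 : sY (pt 0) = pt 0 :=
      (toPerm_pt valid_xyz.2.1 (by norm_num)).trans (congrArg pt (by decide +kernel))
    have e2 : (sY ^ e) (σ (pt 0)) = σ (pt 0) := by
      rw [← Equiv.Perm.mul_apply, ← h, Equiv.Perm.mul_apply, e1]
    rw [← pt_idx (σ (pt 0)), sY_pow_pt e (idx_lt _)] at e2
    have e3 := congrArg idx e2
    rw [idx_pt (iterate_lt valid_xyz.2.1 e (idx_lt _)), idx_pt (idx_lt _)] at e3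
    rcases hfix ⟨_, idx_lt _⟩ ⟨e, he11⟩ he0 e3 with e4 | e4
    · rw [← pt_idx (σ (pt 0)), show idx (σ (pt 0)) = 0 from e4]
    · exfalso
      have e5 : σ (pt 0) = none := by
        rw [← pt_idx (σ (pt 0)), show idx (σ (pt 0)) = 23 from e4, h23]
      exact absurd (σ.injective (e5.trans h0.symm)) (by decide +kernel)
  have hne : ∀ k, k < 23 → k ≠ 0 → idx (σ (pt k)) < 23 ∧ idx (σ (pt k)) ≠ 0 := fun k hk hk0 => by
    have h1 := idx_lt (σ (pt k))
    have h2 : idx (σ (pt k)) ≠ 23 := fun e' => by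
      have e5 : σ (pt k) = σ (pt 23) := by rw [← pt_idx (σ (pt k)), e', h23, h0]
      have := congrArg idx (σ.injective e5)
      rw [idx_pt (by omega), idx_pt (by norm_num)] at this
      omega
    have h3 : idx (σ (pt k)) ≠ 0 := fun e' => by
      have e5 : σ (pt k) = σ (pt 0) := by rw [← pt_idx (σ (pt k)), e', hs0]
      have := congrArg idx (σ.injective e5)
      rw [idx_pt (by omega), idx_pt (by norm_num)] at this
      omega
    exact ⟨by omega, h3⟩
  have hcomm : ∀ m : ℕ, σ * sY ^ m = sY ^ (e * m % 11) * σ := fun m => by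
    have h1 : SemiconjBy σ sY (sY ^ e) := h
    have h2 := (h1.pow_right m).eq
    rw [h2, ← pow_mul]
    congr 1
    rw [← Nat.mod_add_div (e * m) 11, pow_add, pow_mul, sY_pow_11, one_pow, mul_one,
      Nat.add_mul_mod_self_left, Nat.mod_mod]
  set u := idx (σ (pt 1)) with hu
  set w := idx (σ (pt 22)) with hw
  have hlog : ∀ k : Fin 24, k.val ≠ 0 → k.val ≠ 23 →
      (match (List.range 11).find? (fun m => 2 ^ m % 23 == k.val) with
      | some m => (fn dY)^[m] 1 == k.val
      | none => (fn dY)^[(List.range 11).findIdx fun m => 22 * 2 ^ m % 23 == k.val] 22 == k.val)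
        = true := by decide +kernel
  have hall : ∀ k < 24, σ (pt k) = pt (affY e u w k) := fun k hk => by
    unfold affY
    split_ifs with hk'
    · rcases hk' with rfl | rfl
      · exact hs0
      · rw [h23, h0]
    push Not at hk'
    have := hlog ⟨k, hk⟩ hk'.1 hk'.2
    simp only at this
    split at this <;> rename_i hfind <;> rw [beq_iff_eq] at this
    · rw [← this, ← sY_pow_pt _ (by norm_num), ← Equiv.Perm.mul_apply, hcomm,
        Equiv.Perm.mul_apply, ← pt_idx (σ (pt 1)), sY_pow_pt _ (idx_lt _)]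
    · nth_rewrite 1 [← this]
      rw [← sY_pow_pt _ (by norm_num), ← Equiv.Perm.mul_apply, hcomm, Equiv.Perm.mul_apply,
        ← pt_idx (σ (pt 22)), sY_pow_pt _ (idx_lt _)]
  obtain ⟨hu1, hu2⟩ := hne 1 (by norm_num) (by norm_num)
  obtain ⟨hw1, hw2⟩ := hne 22 (by norm_num) (by norm_num)
  have hlt : ∀ k < 24, affY e u w k < 24 := fun k hk => by
    have := congrArg idx (hall k hk)
    unfold affY at this ⊢
    split_ifs at this ⊢ with hk'
    · exact hk
    · split <;> exact iterate_lt valid_xyz.2.1 _ (idx_lt _)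
  obtain ⟨he', b, hb⟩ := affY_check ⟨e, he11⟩ he ⟨u, hu1⟩ ⟨w, hw1⟩ hu2 hw2
    (rowsOK_of_mem hσ hlt hall)
  simp only [List.mem_cons, List.not_mem_nil, or_false] at he'
  rcases he' with rfl | rfl
  · refine Or.inl ⟨rfl, b.val, perm_ext_pt fun k hk => ?_⟩
    rw [hall k hk, sY_pow_pt _ hk]
    exact congrArg pt (hb ⟨k, hk⟩).symm
  · refine Or.inr ⟨rfl, b.val, perm_ext_pt fun k hk => ?_⟩
    rw [hall k hk, Equiv.Perm.mul_apply, sY_pow_pt _ hk]
    show _ = toPerm dZ _
    rw [toPerm_pt valid_xyz.2.2 (iterate_lt valid_xyz.2.1 _ hk)]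
    exact congrArg pt (hb ⟨k, hk⟩).symm

/-- A letter. -/
noncomputable def letter (k : ℕ) : Equiv.Perm GolayPt := toPerm (m23Perms.getD k 0)

theorem letters_ok : (∀ k : Fin 13, validPerm (m23Perms.getD k.val 0) = true) ∧
    (∀ k : Fin 13, isAut (m23Perms.getD k.val 0) = true ∧ fn (m23Perms.getD k.val 0) 23 = 23) ∧
    m23Perms.take 3 = [dX, dY, dZ] ∧
    (∀ k : Fin 13, (m23Words.getD k.val []).all (fun l => decide (l < k.val ∨ (k.val < 3 ∧ l = k.val))) = true ∧
      ∀ i : Fin 24, ev 5 m23Perms (m23Words.getD k.val []) i.val = fn (m23Perms.getD k.val 0) i.val) := by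
  decide +kernel

theorem m23_chain_ok : chainOK 5 24 13 m23Perms (List.range 24) m23Chain = true := by
  decide +kernel

theorem tablesSound_letters :
    TablesSound (MonoidHom.id (Equiv.Perm GolayPt)) letter pt 5 24 13 m23Perms := by
  intro k hk i hi
  have hv := letters_ok.1 ⟨k, hk⟩
  exact ⟨fn_lt_of_valid hv hi, toPerm_pt hv hi⟩

/-- Every permutation of the code fixing `∞` is generated by the three. -/
theorem mem_closure_xyz {σ : Equiv.Perm GolayPt} (hσ : σ ∈ M24) (h0 : σ none = none) :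
    σ ∈ Subgroup.closure ({sX, sY, sZ} : Set (Equiv.Perm GolayPt)) := by
  set C := Subgroup.closure ({sX, sY, sZ} : Set (Equiv.Perm GolayPt)) with hC
  obtain ⟨hv, ha, h3, hwords⟩ := letters_ok
  have hl3 : letter 0 = sX ∧ letter 1 = sY ∧ letter 2 = sZ := by
    have e : m23Perms.getD 0 0 = dX ∧ m23Perms.getD 1 0 = dY ∧ m23Perms.getD 2 0 = dZ := by
      decide +kernel
    exact ⟨congrArg toPerm e.1, congrArg toPerm e.2.1, congrArg toPerm e.2.2⟩
  have hmem : ∀ k, k < 13 → letter k ∈ C := by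
    intro k
    induction k using Nat.strong_induction_on with
    | _ k ih =>
      intro hk
      by_cases hk3 : k < 3
      · interval_cases k
        · rw [hl3.1]; exact Subgroup.subset_closure (Or.inl rfl)
        · rw [hl3.2.1]; exact Subgroup.subset_closure (Or.inr (Or.inl rfl))
        · rw [hl3.2.2]; exact Subgroup.subset_closure (Or.inr (Or.inr rfl))
      obtain ⟨hw, hev⟩ := hwords ⟨k, hk⟩
      simp only [List.all_eq_true, decide_eq_true_eq] at hw
      have hm : ∀ l ∈ m23Words.getD k [], l < k := fun l hl => by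
        rcases hw l hl with h | h
        · exact h
        · omega
      have e : letter k = wordEl letter (m23Words.getD k []) := by
        refine perm_ext_pt fun i hi => ?_
        have := (ev_spec tablesSound_letters (m23Words.getD k [])
          (fun l hl => (hm l hl).trans hk) i hi).2
        rw [show ev 5 m23Perms (m23Words.getD k []) i = fn (m23Perms.getD k 0) i from
          hev ⟨i, hi⟩] at this
        exact (toPerm_pt (hv ⟨k, hk⟩) hi).trans this.symm
      rw [e, wordEl]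
      refine Subgroup.list_prod_mem _ fun x hx => ?_
      obtain ⟨l, hl, rfl⟩ := List.mem_map.1 hx
      exact ih l (hm l hl) ((hm l hl).trans hk)
  obtain ⟨hnm, hcard, -⟩ := chain_spec tablesSound_letters
    (fun i (hi : i < 24) j (hj : j < 24) e => by rw [← idx_pt hi, ← idx_pt hj, e])
    (fun β hβ => List.mem_range.1 hβ)
    (fun g _ h => perm_ext_pt fun i hi => (h i (List.mem_range.2 hi)))
    m23Chain m23_chain_ok
  have hle : sub letter (nextGens m23Chain) ≤ C := by
    rw [sub, Subgroup.closure_le]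
    rintro _ ⟨k, hk, rfl⟩
    exact hmem k (hnm k hk)
  have hle2 : sub letter (nextGens m23Chain) ≤
      M24 ⊓ MulAction.stabilizer (Equiv.Perm GolayPt) (none : GolayPt) := by
    rw [sub, Subgroup.closure_le]
    rintro _ ⟨k, hk, rfl⟩
    refine ⟨toPerm_mem_M24 (ha ⟨k, hnm k hk⟩).1, MulAction.mem_stabilizer_iff.2 ?_⟩
    rw [show (none : GolayPt) = pt 23 by decide +kernel, Equiv.Perm.smul_def]
    exact (toPerm_pt (hv ⟨k, hnm k hk⟩) (by norm_num)).trans (congrArg pt (ha ⟨k, hnm k hk⟩).2)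
  have heq := Subgroup.eq_of_le_of_card_ge hle2 (by
    rw [hcard, natCard_m23 none]; decide +kernel)
  exact hle (heq ▸ ⟨hσ, MulAction.mem_stabilizer_iff.2 h0⟩)

end Cfsg.Agent.OutCert
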