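import Cfsg.Agent.Lib.OutCert.Basic
import Cfsg.Agent.Lib.OutCert.M23
import Cfsg.Agent.Lib.Leech.Co1Simple
import Cfsg.Agent.Lib.Leech.StabM22
import Cfsg.Agent.Lib.Leech.MatEl

/-!
# The permutations fixing `∞` inside `Co0`

* `pX`, `pY`, `pZ`, `xyzGroup`, `perm_mem_xyz`
* `exists_perm_of_fix` : fixing `baseF` and `vecO` means such a permutation
* `normX_co0`, `normY_co0` : the normalisers of `⟨pX⟩`, `⟨pY⟩` among them
* `cand32`, `cand48` : fixed vectors of `pY` in the configuration of `baseF`, `vecO`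
* `exponents_eq` : a relation separating the possible automorphisms
-/

set_option autoImplicit false

namespace Cfsg.Agent.OutCert

open Leech MulAction

theorem permHom_injective : Function.Injective Leech.permHom := fun σ τ h =>
  Subtype.ext (mono_injective (hσ := σ.2) (hτ := τ.2) (hc := Golay.empty_mem)
    (hd := Golay.empty_mem) h).1

/-- The translation in `M24`. -/
noncomputable def mX : M24 := ⟨sX, sX_mem⟩

/-- The doubling in `M24`. -/
noncomputable def mY : M24 := ⟨sY, sY_mem⟩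

/-- The element of order five in `M24`. -/
noncomputable def mZ : M24 := ⟨sZ, sZ_mem⟩

/-- The translation in `Co0`. -/
noncomputable def pX : Co0 := Leech.permHom mX

/-- The doubling in `Co0`. -/
noncomputable def pY : Co0 := Leech.permHom mY

/-- The element of order five in `Co0`. -/
noncomputable def pZ : Co0 := Leech.permHom mZ

/-- The group of the three. -/
noncomputable def xyzGroup : Subgroup Co0 := Subgroup.closure {pX, pY, pZ}

theorem pX_mem : pX ∈ xyzGroup := Subgroup.subset_closure (Or.inl rfl)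

theorem pY_mem : pY ∈ xyzGroup := Subgroup.subset_closure (Or.inr (Or.inl rfl))

theorem pZ_mem : pZ ∈ xyzGroup := Subgroup.subset_closure (Or.inr (Or.inr rfl))

theorem perm_mem_xyz {σ : Equiv.Perm GolayPt} (hσ : σ ∈ M24) (h : σ none = none) :
    permEl σ hσ ∈ xyzGroup := by
  have key : ∀ τ, τ ∈ Subgroup.closure ({sX, sY, sZ} : Set (Equiv.Perm GolayPt)) →
      ∃ hτ : τ ∈ M24, Leech.permHom ⟨τ, hτ⟩ ∈ xyzGroup := by
    intro τ hτ
    induction hτ using Subgroup.closure_induction with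
    | mem x hx =>
      rcases hx with rfl | rfl | rfl
      · exact ⟨sX_mem, pX_mem⟩
      · exact ⟨sY_mem, pY_mem⟩
      · exact ⟨sZ_mem, pZ_mem⟩
    | one => exact ⟨one_mem _, by rw [show (⟨1, one_mem _⟩ : M24) = 1 from rfl, map_one]; exact one_mem _⟩
    | mul a b _ _ ha hb =>
      obtain ⟨a1, a2⟩ := ha
      obtain ⟨b1, b2⟩ := hb
      exact ⟨mul_mem a1 b1, by
        rw [show (⟨a * b, mul_mem a1 b1⟩ : M24) = ⟨a, a1⟩ * ⟨b, b1⟩ from rfl, map_mul]
        exact mul_mem a2 b2⟩
    | inv a _ ha =>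
      obtain ⟨a1, a2⟩ := ha
      exact ⟨inv_mem a1, by
        rw [show (⟨a⁻¹, inv_mem a1⟩ : M24) = ⟨a, a1⟩⁻¹ from rfl, map_inv]
        exact inv_mem a2⟩
  obtain ⟨_, h2⟩ := key σ (mem_closure_xyz hσ h)
  exact h2

theorem orderOf_pX : orderOf pX = 23 := by
  have : Fact (Nat.Prime 23) := ⟨by norm_num⟩
  rw [pX, orderOf_injective Leech.permHom permHom_injective, ← Subgroup.orderOf_coe]
  refine orderOf_eq_prime sX_pow_23 fun e => ?_
  have h := congrArg (fun σ : Equiv.Perm GolayPt => Golay.idx (σ (Golay.pt 0))) e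
  simp only [mX, Equiv.Perm.one_apply] at h
  rw [← pow_one sX, sX_pow_pt 1 (by norm_num)] at h
  revert h
  decide +kernel

theorem orderOf_pY : orderOf pY = 11 := by
  have : Fact (Nat.Prime 11) := ⟨by norm_num⟩
  rw [pY, orderOf_injective Leech.permHom permHom_injective, ← Subgroup.orderOf_coe]
  refine orderOf_eq_prime sY_pow_11 fun e => ?_
  have h := congrArg (fun σ : Equiv.Perm GolayPt => Golay.idx (σ (Golay.pt 1))) e
  simp only [mY, Equiv.Perm.one_apply] at h
  rw [← pow_one sY, sY_pow_pt 1 (by norm_num)] at h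
  revert h
  decide +kernel

theorem pY_conj_pX : pY * pX * pY⁻¹ = pX ^ 2 := by
  rw [mul_inv_eq_iff_eq_mul, pX, pY, ← map_pow, ← map_mul, ← map_mul]
  exact congrArg _ (Subtype.ext sY_conj_sX)

theorem pZ_conj_pY : pZ * pY = pY ^ 3 * pZ := by
  rw [pZ, pY, ← map_pow, ← map_mul, ← map_mul]
  exact congrArg _ (Subtype.ext sZ_conj_sY)

/-- The minimal vector `(-3, 1²³)`. -/
def vecO : leechLattice := ⟨oddMin, oddMin_mem⟩

theorem baseF_sub_vecO : baseF - vecO = eightVec none := by
  refine Subtype.ext (funext fun i => ?_)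
  rw [AddSubgroup.coe_sub, Pi.sub_apply, coe_eightVec, Pi.single_apply]
  show fiveFun i - oddMin i = _
  rw [fiveFun, oddMin]
  split_ifs <;> norm_num

theorem dot_F_O : dotInt (baseF : GolayPt → ℤ) (vecO : GolayPt → ℤ) = 8 := by decide +kernel

theorem sqNorm_vecO : sqNorm (vecO : GolayPt → ℤ) = 32 := sqNorm_oddMin

theorem exists_perm_of_fix {g : Co0} (hF : g • baseF = baseF) (hO : g • vecO = vecO) :
    ∃ (σ : Equiv.Perm GolayPt) (hσ : σ ∈ M24), σ none = none ∧ g = permEl σ hσ := by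
  have h8 : g • eightVec none = eightVec none := by rw [← baseF_sub_vecO, smul_vsub, hF, hO]
  have hs : g ∈ stdStab := by
    show ((g • eightVec none : leechLattice) : GolayPt → ℤ) ∈ stdCross
    rw [h8]
    exact eightVec_mem_stdCross none
  obtain ⟨σ, hσ, c, hc, rfl⟩ := exists_mono_of_mem hs
  have e : ∀ i, (if i ∈ c then -fiveFun (σ.symm i) else fiveFun (σ.symm i)) = fiveFun i := by
    intro i
    have := congrArg (fun v : leechLattice => (v : GolayPt → ℤ) i) hF
    simpa [vec_mono, signedPerm, baseF] using this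
  have hc0 : c = ∅ := by
    refine Finset.eq_empty_iff_forall_notMem.2 fun i hi => ?_
    have := e i
    rw [if_pos hi, fiveFun, fiveFun] at this
    split_ifs at this <;> omega
  subst hc0
  refine ⟨σ, hσ, ?_, rfl⟩
  have := e (σ none)
  simp only [Finset.notMem_empty, if_false, Equiv.symm_apply_apply, fiveFun, if_true] at this
  split_ifs at this with hn
  · exact hn
  · exact absurd this (by norm_num)

theorem pXYZ_fix {g : Co0} (hg : g ∈ xyzGroup) : g • baseF = baseF ∧ g • vecO = vecO := by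
  have hO : ∀ {σ : Equiv.Perm GolayPt} (hσ : σ ∈ M24), σ none = none →
      permEl σ hσ • baseF = baseF ∧ permEl σ hσ • vecO = vecO := fun {σ} hσ h => by
    have hF := permEl_smul_baseF hσ h
    refine ⟨hF, Subtype.ext (funext fun i => ?_)⟩
    rw [vec_permEl]
    show oddMin (σ.symm i) = oddMin i
    rw [oddMin, oddMin]
    simp only [Equiv.symm_apply_eq, h]
  have hle : xyzGroup ≤ stabilizer Co0 baseF ⊓ stabilizer Co0 vecO := by
    rw [xyzGroup, Subgroup.closure_le]
    rintro _ (rfl | rfl | rfl)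
    · exact ⟨(hO sX_mem sXY_none.1).1, (hO sX_mem sXY_none.1).2⟩
    · exact ⟨(hO sY_mem sXY_none.2.1).1, (hO sY_mem sXY_none.2.1).2⟩
    · exact ⟨(hO sZ_mem sXY_none.2.2).1, (hO sZ_mem sXY_none.2.2).2⟩
  exact hle hg

/-- The normaliser of `⟨pX⟩` among the permutations fixing `∞`. -/
theorem normX_co0 {g : Co0} (hF : g • baseF = baseF) (hO : g • vecO = vecO)
    (h : g * pX * g⁻¹ ∈ Subgroup.zpowers pX) : ∃ a b : ℕ, g = pX ^ a * pY ^ b := by
  obtain ⟨σ, hσ, h0, rfl⟩ := exists_perm_of_fix hF hO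
  obtain ⟨j, hj⟩ := mem_powers_iff_mem_zpowers.2 h
  have e : σ * sX = sX ^ j * σ := by
    have h1 : Leech.permHom (⟨σ, hσ⟩ * mX) = Leech.permHom (mX ^ j * ⟨σ, hσ⟩) := by
      rw [map_mul, map_mul, map_pow]
      show permEl σ hσ * pX = pX ^ j * permEl σ hσ
      simp only at hj
      rw [hj, inv_mul_cancel_right]
    exact congrArg Subtype.val (permHom_injective h1)
  obtain ⟨a, b, hab⟩ := normX_cases hσ h0 e
  refine ⟨a, b, ?_⟩
  rw [pX, pY, ← map_pow, ← map_pow, ← map_mul]
  exact congrArg Leech.permHom (Subtype.ext hab : (⟨σ, hσ⟩ : M24) = mX ^ a * mY ^ b)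

/-- The normaliser of `⟨pY⟩` among the permutations fixing `∞`, for some exponents. -/
theorem normY_co0 {g : Co0} (hF : g • baseF = baseF) (hO : g • vecO = vecO) {e : ℕ}
    (he : e ∈ [1, 3, 8, 10]) (h : g * pY = pY ^ e * g) :
    (e = 1 ∧ ∃ b : ℕ, g = pY ^ b) ∨ (e = 3 ∧ ∃ b : ℕ, g = pZ * pY ^ b) := by
  obtain ⟨σ, hσ, h0, rfl⟩ := exists_perm_of_fix hF hO
  have e1 : σ * sY = sY ^ e * σ := by
    have h1 : Leech.permHom (⟨σ, hσ⟩ * mY) = Leech.permHom (mY ^ e * ⟨σ, hσ⟩) := by
      rw [map_mul, map_mul, map_pow]; exact h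
    exact congrArg Subtype.val (permHom_injective h1)
  rcases normY_cases hσ h0 he e1 with ⟨he', b, hb⟩ | ⟨he', b, hb⟩
  · refine Or.inl ⟨he', b, ?_⟩
    rw [pY, ← map_pow]
    exact congrArg Leech.permHom (Subtype.ext hb : (⟨σ, hσ⟩ : M24) = mY ^ b)
  · refine Or.inr ⟨he', b, ?_⟩
    rw [pZ, pY, ← map_pow, ← map_mul]
    exact congrArg Leech.permHom (Subtype.ext hb : (⟨σ, hσ⟩ : M24) = mZ * mY ^ b)

/-- An element of prime order fixing `v` fixes its image under a normalising element. -/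
theorem fix_of_conj {G α : Type} [Group G] [Finite G] [MulAction G α] {p : ℕ} [Fact p.Prime]
    {g y : G} (hy : orderOf y = p) (h : g * y * g⁻¹ ∈ Subgroup.zpowers y) {v : α} (hv : y • v = v) :
    y • (g • v) = g • v := by
  have hz : orderOf (g * y * g⁻¹) = p := by
    rw [← hy]
    exact orderOf_injective (MulAut.conj g).toMonoidHom (MulAut.conj g).injective y
  have hle : Subgroup.zpowers (g * y * g⁻¹) ≤ stabilizer G (g • v) :=
    Subgroup.zpowers_le.2 (mem_stabilizer_iff.2 (by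
      rw [mul_smul, inv_smul_smul, mul_smul, hv]))
  rw [zpowers_eq_of_mem hy hz h] at hle
  exact mem_stabilizer_iff.1 (hle (Subgroup.mem_zpowers y))

/-- The squares modulo `23`. -/
def isQR (k : ℕ) : Bool := (List.range 11).any fun m => 2 ^ m % 23 == k

/-- The list with prescribed values on the orbits of the doubling. -/
def vec4 (a b c d : ℤ) : List ℤ :=
  (List.range 24).map fun k => if k = 23 then a else if k = 0 then b else if isQR k then c else d

theorem vec4_getD (a b c d : ℤ) {k : ℕ} (hk : k < 24) : (vec4 a b c d).getD k 0 =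
    if k = 23 then a else if k = 0 then b else if isQR k then c else d := by
  rw [vec4, List.getD_eq_getElem _ _ (by simpa using hk), List.getElem_map, List.getElem_range]

theorem exists_vec4 {v : leechLattice} (h : pY • v = v) :
    ∃ a b c d : ℤ, (v : GolayPt → ℤ) = vOf (vec4 a b c d) := by
  have h1 : ∀ (m : ℕ) (p : GolayPt), (v : GolayPt → ℤ) ((sY ^ m) p) = (v : GolayPt → ℤ) p := by
    intro m
    induction m with
    | zero => simp
    | succ m ih =>
      intro p
      rw [pow_succ, Equiv.Perm.mul_apply, ih]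
      conv_lhs => rw [← h]
      show ((permEl sY sY_mem • v : leechLattice) : GolayPt → ℤ) (sY p) = _
      rw [vec_permEl, Equiv.symm_apply_apply]
  have hrep : ∀ k : Fin 24, k.val = 23 ∨ k.val = 0 ∨ ∃ m : Fin 11,
      (Golay.fn dY)^[m.val] (if isQR k.val then 1 else 22) = k.val := by decide +kernel
  refine ⟨(v : GolayPt → ℤ) (Golay.pt 23), (v : GolayPt → ℤ) (Golay.pt 0),
    (v : GolayPt → ℤ) (Golay.pt 1), (v : GolayPt → ℤ) (Golay.pt 22), funext fun p => ?_⟩
  show _ = (vec4 _ _ _ _).getD (Golay.idx p) 0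
  rw [vec4_getD _ _ _ _ (Golay.idx_lt p)]
  conv_lhs => rw [← Golay.pt_idx p]
  have hk := hrep ⟨_, Golay.idx_lt p⟩
  simp only at hk
  split_ifs with c1 c2 c3
  · rw [c1]
  · rw [c2]
  all_goals
    obtain ⟨m, hm⟩ := (hk.resolve_left c1).resolve_left c2
  · rw [if_pos c3] at hm
    rw [← hm, ← sY_pow_pt _ (by norm_num), h1]
  · rw [if_neg c3] at hm
    rw [← hm, ← sY_pow_pt _ (by norm_num), h1]

theorem vec4_dot (a b c d a' b' c' d' : ℤ) :
    dotInt (vOf (vec4 a b c d)) (vOf (vec4 a' b' c' d')) =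
      a * a' + b * b' + 11 * (c * c') + 11 * (d * d') := by
  show ∑ i : GolayPt, (vec4 a b c d).getD (Golay.idx i) 0 * (vec4 a' b' c' d').getD (Golay.idx i) 0 = _
  rw [sum_idx (fun k => (vec4 a b c d).getD k 0 * (vec4 a' b' c' d').getD k 0),
    Finset.sum_congr rfl fun k hk => by
      rw [vec4_getD _ _ _ _ (Finset.mem_range.1 hk), vec4_getD _ _ _ _ (Finset.mem_range.1 hk)]]
  simp +decide [Finset.sum_range_succ]
  ring

theorem coe_FO : (baseF : GolayPt → ℤ) = vOf (vec4 5 1 1 1) ∧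
    (vecO : GolayPt → ℤ) = vOf (vec4 (-3) 1 1 1) := by
  constructor <;> funext p <;> revert p <;> decide +kernel

/-- Divisibility of the products with the standard generators. -/
def dotsOK (x : List ℤ) : Bool := genLists.all fun g => dotL g x % 8 == 0

theorem dotsOK_of_mem {x : List ℤ} (hx : x.length = 24) (h : vOf x ∈ leechLattice) :
    dotsOK x = true := by
  refine List.all_eq_true.2 fun g hg => ?_
  have hok : ∀ g ∈ genLists, inLatL g = true := by decide +kernel
  have := dvd_dotInt (mem_of_inLatL (hok g hg)) h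
  rw [show dotInt (vOf g) (vOf x) = vOf g ⬝ᵥ vOf x from rfl, vOf_dotProduct g hx] at this
  rw [beq_iff_eq]
  omega

/-- The candidates of the two configurations. -/
def CandP (A B C D : ℤ) : Prop :=
    (A * A + B * B + 11 * (C * C) + 11 * (D * D) = 32 → 5 * A + B + 11 * C + 11 * D = 8 →
      dotsOK (vec4 A B C D) = true →
      (A, B, C, D) ∈ [((-3 : ℤ), (1 : ℤ), (1 : ℤ), (1 : ℤ)), (1, 3, -1, 1)]) ∧
    (A * A + B * B + 11 * (C * C) + 11 * (D * D) = 48 → -3 * A + B + 11 * C + 11 * D = 8 →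
      dotsOK (vec4 A B C D) = true →
      (A, B, C, D) ∈ [((5 : ℤ), (1 : ℤ), (1 : ℤ), (1 : ℤ)), (-1, 5, 1, -1)])

set_option synthInstance.maxSize 1024 in
instance decidableCandP (A B C D : ℤ) : Decidable (CandP A B C D) := by unfold CandP; infer_instance

theorem cand_check : ∀ a : Fin 15, ∀ b : Fin 15, ∀ c : Fin 5, ∀ d : Fin 5,
    CandP ((a.val : ℤ) - 7) ((b.val : ℤ) - 7) ((c.val : ℤ) - 2) ((d.val : ℤ) - 2) := by
  decide +kernel

theorem exists_fin_shift {a : ℤ} {n : ℕ} (k : ℕ) (h1 : -(k : ℤ) ≤ a) (h2 : a + k < n) :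
    ∃ j : Fin n, (j.val : ℤ) - k = a :=
  ⟨⟨(a + k).toNat, by omega⟩, by simp; omega⟩

theorem cand_aux {v : leechLattice} {n : ℤ} (hn : sqNorm (v : GolayPt → ℤ) = n) (hn' : n ≤ 48)
    (hv : pY • v = v) : ∃ (a : Fin 15) (b : Fin 15) (c : Fin 5) (d : Fin 5),
      let A : ℤ := a.val - 7; let B : ℤ := b.val - 7; let C : ℤ := c.val - 2; let D : ℤ := d.val - 2;
      (v : GolayPt → ℤ) = vOf (vec4 A B C D) ∧ A * A + B * B + 11 * (C * C) + 11 * (D * D) = n ∧
        dotsOK (vec4 A B C D) = true := by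
  obtain ⟨A, B, C, D, e⟩ := exists_vec4 hv
  have hs : A * A + B * B + 11 * (C * C) + 11 * (D * D) = n := by
    rw [← vec4_dot, ← e, ← sqNorm_eq_dotInt, hn]
  have hA := mul_self_nonneg A
  have hB := mul_self_nonneg B
  have hC := mul_self_nonneg C
  have hD := mul_self_nonneg D
  have a1 : -7 ≤ A ∧ A ≤ 7 := ⟨by nlinarith, by nlinarith⟩
  have b1 : -7 ≤ B ∧ B ≤ 7 := ⟨by nlinarith, by nlinarith⟩
  have c1 : -2 ≤ C ∧ C ≤ 2 := ⟨by nlinarith, by nlinarith⟩
  have d1 : -2 ≤ D ∧ D ≤ 2 := ⟨by nlinarith, by nlinarith⟩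
  obtain ⟨a, rfl⟩ := exists_fin_shift (a := A) (n := 15) 7 (by omega) (by omega)
  obtain ⟨b, rfl⟩ := exists_fin_shift (a := B) (n := 15) 7 (by omega) (by omega)
  obtain ⟨c, rfl⟩ := exists_fin_shift (a := C) (n := 5) 2 (by omega) (by omega)
  obtain ⟨d, rfl⟩ := exists_fin_shift (a := D) (n := 5) 2 (by omega) (by omega)
  exact ⟨a, b, c, d, e, hs, dotsOK_of_mem (by simp [vec4]) (e ▸ v.2)⟩

theorem cand32 {v : leechLattice} (hv : pY • v = v) (hn : sqNorm (v : GolayPt → ℤ) = 32)
    (hd : dotInt (baseF : GolayPt → ℤ) (v : GolayPt → ℤ) = 8) :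
    v = vecO ∨ (v : GolayPt → ℤ) = vOf (vec4 1 3 (-1) 1) := by
  obtain ⟨a, b, c, d, e, hs, hok⟩ := cand_aux hn (by norm_num) hv
  rw [coe_FO.1, e, vec4_dot] at hd
  have := (cand_check a b c d).1 hs (by linarith) hok
  simp only [List.mem_cons, List.not_mem_nil, or_false, Prod.mk.injEq] at this
  rcases this with ⟨h1, h2, h3, h4⟩ | ⟨h1, h2, h3, h4⟩ <;> rw [h1, h2, h3, h4] at e
  · exact Or.inl (Subtype.ext (e.trans coe_FO.2.symm))
  · exact Or.inr e

theorem cand48 {v : leechLattice} (hv : pY • v = v) (hn : sqNorm (v : GolayPt → ℤ) = 48)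
    (hd : dotInt (vecO : GolayPt → ℤ) (v : GolayPt → ℤ) = 8) :
    v = baseF ∨ (v : GolayPt → ℤ) = vOf (vec4 (-1) 5 1 (-1)) := by
  obtain ⟨a, b, c, d, e, hs, hok⟩ := cand_aux hn (by norm_num) hv
  rw [coe_FO.2, e, vec4_dot] at hd
  have := (cand_check a b c d).2 hs (by linarith) hok
  simp only [List.mem_cons, List.not_mem_nil, or_false, Prod.mk.injEq] at this
  rcases this with ⟨h1, h2, h3, h4⟩ | ⟨h1, h2, h3, h4⟩ <;> rw [h1, h2, h3, h4] at e
  · exact Or.inl (Subtype.ext (e.trans coe_FO.1.symm))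
  · exact Or.inr e

theorem not_pX_fix {v : leechLattice} (hv : pX • v = v) :
    (v : GolayPt → ℤ) (Golay.pt 0) = (v : GolayPt → ℤ) (Golay.pt 22) := by
  conv_lhs => rw [← hv]
  show ((permEl sX sX_mem • v : leechLattice) : GolayPt → ℤ) (Golay.pt 0) = _
  rw [vec_permEl]
  refine congrArg (v : GolayPt → ℤ) ?_
  show sX.symm _ = _
  rw [Equiv.symm_apply_eq, ← pow_one sX, sX_pow_pt 1 (by norm_num)]
  exact congrArg Golay.pt (by decide +kernel)

/-! ### A relation -/

/-- The three letters. -/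
noncomputable def mL (k : ℕ) : M24 := if k = 0 then mX else if k = 1 then mY else mZ

/-- A word of value one. -/
def relW : List ℕ := [1, 2, 2, 0, 2, 1, 2, 2, 0, 2, 1, 2, 2, 0, 2, 1, 2, 2, 0, 2]

/-- The substitution `x ↦ x ^ i`, `z ↦ z * y ^ b`. -/
def subW (i b : ℕ) : List ℕ → List ℕ
  | [] => []
  | k :: l => (if k = 0 then List.replicate i 0 else if k = 1 then [1] else 2 :: List.replicate b 1)
      ++ subW i b l

theorem rel_check : (∀ β : Fin 24, StabCert.ev 5 [dX, dY, dZ] relW β.val = β.val) ∧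
    ∀ i : Fin 23, (i.val = 1 ∨ i.val = 22) → ∀ b : Fin 11, (i.val = 1 ∧ b.val = 0) ∨
      ∃ β : Fin 24, StabCert.ev 5 [dX, dY, dZ] (subW i.val b.val relW) β.val ≠ β.val := by
  decide +kernel

theorem tablesSound_mL :
    StabCert.TablesSound M24.subtype mL Golay.pt 5 24 3 [dX, dY, dZ] := by
  intro k hk j hj
  interval_cases k
  · exact ⟨Golay.fn_lt_of_valid valid_xyz.1 hj, Golay.toPerm_pt valid_xyz.1 hj⟩
  · exact ⟨Golay.fn_lt_of_valid valid_xyz.2.1 hj, Golay.toPerm_pt valid_xyz.2.1 hj⟩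
  · exact ⟨Golay.fn_lt_of_valid valid_xyz.2.2 hj, Golay.toPerm_pt valid_xyz.2.2 hj⟩

theorem subW_lt (i b : ℕ) : ∀ l : List ℕ, ∀ k ∈ subW i b l, k < 3
  | [], _, h => absurd h List.not_mem_nil
  | a :: l, k, h => by
    rw [subW, List.mem_append] at h
    rcases h with h | h
    · split_ifs at h
      · rw [List.eq_of_mem_replicate h]; norm_num
      · rw [List.mem_singleton.1 h]; norm_num
      · rcases List.mem_cons.1 h with h | h
        · omega
        · rw [List.eq_of_mem_replicate h]; norm_num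
    · exact subW_lt i b l k h

/-- An endomorphism of a subgroup containing the three permutations and of the given shape on them
has trivial parameters. -/
theorem exponents_eq {G : Subgroup Co0} (hx : pX ∈ G) (hy : pY ∈ G) (hz : pZ ∈ G) (f : G →* G)
    {i b : ℕ} (hi : i = 1 ∨ i = 22) (hb : b < 11) (fx : f ⟨pX, hx⟩ = ⟨pX, hx⟩ ^ i)
    (fy : f ⟨pY, hy⟩ = ⟨pY, hy⟩) (fz : f ⟨pZ, hz⟩ = ⟨pZ, hz⟩ * ⟨pY, hy⟩ ^ b) : i = 1 ∧ b = 0 := by
  let gL : ℕ → G := fun k => if k = 0 then ⟨pX, hx⟩ else if k = 1 then ⟨pY, hy⟩ else ⟨pZ, hz⟩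
  have hcoe : ∀ l : List ℕ, ((StabCert.wordEl gL l : G) : Co0) =
      Leech.permHom (StabCert.wordEl mL l) := by
    intro l
    rw [StabCert.wordEl, StabCert.wordEl, map_list_prod, List.map_map, Subgroup.val_list_prod,
      List.map_map]
    refine congrArg List.prod (List.map_congr_left fun k _ => ?_)
    simp only [Function.comp_apply, gL, mL]
    split_ifs <;> rfl
  have hsub : ∀ l : List ℕ, f (StabCert.wordEl gL l) = StabCert.wordEl gL (subW i b l) := by
    intro l
    induction l with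
    | nil => simp [StabCert.wordEl, subW]
    | cons k l ih =>
      rw [subW, StabCert.wordEl_append, ← ih]
      show f ((List.map gL (k :: l)).prod) = _
      rw [List.map_cons, List.prod_cons, map_mul]
      congr 1
      simp only [gL]
      split_ifs with k0 k1
      · rw [fx]; simp [StabCert.wordEl, List.map_replicate]
      · rw [fy]; simp [StabCert.wordEl]
      · rw [fz]; simp [StabCert.wordEl, List.map_replicate]
  obtain ⟨h1, h2⟩ := rel_check
  have hone : StabCert.wordEl mL relW = 1 := Subtype.ext (perm_ext_pt fun j hj => by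
    have h := (StabCert.ev_spec tablesSound_mL relW (by decide) j hj).2
    rw [h1 ⟨j, hj⟩] at h
    exact h)
  have hone' : StabCert.wordEl mL (subW i b relW) = 1 := by
    refine permHom_injective ?_
    rw [← hcoe, ← hsub, show StabCert.wordEl gL relW = 1 from Subtype.ext (by
      rw [hcoe, hone, map_one]; rfl), map_one, map_one]
    rfl
  rcases h2 ⟨i, by omega⟩ hi ⟨b, hb⟩ with h | ⟨β, hβ⟩
  · exact h
  · have h := (StabCert.ev_spec tablesSound_mL _ (subW_lt i b relW) β.val β.isLt).2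
    rw [hone', map_one, Equiv.Perm.one_apply] at h
    have e := congrArg Golay.idx h
    rw [Golay.idx_pt β.isLt,
      Golay.idx_pt (StabCert.ev_spec tablesSound_mL _ (subW_lt i b relW) β.val β.isLt).1] at e
    exact absurd e.symm hβ

end Cfsg.Agent.OutCert
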