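import Cfsg.Agent.Lib.OutCert.InvolData
import Cfsg.Agent.Lib.OutCert.Perms

/-!
# Two involutions of `Co0` normalising `⟨pY⟩`

* `invA` fixes `baseF`, commutes with `pY` and `pZ`
* `invB` fixes `vecO`, inverts `pY`
* `Rep` : vectors computed through lists
-/

set_option autoImplicit false

open scoped Matrix

namespace Cfsg.Agent.OutCert

open Leech MulAction

/-- An entry of a matrix given by rows. -/
def entry (L : List (List ℤ)) (i j : ℕ) : ℤ := (L.getD i []).getD j 0

theorem matEl_spec {M : Matrix GolayPt GolayPt ℤ} (h : MatOK M) (v : leechLattice) (i : GolayPt) :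
    (M *ᵥ (v : GolayPt → ℤ)) i = 8 * ((matEl M h • v : leechLattice) : GolayPt → ℤ) i := by
  rw [matImage_spec h.2.2.1 v]
  rfl

theorem matEl_eightVec (L : List (List ℤ)) (h : MatOK (toMat L)) (p i : GolayPt) :
    ((matEl (toMat L) h • eightVec p : leechLattice) : GolayPt → ℤ) i =
      entry L (Golay.idx i) (Golay.idx p) := by
  have e := matEl_spec h (eightVec p) i
  rw [coe_eightVec, Matrix.mulVec, dotProduct, Finset.sum_eq_single p (fun q _ hq => by
    rw [Pi.single_eq_of_ne hq, mul_zero]) (by simp), Pi.single_eq_same] at e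
  have : toMat L i p = entry L (Golay.idx i) (Golay.idx p) := rfl
  omega

/-- The vector is given by the list. -/
def Rep (v : leechLattice) (x : List ℤ) : Prop := x.length = 24 ∧ (v : GolayPt → ℤ) = vOf x

/-- The image of a list under a coded permutation. -/
def actP (d : ℕ) (x : List ℤ) : List ℤ :=
  (List.range 24).map fun i => x.getD ((List.range 24).findIdx fun j => Golay.fn d j == i) 0

/-- The image of a list under a matrix scaled by `8`. -/
def actM (L : List (List ℤ)) (x : List ℤ) : List ℤ := L.map fun r => dotL r x / 8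

theorem Rep.perm {v : leechLattice} {x : List ℤ} (h : Rep v x) {d : ℕ} (hd : Golay.isAut d = true) :
    Rep (permEl (Golay.toPerm d) (Golay.toPerm_mem_M24 hd) • v) (actP d x) := by
  refine ⟨by simp [actP], funext fun p => ?_⟩
  have hv := Golay.validPerm_of_isAut hd
  set q := (Golay.toPerm d).symm p with hq
  have e : Golay.fn d (Golay.idx q) = Golay.idx p := by
    have h1 : Golay.toPerm d q = p := by rw [hq, Equiv.apply_symm_apply]
    rw [← Golay.pt_idx q, Golay.toPerm_pt hv (Golay.idx_lt q)] at h1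
    rw [← h1, Golay.idx_pt (Golay.fn_lt_of_valid hv (Golay.idx_lt q))]
  rw [vec_permEl, ← hq, h.2]
  show x.getD (Golay.idx q) 0 = (actP d x).getD (Golay.idx p) 0
  conv_rhs => rw [actP, List.getD_eq_getElem _ _ (by simpa using Golay.idx_lt p), List.getElem_map,
    List.getElem_range]
  set k := (List.range 24).findIdx fun j => Golay.fn d j == Golay.idx p with hk
  have hk24 : k < 24 := by
    have : k < (List.range 24).length := List.findIdx_lt_length_of_exists
      ⟨Golay.idx q, List.mem_range.2 (Golay.idx_lt q), beq_iff_eq.2 e⟩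
    simpa using this
  have hfk : Golay.fn d k = Golay.idx p := by
    have := List.findIdx_getElem (w := by simpa using hk24)
      (xs := List.range 24) (p := fun j => Golay.fn d j == Golay.idx p)
    simpa using this
  have h2 : Golay.toPerm d (Golay.pt k) = Golay.toPerm d q := by
    rw [hq, Equiv.apply_symm_apply, Golay.toPerm_pt hv hk24, hfk, Golay.pt_idx]
  rw [← (Golay.toPerm d).injective h2, Golay.idx_pt hk24]

theorem Rep.mat {v : leechLattice} {x : List ℤ} (h : Rep v x) {L : List (List ℤ)}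
    (hL : L.length = 24) (hM : MatOK (toMat L)) : Rep (matEl (toMat L) hM • v) (actM L x) := by
  refine ⟨by simp [actM, hL], funext fun p => ?_⟩
  have e := matEl_spec hM v p
  rw [h.2, toMat_mulVec L h.1] at e
  show _ = (L.map fun r => dotL r x / 8).getD (Golay.idx p) 0
  rw [show (L.map fun r => dotL r x / 8) = (L.map fun r => dotL r x).map fun a => a / 8 by
    simp [List.map_map, Function.comp_def], show (0 : ℤ) = (fun a : ℤ => a / 8) 0 from rfl,
    List.getD_map]
  show _ = (vOf (L.map fun r => dotL r x) p) / 8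
  rw [e]
  simp

theorem Rep.eq {v w : leechLattice} {x : List ℤ} (h : Rep v x) (h' : Rep w x) : v = w :=
  Subtype.ext (h.2.trans h'.2.symm)

theorem Rep.ne {v w : leechLattice} {x y : List ℤ} (h : Rep v x) (h' : Rep w y) (hne : x ≠ y) :
    v ≠ w := fun e => hne (by
  refine List.ext_getElem (h.1.trans h'.1.symm) fun k h1 h2 => ?_
  have e' := congrFun (h.2.symm.trans ((congrArg Subtype.val e).trans h'.2)) (Golay.pt k)
  simp only [vOf, Golay.idx_pt (show k < 24 by have := h.1; omega)] at e'
  rwa [List.getD_eq_getElem _ _ h1, List.getD_eq_getElem _ _ h2] at e')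

/-- A permutation slides through a matrix with the same entries. -/
theorem perm_mul_matEl (L : List (List ℤ)) (hM : MatOK (toMat L)) {d d' : ℕ}
    (hd : Golay.isAut d = true) (hd' : Golay.isAut d' = true)
    (h : ∀ i : Fin 24, ∀ j : Fin 24,
      entry L (Golay.fn d i.val) (Golay.fn d' j.val) = entry L i.val j.val) :
    permEl (Golay.toPerm d) (Golay.toPerm_mem_M24 hd) * matEl (toMat L) hM =
      matEl (toMat L) hM * permEl (Golay.toPerm d') (Golay.toPerm_mem_M24 hd') := by
  have hv := Golay.validPerm_of_isAut hd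
  have hv' := Golay.validPerm_of_isAut hd'
  refine ext_frame fun p => Subtype.ext (funext fun i => ?_)
  have hp : permEl (Golay.toPerm d') (Golay.toPerm_mem_M24 hd') • eightVec p =
      eightVec (Golay.toPerm d' p) :=
    Subtype.ext (funext fun l => by
      rw [vec_permEl, coe_eightVec, coe_eightVec, Pi.single_apply, Pi.single_apply]
      simp only [Equiv.symm_apply_eq])
  rw [mul_smul, mul_smul, hp, matEl_eightVec, vec_permEl, matEl_eightVec]
  have key := h ⟨_, Golay.idx_lt ((Golay.toPerm d).symm i)⟩ ⟨_, Golay.idx_lt p⟩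
  simp only at key
  have e1 : Golay.fn d (Golay.idx ((Golay.toPerm d).symm i)) = Golay.idx i := by
    have h1 := (Golay.toPerm d).apply_symm_apply i
    rw [← Golay.pt_idx ((Golay.toPerm d).symm i), Golay.toPerm_pt hv (Golay.idx_lt _)] at h1
    have h2 := congrArg Golay.idx h1
    rwa [Golay.idx_pt (Golay.fn_lt_of_valid hv (Golay.idx_lt _))] at h2
  have e2 : Golay.idx (Golay.toPerm d' p) = Golay.fn d' (Golay.idx p) := by
    conv_lhs => rw [← Golay.pt_idx p, Golay.toPerm_pt hv' (Golay.idx_lt p)]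
    rw [Golay.idx_pt (Golay.fn_lt_of_valid hv' (Golay.idx_lt p))]
  rw [e2, ← e1, key]

theorem matEl_mul_self (M : Matrix GolayPt GolayPt ℤ) (h : MatOK M) (hs : Mᵀ = M) :
    matEl M h * matEl M h = 1 := by
  refine co0_ext fun v => Subtype.ext (funext fun i => ?_)
  have e : (fun i => 8 * ((matEl M h • v : leechLattice) : GolayPt → ℤ) i) = M *ᵥ (v : GolayPt → ℤ) :=
    funext fun i => (matEl_spec h v i).symm
  have e2 : M *ᵥ (fun i => 8 * ((matEl M h • v : leechLattice) : GolayPt → ℤ) i) =
      (64 : ℤ) • (v : GolayPt → ℤ) := by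
    have h1 := h.1
    rw [hs] at h1
    rw [e, Matrix.mulVec_mulVec, h1, Matrix.smul_mulVec, Matrix.one_mulVec]
  have e3 := congrFun e2 i
  rw [show (fun i => 8 * ((matEl M h • v : leechLattice) : GolayPt → ℤ) i) =
    (8 : ℤ) • ((matEl M h • v : leechLattice) : GolayPt → ℤ) from rfl, Matrix.mulVec_smul,
    Pi.smul_apply, Pi.smul_apply, matEl_spec h, smul_eq_mul, smul_eq_mul, ← mul_smul] at e3
  rw [one_smul]
  omega

/-- The matrix of `invA`. -/
theorem okA : matOKB t3Rows t3Rows t3Cols t3Cols t3Imgs t3Imgs = true := by decide +kernel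

/-- The matrix of `invB`. -/
theorem okB : matOKB t2Rows t2Rows t2Cols t2Cols t2Imgs t2Imgs = true := by decide +kernel

/-- The involution fixing `baseF`. -/
noncomputable def invA : Co0 := matEl (toMat t3Rows) (matOK_of_lists okA).1

/-- The involution fixing `vecO`. -/
noncomputable def invB : Co0 := matEl (toMat t2Rows) (matOK_of_lists okB).1

theorem invA_mul_self : invA * invA = 1 :=
  matEl_mul_self _ _ (by
    ext i j
    exact (by decide +kernel : ∀ a : Fin 24, ∀ b : Fin 24,
      entry t3Rows b.val a.val = entry t3Rows a.val b.val) ⟨_, Golay.idx_lt i⟩ ⟨_, Golay.idx_lt j⟩)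

theorem invB_mul_self : invB * invB = 1 :=
  matEl_mul_self _ _ (by
    ext i j
    exact (by decide +kernel : ∀ a : Fin 24, ∀ b : Fin 24,
      entry t2Rows b.val a.val = entry t2Rows a.val b.val) ⟨_, Golay.idx_lt i⟩ ⟨_, Golay.idx_lt j⟩)

/-- The code of the inverse doubling. -/
def dY10 : ℕ := 0xbaecaaa68899e468960478dc268580

/-- The code of `z * y ^ 10`. -/
def dZY : ℕ := 0xba9719c2a6759a939452a11e860460

theorem isAut_aux : Golay.isAut dY10 = true ∧ Golay.isAut dZY = true := by decide +kernel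

theorem perm_dY10 : permEl (Golay.toPerm dY10) (Golay.toPerm_mem_M24 isAut_aux.1) = pY ^ 10 := by
  rw [pY, ← map_pow]
  refine congrArg Leech.permHom (Subtype.ext (perm_ext_pt fun i hi => ?_) :
    (⟨_, Golay.toPerm_mem_M24 isAut_aux.1⟩ : M24) = mY ^ 10)
  show Golay.toPerm dY10 (Golay.pt i) = (sY ^ 10) (Golay.pt i)
  rw [Golay.toPerm_pt (Golay.validPerm_of_isAut isAut_aux.1) hi, sY_pow_pt 10 hi]
  exact congrArg Golay.pt ((by decide +kernel :
    ∀ i < 24, Golay.fn dY10 i = (Golay.fn dY)^[10] i) i hi)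

theorem perm_dZY : permEl (Golay.toPerm dZY) (Golay.toPerm_mem_M24 isAut_aux.2) = pZ * pY ^ 10 := by
  rw [pZ, pY, ← map_pow, ← map_mul]
  refine congrArg Leech.permHom (Subtype.ext (perm_ext_pt fun i hi => ?_) :
    (⟨_, Golay.toPerm_mem_M24 isAut_aux.2⟩ : M24) = mZ * mY ^ 10)
  show Golay.toPerm dZY (Golay.pt i) = sZ ((sY ^ 10) (Golay.pt i))
  rw [Golay.toPerm_pt (Golay.validPerm_of_isAut isAut_aux.2) hi, sY_pow_pt 10 hi]
  show _ = Golay.toPerm dZ _
  rw [Golay.toPerm_pt valid_xyz.2.2 (iterate_lt valid_xyz.2.1 _ hi)]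
  exact congrArg Golay.pt ((by decide +kernel :
    ∀ i < 24, Golay.fn dZY i = Golay.fn dZ ((Golay.fn dY)^[10] i)) i hi)

theorem invA_pY : pY * invA = invA * pY :=
  perm_mul_matEl t3Rows _ isAut_xyz.2.1 isAut_xyz.2.1 (by decide +kernel)

theorem invA_pZ : pZ * invA = invA * pZ :=
  perm_mul_matEl t3Rows _ isAut_xyz.2.2 isAut_xyz.2.2 (by decide +kernel)

theorem invB_pY : pY * invB = invB * pY ^ 10 := by
  rw [← perm_dY10]
  exact perm_mul_matEl t2Rows _ isAut_xyz.2.1 isAut_aux.1 (by decide +kernel)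

theorem invB_pZ : pZ * invB = invB * (pZ * pY ^ 10) := by
  rw [← perm_dZY]
  exact perm_mul_matEl t2Rows _ isAut_xyz.2.2 isAut_aux.2 (by decide +kernel)

theorem rep_F : Rep baseF (vec4 5 1 1 1) := ⟨by simp [vec4], coe_FO.1⟩

theorem rep_O : Rep vecO (vec4 (-3) 1 1 1) := ⟨by simp [vec4], coe_FO.2⟩

theorem rep_U : Rep baseU (vec4 4 4 0 0) :=
  ⟨by simp [vec4], funext fun p => by revert p; decide +kernel⟩

theorem rep_U' : Rep baseU' (vec4 4 (-4) 0 0) :=
  ⟨by simp [vec4], funext fun p => by revert p; decide +kernel⟩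

theorem Rep.pX {v : leechLattice} {x : List ℤ} (h : Rep v x) : Rep (OutCert.pX • v) (actP dX x) :=
  h.perm isAut_xyz.1

theorem Rep.pY {v : leechLattice} {x : List ℤ} (h : Rep v x) : Rep (OutCert.pY • v) (actP dY x) :=
  h.perm isAut_xyz.2.1

theorem Rep.pZ {v : leechLattice} {x : List ℤ} (h : Rep v x) : Rep (OutCert.pZ • v) (actP dZ x) :=
  h.perm isAut_xyz.2.2

theorem Rep.invA {v : leechLattice} {x : List ℤ} (h : Rep v x) :
    Rep (OutCert.invA • v) (actM t3Rows x) :=
  h.mat (matOK_of_lists okA).2.2.1 _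

theorem Rep.invB {v : leechLattice} {x : List ℤ} (h : Rep v x) :
    Rep (OutCert.invB • v) (actM t2Rows x) :=
  h.mat (matOK_of_lists okB).2.2.1 _

theorem invA_fix : invA • baseF = baseF := by
  have e : actM t3Rows (vec4 5 1 1 1) = vec4 5 1 1 1 := by decide +kernel
  have h := rep_F.invA
  rw [e] at h
  exact h.eq rep_F

theorem invB_fix : invB • vecO = vecO := by
  have e : actM t2Rows (vec4 (-3) 1 1 1) = vec4 (-3) 1 1 1 := by decide +kernel
  have h := rep_O.invB
  rw [e] at h
  exact h.eq rep_O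

theorem invA_vecO : Rep (invA • vecO) (vec4 1 3 (-1) 1) := by
  have e : actM t3Rows (vec4 (-3) 1 1 1) = vec4 1 3 (-1) 1 := by decide +kernel
  exact e ▸ rep_O.invA

theorem invB_baseF : Rep (invB • baseF) (vec4 (-1) 5 1 (-1)) := by
  have e : actM t2Rows (vec4 5 1 1 1) = vec4 (-1) 5 1 (-1) := by decide +kernel
  exact e ▸ rep_F.invB

theorem invA_ne_one : invA ≠ 1 := fun h =>
  Rep.ne invA_vecO rep_O (by decide +kernel) (by rw [h, one_smul])

theorem invB_ne_one : invB ≠ 1 := fun h =>
  Rep.ne invB_baseF rep_F (by decide +kernel) (by rw [h, one_smul])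

end Cfsg.Agent.OutCert
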