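import Cfsg.Agent.Lib.OutCert.FastData
import Cfsg.Agent.Lib.OutCert.Invol

/-!
# Fast evaluation of letters on lists

* `actC` : the image of a list through packed columns
* `SRep` : a short vector given by a list;  `SRep.mat`, `SRep.perm`, `SRep.sign`
-/

set_option autoImplicit false

namespace Cfsg.Agent.OutCert

open Leech

/-- Reading shifted lanes of twenty bits, divided by eight. -/
def unlanes : ℕ → ℕ → List ℤ
  | 0, _ => []
  | k + 1, n => Int.subNatNat ((n &&& 1048575) >>> 3) 65536 :: unlanes k (n >>> 20)

/-- The shift of the lanes. -/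
def laneShift : ℤ := pack (List.replicate 24 524288)

/-- The image of a list through packed columns. -/
def actC (P : List ℤ) (x : List ℤ) : List ℤ := unlanes 24 (dotL P x + laneShift).toNat

theorem unlanes_pack : ∀ l : List ℤ, (∀ a ∈ l, a.natAbs < 524288) →
    0 ≤ pack l + pack (List.replicate l.length 524288) ∧
    unlanes l.length (pack l + pack (List.replicate l.length 524288)).toNat = l.map (· / 8)
  | [], _ => by simp [pack, unlanes]
  | a :: l, h => by
    obtain ⟨ih1, ih2⟩ := unlanes_pack l fun b hb => h b (List.mem_cons_of_mem _ hb)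
    have ha := h a List.mem_cons_self
    set r := pack l + pack (List.replicate l.length 524288) with hr
    have e : pack (a :: l) + pack (List.replicate (a :: l).length 524288) =
        (a + 524288) + 1048576 * r := by
      rw [List.length_cons, List.replicate_succ, pack, pack, hr]; ring
    rw [e]
    refine ⟨by omega, ?_⟩
    have h0 : 0 ≤ a + 524288 := by omega
    have hn : ((a + 524288) + 1048576 * r).toNat = (a + 524288).toNat + 1048576 * r.toNat := by
      omega
    have hlow : (a + 524288).toNat < 1048576 := by omega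
    rw [List.length_cons, unlanes, List.map_cons, hn]
    congr 1
    · rw [show (1048575 : ℕ) = 2 ^ 20 - 1 by norm_num, Nat.and_two_pow_sub_one_eq_mod,
        Nat.shiftRight_eq_div_pow, Int.subNatNat_eq_coe]
      omega
    · rw [← ih2, Nat.shiftRight_eq_div_pow]
      congr 1
      omega

theorem actC_eq {L : List (List ℤ)} (hL : L.length = 24) (hb : L.all smallL = true) {x : List ℤ}
    (hx : x.length = 24) (hxb : ∀ a ∈ x, a.natAbs ≤ 8) : actC (packCols L) x = actM L x := by
  have hbd : ∀ a ∈ (L.map fun r => dotL r x), a.natAbs < 524288 := by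
    intro a ha
    obtain ⟨r, hr, rfl⟩ := List.mem_map.1 ha
    obtain ⟨r1, r2⟩ := smallL_spec (List.all_eq_true.1 hb r hr)
    have := abs_dotL_le r x r2 hxb
    rw [r1] at this
    omega
  have h := (unlanes_pack _ hbd).2
  rw [List.length_map, hL, pack_image L hx] at h
  rw [actC, laneShift, h, actM, List.map_map]
  rfl

/-- A vector of norm at most `80` given by a list. -/
def SRep (v : leechLattice) (x : List ℤ) : Prop :=
  Rep v x ∧ sqNorm (v : GolayPt → ℤ) ≤ 80

theorem SRep.small {v : leechLattice} {x : List ℤ} (h : SRep v x) : ∀ a ∈ x, a.natAbs ≤ 8 := by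
  intro a ha
  obtain ⟨k, hk, rfl⟩ := List.getElem_of_mem ha
  have hk24 : k < 24 := h.1.1 ▸ hk
  have e : (v : GolayPt → ℤ) (Golay.pt k) = x[k] := by
    rw [h.1.2]
    show x.getD (Golay.idx (Golay.pt k)) 0 = _
    rw [Golay.idx_pt hk24, List.getD_eq_getElem _ _ hk]
  have hle : (v : GolayPt → ℤ) (Golay.pt k) ^ 2 ≤ sqNorm (v : GolayPt → ℤ) :=
    Finset.single_le_sum (f := fun i => (v : GolayPt → ℤ) i ^ 2) (fun i _ => sq_nonneg _)
      (Finset.mem_univ _)
  rw [e] at hle
  have h80 := h.2
  by_contra hc
  have h81 : (81 : ℤ) ≤ x[k] ^ 2 := by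
    have h9 : (9 : ℤ) ≤ |x[k]| := by
      rw [Int.abs_eq_natAbs]
      omega
    nlinarith [sq_abs x[k]]
  omega

theorem SRep.smul {v : leechLattice} {x y : List ℤ} (h : SRep v x) {g : Co0} (hy : Rep (g • v) y) :
    SRep (g • v) y :=
  ⟨hy, by rw [sqNorm_smul]; exact h.2⟩

theorem SRep.mat {v : leechLattice} {x : List ℤ} (h : SRep v x) {L T : List (List ℤ)}
    {P Q : List ℤ} {YL YT : List (List ℤ)} (ok : matOKB L T P Q YL YT = true) :
    SRep (matEl (toMat L) (matOK_of_lists ok).1 • v) (actC P x) := by
  have hM := (matOK_of_lists ok).1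
  obtain ⟨-, hP, hL, hb⟩ := matOK_of_lists ok
  refine h.smul ?_
  have e : actC P x = actM L x := by rw [hP, actC_eq hL hb h.1.1 h.small]
  exact e ▸ h.1.mat hL _

/-- The rows of a coded permutation, times eight. -/
def permRows (d : ℕ) : List (List ℤ) :=
  (List.range 24).map fun i => (List.range 24).map fun j =>
    if j = (List.range 24).findIdx (fun j => Golay.fn d j == i) then 8 else 0

/-- The rows of the sign change on a mask, times eight. -/
def signRows (m : ℕ) : List (List ℤ) :=
  (List.range 24).map fun i => (List.range 24).map fun j =>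
    if j = i then (if m.testBit i then -8 else 8) else 0

theorem dotL_unit (c : ℤ) (k : ℕ) {x : List ℤ} (hx : x.length = 24) (hk : k ≤ 24) :
    dotL ((List.range 24).map fun j => if j = k then c else 0) x =
      c * x.getD k 0 := by
  rw [dotL_eq_sum, hx]
  rcases Nat.lt_or_eq_of_le hk with hk | hk
  · rw [Finset.sum_eq_single k]
    · rw [List.getD_eq_getElem _ _ (by simpa using hk)]
      simp
    · intro j hj hne
      rw [List.getD_eq_getElem _ _ (by simpa using Finset.mem_range.1 hj)]
      simp [hne]
    · intro hn
      exact absurd (Finset.mem_range.2 hk) hn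
  · rw [hk, List.getD_eq_default x 0 (by omega), mul_zero]
    refine Finset.sum_eq_zero fun j hj => ?_
    have := Finset.mem_range.1 hj
    rw [List.getD_eq_getElem _ _ (by simpa using this)]
    simp
    omega

theorem actP_eq (d : ℕ) {x : List ℤ} (hx : x.length = 24) : actP d x = actM (permRows d) x := by
  rw [actP, actM, permRows, List.map_map]
  refine List.map_congr_left fun i _ => ?_
  have hle : (List.range 24).findIdx (fun j => Golay.fn d j == i) ≤ 24 := by
    have := List.findIdx_le_length (xs := List.range 24) (p := fun j => Golay.fn d j == i)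
    simpa using this
  simp only [Function.comp_apply, dotL_unit 8 _ hx hle]
  omega

theorem SRep.perm {v : leechLattice} {x : List ℤ} (h : SRep v x) {d : ℕ} (hd : Golay.isAut d = true)
    {P : List ℤ} (hb : (permRows d).all smallL = true) (hP : P = packCols (permRows d)) :
    SRep (permEl (Golay.toPerm d) (Golay.toPerm_mem_M24 hd) • v) (actC P x) := by
  refine h.smul ?_
  rw [hP, actC_eq (by simp [permRows]) hb h.1.1 h.small, ← actP_eq d h.1.1]
  exact h.1.perm hd

theorem actD_eq (m : ℕ) {x : List ℤ} (hx : x.length = 24) :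
    ((List.range 24).map fun i => if m.testBit i then -x.getD i 0 else x.getD i 0) =
      actM (signRows m) x := by
  rw [actM, signRows, List.map_map]
  refine List.map_congr_left fun i hi => ?_
  have hi' := List.mem_range.1 hi
  simp only [Function.comp_apply, dotL_unit _ _ hx hi'.le]
  split_ifs <;> omega

theorem SRep.neg {v : leechLattice} {x : List ℤ} (h : SRep v x) (hr : Rep (-v) (x.map (- ·))) :
    SRep (-v) (x.map (- ·)) :=
  ⟨hr, by rw [AddSubgroup.coe_neg, sqNorm_neg]; exact h.2⟩

end Cfsg.Agent.OutCert
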