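import Cfsg.Agent.Lib.OutCert.Invol
import Cfsg.Agent.Lib.Leech.Co3Simple
import Cfsg.Agent.Lib.Leech.Co2Simple

/-!
# Generators of the stabilisers of `baseF` and of `vecO`

* `mcl_eq_of_le` : recognition of `mclGroup`
* `co3_gen` : `co3Group` is generated by `pX`, `pY`, `pZ`, `invA`
* `stabO_gen` : the stabiliser of `vecO` is generated by `pX`, `pY`, `pZ`, `invB`
-/

set_option autoImplicit false

namespace Cfsg.Agent.OutCert

open Leech MulAction

theorem mcl_eq_of_le {M : Subgroup Co0} (hM : M ≤ mclGroup) (h3 : stab3 ≤ M)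
    (hmove : ∃ g ∈ M, g • baseU' ≠ baseU') : M = mclGroup := by
  obtain ⟨g, hg, hgne⟩ := hmove
  have hy : g • baseU' ∈ mclPts := mclGroup_orbit ▸ ⟨g, hM hg, rfl⟩
  obtain ⟨i, hi⟩ := mclPts_cases hy
  have hsub : mclPts ∩ mclClass i ⊆ {y | ∃ a ∈ M, a • baseU' = y} := by
    rintro z ⟨-, hz⟩
    obtain ⟨t, ht, htz⟩ := mcl_trans i hi hz
    exact ⟨t * g, mul_mem (h3 (mclGroup_inf ▸ ht)) hg, by rw [mul_smul, htz]⟩
  have hfin : {y | ∃ a ∈ M, a • baseU' = y}.Finite :=
    (Set.toFinite ((fun a : Co0 => a • baseU') '' (M : Set Co0))).subset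
      fun y ⟨a, ha, e⟩ => ⟨a, ha, e⟩
  have h330 : 330 ≤ {y | ∃ a ∈ M, a • baseU' = y}.ncard := by
    refine le_trans ?_ (Set.ncard_le_ncard hsub hfin)
    rw [ncard_mclClass]
    fin_cases i
    · exact absurd hi hgne
    all_goals decide
  have horb := ncard_orbit_mul M baseU'
  have hinf : M ⊓ stabilizer Co0 baseU' = stab3 :=
    le_antisymm (mclGroup_inf ▸ inf_le_inf_right _ hM)
      (le_inf h3 fun s hs => mem_stabilizer_iff.2 (stab3_fix hs).2.2)
  rw [hinf, natCard_stab3] at horb
  by_contra hne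
  have hne' : M.subgroupOf mclGroup ≠ ⊤ := fun h => hne (le_antisymm hM (Subgroup.subgroupOf_eq_top.1 h))
  have := isSimpleGroup_mclGroup
  have h11 := prime_le_index hne' (p := 11) (by norm_num) (by rw [natCard_mclGroup]; norm_num)
  have hmul := Subgroup.index_mul_card (M.subgroupOf mclGroup)
  rw [natCard_mclGroup, Nat.card_congr (Subgroup.subgroupOfEquivOfLe hM).toEquiv] at hmul
  have h1 : 330 * 443520 ≤ Nat.card M := by
    rw [← horb]; exact Nat.mul_le_mul_right _ h330
  have := Nat.mul_le_mul h11 h1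
  rw [hmul] at this
  norm_num at this

theorem Rep.pX_pow {v : leechLattice} {x : List ℤ} (h : Rep v x) :
    ∀ n : ℕ, Rep (OutCert.pX ^ n • v) ((actP dX)^[n] x)
  | 0 => by simpa using h
  | n + 1 => by
    rw [pow_succ', mul_smul, Function.iterate_succ_apply']
    exact (Rep.pX_pow h n).pX

/-- Orbits of `baseU` with at least `24` points. -/
theorem orbit_ge {H : Subgroup Co0} (hx : pX ∈ H) {t : Co0} (ht : t ∈ H) {l : List ℤ}
    (htU : Rep (t • baseU) l)
    (hd : ∀ a : Fin 23, (actP dX)^[a.val] (vec4 4 4 0 0) ≠ l ∧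
      ∀ b : Fin 23, a.val ≠ b.val →
        (actP dX)^[a.val] (vec4 4 4 0 0) ≠ (actP dX)^[b.val] (vec4 4 4 0 0)) :
    24 ≤ {y | ∃ a ∈ H, a • baseU = y}.ncard := by
  let f : Option (Fin 23) → leechLattice := fun o => o.elim (t • baseU) fun a => pX ^ a.val • baseU
  have hf : Function.Injective f := by
    rintro (_ | a) (_ | b) e
    · rfl
    · exact absurd e.symm ((rep_U.pX_pow b.val).ne htU (hd b).1)
    · exact absurd e ((rep_U.pX_pow a.val).ne htU (hd a).1)
    · by_contra hne
      have hne' : a.val ≠ b.val := fun h => hne (by rw [Fin.ext h])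
      exact (rep_U.pX_pow a.val).ne (rep_U.pX_pow b.val) ((hd a).2 b hne') e
  have hfin : {y | ∃ a ∈ H, a • baseU = y}.Finite :=
    (Set.toFinite ((fun a : Co0 => a • baseU) '' (H : Set Co0))).subset
      fun y ⟨a, ha, e⟩ => ⟨a, ha, e⟩
  have hsub : Set.range f ⊆ {y | ∃ a ∈ H, a • baseU = y} := by
    rintro _ ⟨o, rfl⟩
    cases o with
    | none => exact ⟨t, ht, rfl⟩
    | some a => exact ⟨_, pow_mem hx a.val, rfl⟩
  refine le_trans ?_ (Set.ncard_le_ncard hsub hfin)
  rw [Set.ncard_range_of_injective hf]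
  simp

/-- A subgroup of small index `≡ 1 (mod 23)` containing a normaliser. -/
theorem index_small {G H : Subgroup Co0} (hGc : ¬ 23 ^ 2 ∣ Nat.card G) (hHG : H ≤ G)
    (hx : pX ∈ H)
    (hN : ∀ g ∈ G, g * pX * g⁻¹ ∈ Subgroup.zpowers pX → g ∈ H) :
    (H.subgroupOf G).index % 23 = 1 := by
  have : Fact (Nat.Prime 23) := ⟨by norm_num⟩
  refine index_mod_prime (x := (⟨pX, hHG hx⟩ : G))
    (by rw [Subgroup.orderOf_mk, orderOf_pX]) hGc _ fun g hg => ?_
  have h1 := (Subgroup.mem_normalizer_iff.1 hg ⟨pX, hHG hx⟩).1 (Subgroup.mem_zpowers _)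
  obtain ⟨j, hj⟩ := Subgroup.mem_zpowers_iff.1 h1
  exact hN g g.2 (Subgroup.mem_zpowers_iff.2 ⟨j, congrArg Subtype.val hj⟩)

/-- A vector fixed by `pX` is fixed by all permutations fixing `∞`. -/
theorem pX_const {v : leechLattice} (hv : pX • v = v) {σ : Equiv.Perm GolayPt} (h : σ none = none)
    (p : GolayPt) : (v : GolayPt → ℤ) (σ.symm p) = (v : GolayPt → ℤ) p := by
  have step : ∀ k < 22, (v : GolayPt → ℤ) (Golay.pt (k + 1)) = (v : GolayPt → ℤ) (Golay.pt k) := by
    intro k hk
    conv_lhs => rw [← hv]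
    show ((permEl sX sX_mem • v : leechLattice) : GolayPt → ℤ) (Golay.pt (k + 1)) = _
    rw [vec_permEl]
    refine congrArg (v : GolayPt → ℤ) ?_
    rw [Equiv.symm_apply_eq, ← pow_one sX, sX_pow_pt 1 (by omega),
      fn_dX_iterate ⟨k, by omega⟩ ⟨1, by norm_num⟩]
    exact congrArg Golay.pt (Nat.mod_eq_of_lt (show k + 1 < 23 by omega)).symm
  have all : ∀ k < 23, (v : GolayPt → ℤ) (Golay.pt k) = (v : GolayPt → ℤ) (Golay.pt 0) := by
    intro k
    induction k with
    | zero => exact fun _ => rfl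
    | succ k ih => exact fun hk => (step k (by omega)).trans (ih (by omega))
  have h23 : Golay.pt 23 = none := by decide +kernel
  have cst : ∀ q : GolayPt, q ≠ none → (v : GolayPt → ℤ) q = (v : GolayPt → ℤ) (Golay.pt 0) := by
    intro q hq
    have h1 := Golay.idx_lt q
    have h2 : Golay.idx q ≠ 23 := fun e => hq (by rw [← Golay.pt_idx q, e, h23])
    rw [← Golay.pt_idx q]
    exact all _ (by omega)
  by_cases hp : p = none
  · rw [hp, (Equiv.symm_apply_eq σ).2 h.symm]
  · rw [cst p hp, cst _ fun e => hp (by rw [(Equiv.symm_apply_eq σ).1 e, h])]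

theorem normX_of_fixF {g : Co0} (hF : g • baseF = baseF)
    (h : g * pX * g⁻¹ ∈ Subgroup.zpowers pX) : g • vecO = vecO := by
  have : Fact (Nat.Prime 23) := ⟨by norm_num⟩
  have hxO := (pXYZ_fix pX_mem).2
  have hv : pX • (g • vecO) = g • vecO := fix_of_conj orderOf_pX h hxO
  have hy : pY • (g • vecO) = g • vecO := by
    refine Subtype.ext (funext fun p => ?_)
    show ((permEl sY sY_mem • (g • vecO) : leechLattice) : GolayPt → ℤ) p = _
    rw [vec_permEl]
    exact pX_const hv sXY_none.2.1 p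
  rcases cand32 hy (by rw [sqNorm_smul, sqNorm_vecO]) (by
    rw [← hF, dotInt_smul, dot_F_O]) with h' | h'
  · exact h'
  · have e := not_pX_fix hv
    rw [h'] at e
    exact absurd e (by decide +kernel)

theorem normX_of_fixO {g : Co0} (hO : g • vecO = vecO)
    (h : g * pX * g⁻¹ ∈ Subgroup.zpowers pX) : g • baseF = baseF := by
  have : Fact (Nat.Prime 23) := ⟨by norm_num⟩
  have hxF := (pXYZ_fix pX_mem).1
  have hv : pX • (g • baseF) = g • baseF := fix_of_conj orderOf_pX h hxF
  have hy : pY • (g • baseF) = g • baseF := by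
    refine Subtype.ext (funext fun p => ?_)
    show ((permEl sY sY_mem • (g • baseF) : leechLattice) : GolayPt → ℤ) p = _
    rw [vec_permEl]
    exact pX_const hv sXY_none.2.1 p
  rcases cand48 hy (by rw [sqNorm_smul, sqNorm_baseF]) (by
    rw [← hO, dotInt_smul, dotInt_comm, dot_F_O]) with h' | h'
  · exact h'
  · have e := not_pX_fix hv
    rw [h'] at e
    exact absurd e (by decide +kernel)

/-- The group generated by the three and one involution. -/
noncomputable def genGroup (t : Co0) : Subgroup Co0 := Subgroup.closure {pX, pY, pZ, t}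

theorem xyz_le_gen (t : Co0) : xyzGroup ≤ genGroup t :=
  Subgroup.closure_mono (by
    rintro _ (rfl | rfl | rfl) <;> simp)

theorem t_mem_gen (t : Co0) : t ∈ genGroup t :=
  Subgroup.subset_closure (Or.inr (Or.inr (Or.inr rfl)))

theorem genGroup_le {t : Co0} {G : Subgroup Co0} (h : xyzGroup ≤ G) (ht : t ∈ G) :
    genGroup t ≤ G := by
  rw [genGroup, Subgroup.closure_le]
  rintro _ (rfl | rfl | rfl | rfl)
  exacts [h pX_mem, h pY_mem, h pZ_mem, ht]

theorem xyz_le_co3 : xyzGroup ≤ co3Group :=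
  fun _ hg => mem_stabilizer_iff.2 (pXYZ_fix hg).1

theorem invA_mem_co3 : invA ∈ co3Group := mem_stabilizer_iff.2 invA_fix

theorem co3_gen : genGroup invA = co3Group := by
  set H := genGroup invA with hH
  have hle : H ≤ co3Group := genGroup_le xyz_le_co3 invA_mem_co3
  have hxH : pX ∈ H := xyz_le_gen _ pX_mem
  set M := H ⊓ stabilizer Co0 baseU with hM
  have hMle : M ≤ mclGroup := by
    rw [← co3_inf]; exact inf_le_inf_right _ hle
  have h3 : stab3 ≤ M := fun s hs => by
    obtain ⟨σ, hσ, h1, -, rfl⟩ := exists_perm_of_stab3 hs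
    exact ⟨xyz_le_gen _ (perm_mem_xyz hσ h1), mem_stabilizer_iff.2 (stab3_fix hs).2.1⟩
  have hmcl : M = mclGroup := by
    refine mcl_eq_of_le hMle h3 ⟨(pX * invA)⁻¹ * (pZ * pX * invA), ⟨?_, ?_⟩, ?_⟩
    · show _ ∈ H
      exact mul_mem (inv_mem (mul_mem hxH (t_mem_gen _)))
        (mul_mem (mul_mem (xyz_le_gen _ pZ_mem) hxH) (t_mem_gen _))
    · refine mem_stabilizer_iff.2 ?_
      rw [mul_smul, inv_smul_eq_iff, mul_smul, mul_smul, mul_smul]
      have e : actP dZ (actP dX (actM t3Rows (vec4 4 4 0 0))) =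
          actP dX (actM t3Rows (vec4 4 4 0 0)) := by decide +kernel
      exact (e ▸ rep_U.invA.pX.pZ).eq rep_U.invA.pX
    · intro h
      rw [mul_smul, inv_smul_eq_iff, mul_smul, mul_smul, mul_smul] at h
      exact rep_U'.invA.pX.pZ.ne rep_U'.invA.pX (by decide +kernel) h
  have horb := ncard_orbit_mul H baseU
  rw [← hM, hmcl] at horb
  have h24 := orbit_ge hxH (t_mem_gen invA) rep_U.invA (by decide +kernel)
  have hidx := Subgroup.index_mul_card (H.subgroupOf co3Group)
  rw [natCard_co3Group, Nat.card_congr (Subgroup.subgroupOfEquivOfLe hle).toEquiv, ← horb,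
    natCard_mclGroup] at hidx
  have hmod := index_small (G := co3Group) (by rw [natCard_co3Group]; norm_num) hle hxH
    (fun g hg h => by
      have hF := co3_fix hg
      obtain ⟨a, b, e⟩ := normX_co0 hF (normX_of_fixF hF h) h
      exact e ▸ mul_mem (pow_mem hxH a) (pow_mem (xyz_le_gen _ pY_mem) b))
  set j := (H.subgroupOf co3Group).index with hj
  set o := {y | ∃ a ∈ H, a • baseU = y}.ncard with ho
  have h552 : j * o = 552 := by
    have e : j * o * 898128000 = 552 * 898128000 := by rw [mul_assoc, hidx]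
    exact Nat.eq_of_mul_eq_mul_right (by norm_num) e
  have hj1 : j = 1 := by
    have := Nat.mul_le_mul_left j h24
    omega
  exact le_antisymm hle (Subgroup.subgroupOf_eq_top.1 (Subgroup.index_eq_one.1 hj1))

/-- The stabiliser of `vecO`. -/
def stabO : Subgroup Co0 := stabilizer Co0 vecO

theorem natCard_stabO : Nat.card stabO = 42305421312000 := by
  obtain ⟨g, hg⟩ := transitive32 golayUnique sqNorm_vecO sqNorm_baseU
  have e : stabO.map (MulAut.conj g).toMonoidHom = co2Group := by
    rw [stabO, ← stabilizer_smul_eq_stabilizer_map_conj, hg]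
    rfl
  rw [Nat.card_congr ((Subgroup.equivMapOfInjective stabO _ (MulAut.conj g).injective).trans
    (MulEquiv.subgroupCongr e)).toEquiv, natCard_co2Group]

theorem xyz_le_stabO : xyzGroup ≤ stabO :=
  fun _ hg => mem_stabilizer_iff.2 (pXYZ_fix hg).2

theorem invB_mem_stabO : invB ∈ stabO := mem_stabilizer_iff.2 invB_fix

/-- The code of a permutation exchanging `∞` and `0`. -/
def dS : ℕ := 0x5883388a1c8f5140b46cd317aed7

theorem isAut_dS : Golay.isAut dS = true := by decide +kernel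

theorem stabO_gen : genGroup invB = stabO := by
  set H := genGroup invB with hH
  have hle : H ≤ stabO := genGroup_le xyz_le_stabO invB_mem_stabO
  have hxH : pX ∈ H := xyz_le_gen _ pX_mem
  set S := permEl (Golay.toPerm dS) (Golay.toPerm_mem_M24 isAut_dS) with hS
  have hSO : S • vecO = baseF - baseU := by
    refine Subtype.ext ?_
    rw [(rep_O.perm isAut_dS).2, AddSubgroup.coe_sub, rep_F.2, rep_U.2]
    funext p
    revert p
    decide +kernel
  have hSU : S • baseU = baseU := by
    have e : actP dS (vec4 4 4 0 0) = vec4 4 4 0 0 := by decide +kernel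
    exact (e ▸ rep_U.perm isAut_dS).eq rep_U
  have hSU' : S • baseU' = -baseU' := by
    refine Subtype.ext ?_
    rw [(rep_U'.perm isAut_dS).2, AddSubgroup.coe_neg, rep_U'.2]
    funext p
    revert p
    decide +kernel
  set M := H ⊓ stabilizer Co0 baseU with hM
  set M' := M.map (MulAut.conj S).toMonoidHom with hM'
  have hcard' : Nat.card M' = Nat.card M :=
    (Nat.card_congr (Subgroup.equivMapOfInjective M _ (MulAut.conj S).injective).toEquiv).symm
  have hMle : M' ≤ mclGroup := by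
    rintro _ ⟨m, ⟨hmH, hmU⟩, rfl⟩
    have hmO : m • vecO = vecO := mem_stabilizer_iff.1 (hle hmH)
    have hmU' : m • baseU = baseU := mem_stabilizer_iff.1 hmU
    show S * m * S⁻¹ ∈ mclGroup
    have hFe : baseF = S • (vecO + baseU) := by rw [smul_vadd, hSO, hSU, sub_add_cancel]
    refine ⟨mem_stabilizer_iff.2 ?_, mem_stabilizer_iff.2 ?_⟩
    · rw [hFe, mul_smul, inv_smul_smul, mul_smul, smul_vadd m, hmO, hmU']
    · nth_rewrite 1 [← hSU]
      rw [mul_smul, inv_smul_smul, mul_smul, hmU', hSU]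
  have h3 : stab3 ≤ M' := fun s hs => by
    obtain ⟨sF, sU, sU'⟩ := stab3_fix hs
    refine ⟨S⁻¹ * s * S, ?_, by show S * (S⁻¹ * s * S) * S⁻¹ = s; group⟩
    have gO : (S⁻¹ * s * S) • vecO = vecO := by
      rw [mul_smul, hSO, mul_smul, smul_vsub, sF, sU, inv_smul_eq_iff, hSO]
    have gU : (S⁻¹ * s * S) • baseU = baseU := by
      rw [mul_smul, hSU, mul_smul, sU, inv_smul_eq_iff, hSU]
    have gU' : (S⁻¹ * s * S) • baseU' = baseU' := by
      rw [mul_smul, hSU', mul_smul, smul_vneg, sU', inv_smul_eq_iff, hSU']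
    have gF : (S⁻¹ * s * S) • baseF = baseF := by
      have e : baseF = vecO + (baseU + baseU') := by
        rw [baseU_add_baseU', ← baseF_sub_vecO, add_sub_cancel]
      rw [e, smul_vadd, smul_vadd, gO, gU, gU']
    obtain ⟨τ, hτ, h0, hτe⟩ := exists_perm_of_fix gF gO
    exact ⟨hτe ▸ xyz_le_gen _ (perm_mem_xyz hτ h0), mem_stabilizer_iff.2 gU⟩
  have hmcl : M' = mclGroup := by
    set k := (pZ * pX * pY * invB * pX)⁻¹ * (pY * pX * pZ * pX ^ 22 * invB * pX) with hk
    refine mcl_eq_of_le hMle h3 ⟨S * k * S⁻¹, ⟨k, ⟨?_, ?_⟩, rfl⟩, ?_⟩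
    · have hy := xyz_le_gen invB pY_mem
      have hz := xyz_le_gen invB pZ_mem
      have ht := t_mem_gen invB
      show _ ∈ H
      exact mul_mem (inv_mem (mul_mem (mul_mem (mul_mem (mul_mem hz hxH) hy) ht) hxH))
        (mul_mem (mul_mem (mul_mem (mul_mem (mul_mem hy hxH) hz) (pow_mem hxH 22)) ht) hxH)
    · refine mem_stabilizer_iff.2 ?_
      rw [hk, mul_smul, inv_smul_eq_iff]
      simp only [mul_smul]
      have e : actP dY (actP dX (actP dZ ((actP dX)^[22] (actM t2Rows
          (actP dX (vec4 4 4 0 0)))))) =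
          actP dZ (actP dX (actP dY (actM t2Rows (actP dX (vec4 4 4 0 0))))) := by decide +kernel
      exact (e ▸ ((rep_U.pX.invB.pX_pow 22).pZ.pX.pY)).eq rep_U.pX.invB.pY.pX.pZ
    · intro h
      have hS2 : S⁻¹ • baseU' = -baseU' := by
        rw [inv_smul_eq_iff, smul_vneg, hSU', neg_neg]
      rw [mul_smul, hS2, mul_smul, ← eq_inv_smul_iff, hS2, smul_vneg, neg_inj, hk, mul_smul,
        inv_smul_eq_iff] at h
      simp only [mul_smul] at h
      exact ((rep_U'.pX.invB.pX_pow 22).pZ.pX.pY).ne rep_U'.pX.invB.pY.pX.pZ (by decide +kernel) h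
  have horb := ncard_orbit_mul H baseU
  rw [← hM, ← hcard', hmcl] at horb
  have h24 := orbit_ge hxH (t_mem_gen invB) rep_U.invB (by decide +kernel)
  have hidx := Subgroup.index_mul_card (H.subgroupOf stabO)
  rw [natCard_stabO, Nat.card_congr (Subgroup.subgroupOfEquivOfLe hle).toEquiv, ← horb,
    natCard_mclGroup] at hidx
  have hmod := index_small (G := stabO) (by rw [natCard_stabO]; norm_num) hle hxH
    (fun g hg h => by
      have hO : g • vecO = vecO := mem_stabilizer_iff.1 hg
      obtain ⟨a, b, e⟩ := normX_co0 (normX_of_fixO hO h) hO h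
      exact e ▸ mul_mem (pow_mem hxH a) (pow_mem (xyz_le_gen _ pY_mem) b))
  set j := (H.subgroupOf stabO).index with hj
  set o := {y | ∃ a ∈ H, a • baseU = y}.ncard with ho
  have he : j * o = 47104 := by
    have e : j * o * 898128000 = 47104 * 898128000 := by rw [mul_assoc, hidx]
    exact Nat.eq_of_mul_eq_mul_right (by norm_num) e
  have hj1 : j = 1 := by
    have h1 := Nat.mul_le_mul_left j h24
    have h2 : j < 1963 := by omega
    have h3 : 47104 % j = 0 := Nat.mod_eq_zero_of_dvd ⟨o, he.symm⟩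
    exact (by decide +kernel : ∀ d < 1963, 47104 % d = 0 → d % 23 = 1 → d = 1) j h2 h3 hmod
  exact le_antisymm hle (Subgroup.subgroupOf_eq_top.1 (Subgroup.index_eq_one.1 hj1))

end Cfsg.Agent.OutCert
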