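import Cfsg.Agent.Lib.OutCert.McLNorm
import Cfsg.Agent.Lib.OutCert.Transport

/-!
# The outer automorphisms of the McLaughlin group

* `mclTau` : conjugation by `invA`, an outer automorphism
* `card_out_mclGroup` : there are exactly two classes
* `nonempty_mclEquiv`
-/

set_option autoImplicit false

namespace Cfsg.Agent.OutCert

open Leech MulAction StabCert

/-- A substitution of letters. -/
def subst5 (σ : ℕ → List ℕ) : List ℕ → List ℕ
  | [] => []
  | k :: w => σ k ++ subst5 σ w

/-- The substitution of `y` by `y ^ i` and of one letter. -/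
def sub5 (i kk : ℕ) (opt : List ℕ) (k : ℕ) : List ℕ :=
  if k = 0 then List.replicate i 0 else if k = kk then opt else [k]

/-- The substitution of all letters. -/
def subB (i : ℕ) (opt : List ℕ) (k : ℕ) : List ℕ :=
  if k = 0 then List.replicate i 0 else if k = 2 then 2 :: List.replicate (4 * (i - 1)) 1
  else if k = 3 then opt else [k]

/-- The candidates `v ^ k * w ^ n * z ^ a`. -/
def opt5 (k n a : ℕ) : List ℕ :=
  List.replicate k 3 ++ (List.replicate n 2 ++ List.replicate a 1)

/-- A relation in `pY`, `pZ`, `pW`. -/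
def relA : List ℕ := (List.replicate 4 [2, 0, 0, 1, 2, 0]).flatten

/-- A relation with `elV`. -/
def relB : List ℕ := (List.replicate 3 [2, 1, 0, 3]).flatten

theorem rels5_ok : same5 relA [] = true ∧ same5 relB [] = true ∧
    same5 [4, 2, 4] (opt5 2 1 3) = true ∧ same5 [1, 2] [2, 1, 1, 1] = true ∧
    same5 [2, 1] [1, 1, 2] = true := by
  decide +kernel

theorem kill5A : ∀ i ∈ [1, 2], ∀ k < 5, ∀ a < 5,
    (k = 0 ∧ a = 4 * (i - 1)) ∨ (k = 2 ∧ a = (3 + 4 * (i - 1)) % 5) ∨
    moved5 (subst5 (sub5 i 2 (opt5 k 1 a)) relA) = true := by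
  decide +kernel

theorem kill5B : ∀ i ∈ [1, 2], ∀ k < 5, ∀ a < 5, (i = 1 ∧ k = 1 ∧ a = 0) ∨
    moved5 (subst5 (subB i (opt5 k 0 a)) relB) = true := by
  decide +kernel

theorem no_fix_check : ∀ a : Fin 15, ∀ b : Fin 15, ∀ c : Fin 5, ∀ d : Fin 5,
    (let x := vec4 ((a.val : ℤ) - 7) ((b.val : ℤ) - 7) ((c.val : ℤ) - 2) ((d.val : ℤ) - 2)
     !(dotL x x == 32 && dotL x (vec4 5 1 1 1) == 16 && dotL x (vec4 4 4 0 0) == 16 &&
        dotsOK x && actC dWCols x == x)) = true := by
  decide +kernel

theorem invA_smul_baseU : invA • baseU = baseF - baseU := by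
  refine Subtype.ext ?_
  rw [rep_U.invA.2, AddSubgroup.coe_sub, rep_F.2, rep_U.2]
  funext p
  revert p
  decide +kernel

theorem invA_smul_sub : invA • (baseF - baseU) = baseU := by
  rw [← invA_smul_baseU, ← mul_smul, invA_mul_self, one_smul]

theorem conjA_mem {g : Co0} (hg : g ∈ mclGroup) : invA * g * invA ∈ mclGroup := by
  obtain ⟨hF, hU⟩ := mclGroup_fix hg
  refine ⟨mem_stabilizer_iff.2 ?_, mem_stabilizer_iff.2 ?_⟩
  · rw [mul_smul, mul_smul, invA_fix, hF, invA_fix]
  · rw [mul_smul, mul_smul, invA_smul_baseU, smul_vsub, hF, hU, invA_smul_sub]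

theorem conjA_invol (g : Co0) : invA * (invA * g * invA) * invA = g := by
  rw [← mul_assoc, ← mul_assoc, invA_mul_self, one_mul, mul_assoc, invA_mul_self, mul_one]

/-- Conjugation by `invA`. -/
noncomputable def mclTau : MulAut mclGroup where
  toFun g := ⟨invA * g.1 * invA, conjA_mem g.2⟩
  invFun g := ⟨invA * g.1 * invA, conjA_mem g.2⟩
  left_inv g := Subtype.ext (conjA_invol g.1)
  right_inv g := Subtype.ext (conjA_invol g.1)
  map_mul' g h := Subtype.ext (by
    show invA * (g.1 * h.1) * invA = invA * g.1 * invA * (invA * h.1 * invA)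
    rw [mul_assoc (invA * g.1) invA, ← mul_assoc invA (invA * h.1), ← mul_assoc invA invA,
      invA_mul_self, one_mul]
    group)

theorem mclTau_apply (g : mclGroup) :
    ((mclTau g : mclGroup) : Co0) = invA * (g : Co0) * invA := rfl

theorem mclTau_not_inner (h : mclGroup) : mclTau ≠ MulAut.conj h := by
  intro e
  set c : Co0 := (h : Co0)⁻¹ * invA with hc
  have hcc : ∀ g ∈ mclGroup, c * g = g * c := by
    intro g hg
    have e1 : invA * g * invA = (h : Co0) * g * (h : Co0)⁻¹ := by
      have e0 := congrArg Subtype.val (DFunLike.congr_fun e ⟨g, hg⟩)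
      rw [mclTau_apply, MulAut.conj_apply, Subgroup.coe_mul, Subgroup.coe_mul,
        InvMemClass.coe_inv] at e0
      exact e0
    calc c * g = (h : Co0)⁻¹ * (invA * g * invA) * invA := by
            rw [hc, mul_assoc ((h : Co0)⁻¹) (invA * g * invA), mul_assoc (invA * g) invA,
              invA_mul_self, mul_one, mul_assoc]
      _ = g * c := by rw [e1, hc]; group
  obtain ⟨hF, hU⟩ := mclGroup_fix (inv_mem h.2)
  have cF : c • baseF = baseF := by rw [hc, mul_smul, invA_fix, hF]
  have cU : c • baseU = baseF - baseU := by rw [hc, mul_smul, invA_smul_baseU, smul_vsub, hF, hU]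
  have hym := lt5_mem_mcl (k := 0) (by simp)
  have hwm := lt5_mem_mcl (k := 2) (by simp)
  have fy : pY • baseU' = baseU' :=
    ((show actP dY (vec4 4 (-4) 0 0) = vec4 4 (-4) 0 0 by decide +kernel) ▸ rep_U'.pY).eq rep_U'
  have fw : pW • baseU' = baseU' := by
    have e1 := (srep_bases.2.2.letter5 2).1
    rw [show act5 2 (vec4 4 (-4) 0 0) = vec4 4 (-4) 0 0 by decide +kernel,
      show lt5 2 = pW from rfl] at e1
    exact e1.eq rep_U'
  set y := c • baseU' with hy
  have y1 : pY • y = y := by
    have e1 : c * pY = pY * c := hcc _ hym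
    rw [hy, ← mul_smul, ← e1, mul_smul, fy]
  have y2 : pW • y = y := by
    have e1 : c * pW = pW * c := hcc _ hwm
    rw [hy, ← mul_smul, ← e1, mul_smul, fw]
  have dF : dotInt (y : GolayPt → ℤ) (baseF : GolayPt → ℤ) = 16 := by
    rw [hy, ← cF, dotInt_smul]; exact baseU'_mem_mclPts.2.1
  have dU : dotInt (y : GolayPt → ℤ) (baseU : GolayPt → ℤ) = 16 := by
    have e1 : dotInt (y : GolayPt → ℤ) ((baseF - baseU : leechLattice) : GolayPt → ℤ) = 0 := by
      rw [hy, ← cU, dotInt_smul]; exact baseU'_mem_mclPts.2.2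
    rw [AddSubgroup.coe_sub, dotInt_sub_right] at e1
    omega
  obtain ⟨a, b, cc, d, ev, -, hok⟩ := cand_aux (v := y) (n := 32)
    (by rw [hy, sqNorm_smul, sqNorm_baseU']) (by norm_num) y1
  set x := vec4 ((a.val : ℤ) - 7) ((b.val : ℤ) - 7) ((cc.val : ℤ) - 2) ((d.val : ℤ) - 2) with hx
  have hr : Rep y x := ⟨by simp [hx, vec4], ev⟩
  have hn : sqNorm (y : GolayPt → ℤ) = 32 := by rw [hy, sqNorm_smul, sqNorm_baseU']
  have hs : SRep y x := ⟨hr, by rw [hn]; norm_num⟩
  have dl : ∀ {w : leechLattice} {z : List ℤ}, Rep w z →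
      dotInt (y : GolayPt → ℤ) (w : GolayPt → ℤ) = dotL x z := fun {w z} hw => by
    rw [hr.2, hw.2]
    exact vOf_dotProduct _ hw.1
  have h3 : actC dWCols x = x := by
    have hw := (hs.letter5 2).1
    have e2 : lt5 2 • y = y := by simpa [lt5] using y2
    rw [e2] at hw
    by_contra hne
    exact Rep.ne hw hr hne rfl
  have key := no_fix_check a b cc d
  simp only [← hx] at key
  rw [show dotL x x = 32 by rw [← dl hr, ← sqNorm_eq_dotInt, hn],
    show dotL x (vec4 5 1 1 1) = 16 by rw [← dl rep_F, dF],
    show dotL x (vec4 4 4 0 0) = 16 by rw [← dl rep_U, dU], hok, h3] at key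
  simp at key

theorem card_out_mclGroup : Nat.card (Cfsg.Out mclGroup) = 2 := by
  classical
  have : Fact (Nat.Prime 11) := ⟨by norm_num⟩
  let G : ℕ → mclGroup := fun k =>
    if hk : k ∈ [0, 1, 2, 3] then ⟨lt5 k, lt5_mem_mcl hk⟩ else 1
  have hG : ∀ {k : ℕ}, k ∈ [0, 1, 2, 3] → ((G k : mclGroup) : Co0) = lt5 k := fun {k} hk => by
    simp only [G, dif_pos hk]
  have hgen : Subgroup.closure (G '' {k | k ∈ [0, 1, 2, 3]}) = ⊤ := by
    refine Subgroup.map_injective mclGroup.subtype_injective ?_
    rw [MonoidHom.map_closure, ← MonoidHom.range_eq_map, Subgroup.range_subtype, ← Set.image_comp]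
    refine Eq.trans ?_ mcl_gen
    congr 1
    exact Set.image_congr fun k hk => hG hk
  -- every automorphism is inner up to the conjugation by `invA`
  have main : ∀ α : MulAut mclGroup, ∃ g : mclGroup,
      α = MulAut.conj g ∨ α = MulAut.conj g * mclTau := by
    intro α
    have oY : orderOf (G 0) = 11 := by
      rw [← Subgroup.orderOf_coe, hG (by simp)]
      exact orderOf_pY
    have oZ : orderOf (G 1) = 5 := by
      have : Fact (Nat.Prime 5) := ⟨by norm_num⟩
      rw [← Subgroup.orderOf_coe, hG (by simp)]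
      refine orderOf_eq_prime pZ_pow_five fun h1 => ?_
      have h2 := congrArg (fun a : Co0 => a • eightVec (Golay.pt 2)) h1
      simp only [one_smul] at h2
      exact (rep_e8' (Golay.pt 2)).pZ.ne (rep_e8' (Golay.pt 2)) (by decide +kernel) h2
    obtain ⟨g, i, hi, h1, h2⟩ := exists_inner_normal (p := 11) (r := 5) (x := G 0) (y := G 1) 3
      oY (by rw [natCard_mclGroup]; norm_num) oZ
      (Subtype.ext (by
        simp only [Subgroup.coe_mul, InvMemClass.coe_inv, SubmonoidClass.coe_pow]
        rw [hG (by simp), hG (by simp)]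
        show pZ * pY * pZ⁻¹ = pY ^ 3
        rw [mul_inv_eq_iff_eq_mul]
        exact pZ_conj_pY))
      (by decide +kernel) (by decide +kernel) (by norm_num)
      (fun g h => by
        obtain ⟨j, hj⟩ := Subgroup.mem_zpowers_iff.1 h
        have hj' := congrArg Subtype.val hj
        simp only [SubgroupClass.coe_zpow, Subgroup.coe_mul, InvMemClass.coe_inv] at hj'
        rw [hG (by simp)] at hj'
        obtain ⟨a, b, e⟩ := normY_mcl g.2 (Subgroup.mem_zpowers_iff.2 ⟨j, hj'⟩)
        refine ⟨a, b, Subtype.ext ?_⟩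
        simp only [Subgroup.coe_mul, SubmonoidClass.coe_pow]
        rw [hG (by simp), hG (by simp)]
        exact e)
      [1, 2] (by decide +kernel) α
    let β : MulAut mclGroup := MulAut.conj g * α
    have hy : ((β (G 0) : mclGroup) : Co0) = W5 (List.replicate i 0) := by
      show ((g * α (G 0) * g⁻¹ : mclGroup) : Co0) = _
      rw [h1, SubmonoidClass.coe_pow, hG (by simp), W5_replicate]
    have hz : ((β (G 1) : mclGroup) : Co0) = W5 [1] := by
      show ((g * α (G 1) * g⁻¹ : mclGroup) : Co0) = _
      rw [h2, hG (by simp), W5_single]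
    -- images of words
    have image : ∀ (γ : MulAut mclGroup) (σ : ℕ → List ℕ) (w : List ℕ),
        (∀ k ∈ w, k ∈ [0, 1, 2, 3] ∧ ((γ (G k) : mclGroup) : Co0) = W5 (σ k)) →
        W5 w = 1 → W5 (subst5 σ w) = 1 := by
      intro γ σ w hw hone
      have key : ∀ v : List ℕ,
          (∀ k ∈ v, k ∈ [0, 1, 2, 3] ∧ ((γ (G k) : mclGroup) : Co0) = W5 (σ k)) →
          ((γ (v.map G).prod : mclGroup) : Co0) = W5 (subst5 σ v) := by
        intro v
        induction v with
        | nil => intro _; simp [subst5, W5, wordEl]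
        | cons k v ih =>
          intro hv
          rw [List.map_cons, List.prod_cons, map_mul, Subgroup.coe_mul, (hv k (by simp)).2,
            ih fun a ha => hv a (by simp [ha]), ← W5_append]
          rfl
      have h0 : (w.map G).prod = 1 := by
        refine Subtype.ext ?_
        rw [Subgroup.val_list_prod, List.map_map, OneMemClass.coe_one, ← hone, W5, wordEl]
        exact congrArg List.prod (List.map_congr_left fun k hk => hG (hw k hk).1)
      rw [← key w hw, h0, map_one, OneMemClass.coe_one]
    -- the shape of an image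
    have shape : ∀ (γ : MulAut mclGroup) (k e : ℕ), k ∈ [0, 1, 2, 3] → (e = 1 ∨ e = 2) →
        ((γ (G 1) : mclGroup) : Co0) = W5 [1] → lt5 k * pZ = pZ ^ e * lt5 k →
        ∃ n < 5, ∃ a < 5, ((γ (G k) : mclGroup) : Co0) = W5 (opt5 n (e - 1) a) := by
      intro γ k e hk he hzγ hrel
      refine normZ_mcl (γ (G k)).2 he ?_
      have e0 : G k * G 1 = G 1 ^ e * G k := Subtype.ext (by
        simp only [Subgroup.coe_mul, SubmonoidClass.coe_pow]
        rw [hG hk, hG (by simp)]
        exact hrel)
      have e1 := congrArg (fun a => ((γ a : mclGroup) : Co0)) e0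
      simp only [map_mul, map_pow, Subgroup.coe_mul, SubmonoidClass.coe_pow, hzγ, W5_single] at e1
      exact e1
    obtain ⟨hrA, hrB, htw, -, hzw⟩ := rels5_ok
    have oneA : W5 relA = 1 := (W5_eq hrA).trans (by simp [W5, wordEl])
    have oneB : W5 relB = 1 := (W5_eq hrB).trans (by simp [W5, wordEl])
    have relw : lt5 2 * pZ = pZ ^ 2 * lt5 2 := by
      have e := W5_eq hzw
      simp only [W5, wordEl, List.map_cons, List.map_nil, List.prod_cons, List.prod_nil,
        mul_one] at e
      rw [sq, mul_assoc]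
      exact e
    have relv : lt5 3 * pZ = pZ ^ 1 * lt5 3 := by rw [pow_one]; exact elV_pZ.symm
    -- an automorphism fixing three letters is trivial
    have finish : ∀ γ : MulAut mclGroup,
        ((γ (G 0) : mclGroup) : Co0) = W5 (List.replicate i 0) →
        ((γ (G 1) : mclGroup) : Co0) = W5 [1] →
        ((γ (G 2) : mclGroup) : Co0) = W5 (2 :: List.replicate (4 * (i - 1)) 1) → γ = 1 := by
      intro γ g0 g1 g2
      obtain ⟨n, hn, a, ha, g3⟩ := shape γ 3 1 (by simp) (Or.inl rfl) g1 relv
      rcases kill5B i (by simpa using hi) n hn a ha with ⟨rfl, rfl, rfl⟩ | hm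
      · refine MulEquiv.toMonoidHom_injective (MonoidHom.eq_of_eqOn_dense hgen ?_)
        rintro _ ⟨k, hk, rfl⟩
        refine Subtype.ext ?_
        show ((γ (G k) : mclGroup) : Co0) = ((G k : mclGroup) : Co0)
        rw [hG hk, ← W5_single k]
        simp only [Set.mem_ofPred_eq, List.mem_cons, List.not_mem_nil, or_false] at hk
        rcases hk with rfl | rfl | rfl | rfl
        · exact g0
        · exact g1
        · exact g2
        · exact g3
      · refine absurd (image γ (subB i (opt5 n 0 a)) relB (fun k hk => ?_) oneB) (W5_ne_one hm)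
        have hk' : k = 2 ∨ k = 1 ∨ k = 0 ∨ k = 3 := by
          revert k
          decide
        rcases hk' with rfl | rfl | rfl | rfl
        · exact ⟨by simp, g2⟩
        · exact ⟨by simp, g1⟩
        · exact ⟨by simp, g0⟩
        · exact ⟨by simp, g3⟩
    obtain ⟨n, hn, a, ha, g2⟩ := shape β 2 2 (by simp) (Or.inr rfl) hz relw
    refine ⟨g⁻¹, ?_⟩
    rcases kill5A i (by simpa using hi) n hn a ha with ⟨rfl, rfl⟩ | ⟨rfl, rfl⟩ | hm
    · refine Or.inl ?_
      have e : β = 1 := finish β hy hz g2
      rw [map_inv]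
      exact eq_inv_of_mul_eq_one_right e
    · refine Or.inr ?_
      have t0 : invA * W5 [1] * invA = W5 [1] := by
        rw [W5_single]
        show invA * pZ * invA = pZ
        rw [mul_assoc, invA_pZ, ← mul_assoc, invA_mul_self, one_mul]
      have tp : ∀ m : ℕ, invA * W5 (List.replicate m 0) * invA = W5 (List.replicate m 0) := by
        intro m
        rw [W5_replicate]
        show invA * pY ^ m * invA = pY ^ m
        have hc : Commute pY invA := invA_pY
        rw [mul_assoc, (hc.pow_left m).eq, ← mul_assoc, invA_mul_self, one_mul]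
      have e : mclTau * β = 1 := by
        refine finish (mclTau * β) ?_ ?_ ?_
        · show invA * ((β (G 0) : mclGroup) : Co0) * invA = _
          rw [hy, tp]
        · show invA * ((β (G 1) : mclGroup) : Co0) * invA = _
          rw [hz, t0]
        · show invA * ((β (G 2) : mclGroup) : Co0) * invA = _
          rw [g2]
          have hw : invA * W5 (opt5 2 1 3) * invA = W5 [2] := by
            rw [← W5_eq htw]
            simp only [W5, wordEl, List.map_cons, List.map_nil, List.prod_cons, List.prod_nil,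
              mul_one]
            show invA * (invA * (lt5 2 * invA)) * invA = lt5 2
            rw [← mul_assoc invA invA, invA_mul_self, one_mul, mul_assoc, invA_mul_self, mul_one]
          rcases (by simpa using hi : i = 1 ∨ i = 2) with rfl | rfl
          · exact hw
          · have hz4 : invA * W5 (List.replicate 4 1) * invA = W5 (List.replicate 4 1) := by
              rw [W5_replicate]
              show invA * pZ ^ 4 * invA = pZ ^ 4
              have hc : Commute pZ invA := invA_pZ
              rw [mul_assoc, (hc.pow_left 4).eq, ← mul_assoc, invA_mul_self, one_mul]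
            have e22 : W5 (opt5 2 1 2) = W5 (opt5 2 1 3) * W5 (List.replicate 4 1) := by
              rw [← W5_append]
              exact W5_eq (by decide +kernel)
            rw [show opt5 2 1 ((3 + 4 * (2 - 1)) % 5) = opt5 2 1 2 from rfl, e22,
              show (2 :: List.replicate (4 * (2 - 1)) 1) = [2] ++ List.replicate 4 1 from rfl,
              W5_append]
            calc invA * (W5 (opt5 2 1 3) * W5 (List.replicate 4 1)) * invA
                = (invA * W5 (opt5 2 1 3) * invA) * (invA * W5 (List.replicate 4 1) * invA) := by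
                  simp only [mul_assoc]
                  rw [← mul_assoc invA invA, invA_mul_self, one_mul]
              _ = W5 [2] * W5 (List.replicate 4 1) := by rw [hw, hz4]
      have t2 : mclTau * mclTau = 1 :=
        MulEquiv.ext fun a => Subtype.ext (conjA_invol a.1)
      have e2 : β = mclTau := by
        calc β = mclTau * mclTau * β := by rw [t2, one_mul]
          _ = mclTau := by rw [mul_assoc, e, mul_one]
      rw [← e2, map_inv, inv_mul_cancel_left]
    · refine absurd (image β (sub5 i 2 (opt5 n 1 a)) relA (fun k hk => ?_) oneA) (W5_ne_one hm)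
      have hk' : k = 2 ∨ k = 1 ∨ k = 0 := by
        revert k
        decide
      rcases hk' with rfl | rfl | rfl
      · exact ⟨by simp, g2⟩
      · exact ⟨by simp, hz⟩
      · exact ⟨by simp, hy⟩
  rw [Nat.card_eq_two_iff]
  refine ⟨1, QuotientGroup.mk mclTau, fun e => ?_, Set.eq_univ_of_forall fun q => ?_⟩
  · obtain ⟨h, hh⟩ := (QuotientGroup.eq_one_iff mclTau).1 e.symm
    exact mclTau_not_inner h hh.symm
  · induction q using QuotientGroup.induction_on with
    | _ α =>
      obtain ⟨g, rfl | rfl⟩ := main α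
      · exact Or.inl ((QuotientGroup.eq_one_iff _).2 (MonoidHom.mem_range.2 ⟨g, rfl⟩))
      · refine Or.inr ?_
        show QuotientGroup.mk (MulAut.conj g * mclTau) = _
        rw [QuotientGroup.mk_mul, (QuotientGroup.eq_one_iff _).2 (MonoidHom.mem_range.2 ⟨g, rfl⟩),
          one_mul]

/-- The McLaughlin group of `Spor` is `mclGroup`. -/
theorem nonempty_mclEquiv : Nonempty (Spor.McL ≃* mclGroup) := by
  have hV : Spor.leechV = -baseF := Subtype.ext (funext fun p => by revert p; decide +kernel)
  have hU : Spor.leechU = baseU := Subtype.ext (funext fun p => by revert p; decide +kernel)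
  refine ⟨{
    toFun := fun x => ⟨⟨x.1, x.2.1.1⟩, ⟨mem_stabilizer_iff.2 ?_, mem_stabilizer_iff.2 ?_⟩⟩
    invFun := fun y => ⟨y.1.1, ⟨y.1.2, mem_stabilizer_iff.2 ?_⟩, mem_stabilizer_iff.2 ?_⟩
    left_inv := fun _ => rfl
    right_inv := fun _ => rfl
    map_mul' := fun _ _ => rfl }⟩
  · have h : (⟨x.1, x.2.1.1⟩ : Co0) • Spor.leechV = Spor.leechV := x.2.1.2
    refine neg_inj.1 ?_
    rw [← smul_vneg, ← hV]
    exact h
  · have h : (⟨x.1, x.2.1.1⟩ : Co0) • Spor.leechU = Spor.leechU := x.2.2
    rw [← hU]
    exact h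
  · show (⟨y.1.1, y.1.2⟩ : Co0) • Spor.leechV = Spor.leechV
    rw [hV, smul_vneg]
    exact congrArg Neg.neg (mclGroup_fix y.2).1
  · show (⟨y.1.1, y.1.2⟩ : Co0) • Spor.leechU = Spor.leechU
    rw [hU]
    exact (mclGroup_fix y.2).2

end Cfsg.Agent.OutCert
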