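import Cfsg.Agent.Lib.OutCert.Gen

/-!
# The stabiliser of `baseF` has no outer automorphisms

* `gens_top` : generators of a subgroup as a group
* `exists_normal` : the normal form of an automorphism
* `card_out_co3Group`
-/

set_option autoImplicit false

namespace Cfsg.Agent.OutCert

open Leech MulAction

theorem gens_top {G : Subgroup Co0} {t : Co0} (hG : genGroup t = G) (hx : pX ∈ G) (hy : pY ∈ G)
    (hz : pZ ∈ G) (ht : t ∈ G) :
    Subgroup.closure ({⟨pX, hx⟩, ⟨pY, hy⟩, ⟨pZ, hz⟩, ⟨t, ht⟩} : Set G) = ⊤ := by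
  refine Subgroup.map_injective G.subtype_injective ?_
  rw [MonoidHom.map_closure, ← MonoidHom.range_eq_map, Subgroup.range_subtype]
  refine Eq.trans ?_ hG
  rw [genGroup]
  congr 1
  simp [Set.image_insert_eq]

/-- Every automorphism is, up to an inner one, of the form `x ↦ x ^ i`, `y ↦ y`. -/
theorem exists_normal {G : Subgroup Co0} (hx : pX ∈ G) (hy : pY ∈ G)
    (hc : ¬ 23 ^ 2 ∣ Nat.card G)
    (hN : ∀ g ∈ G, g * pX * g⁻¹ ∈ Subgroup.zpowers pX → g • baseF = baseF ∧ g • vecO = vecO)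
    (α : MulAut G) : ∃ g : G, ∃ i : ℕ, (i = 1 ∨ i = 22) ∧
      g * α ⟨pX, hx⟩ * g⁻¹ = ⟨pX, hx⟩ ^ i ∧ g * α ⟨pY, hy⟩ * g⁻¹ = ⟨pY, hy⟩ := by
  have : Fact (Nat.Prime 23) := ⟨by norm_num⟩
  obtain ⟨g, i, hi, h1, h2⟩ := exists_inner_normal (x := (⟨pX, hx⟩ : G)) (y := (⟨pY, hy⟩ : G))
    (p := 23) (r := 11) 2 (by rw [Subgroup.orderOf_mk, orderOf_pX]) hc
    (by rw [Subgroup.orderOf_mk, orderOf_pY])
    (Subtype.ext pY_conj_pX)
    (by decide +kernel) (by decide +kernel) (by norm_num)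
    (fun g h => by
      obtain ⟨j, hj⟩ := Subgroup.mem_zpowers_iff.1 h
      have h' : (g : Co0) * pX * (g : Co0)⁻¹ ∈ Subgroup.zpowers pX :=
        Subgroup.mem_zpowers_iff.2 ⟨j, congrArg Subtype.val hj⟩
      obtain ⟨hF, hO⟩ := hN g g.2 h'
      obtain ⟨a, b, e⟩ := normX_co0 hF hO h'
      exact ⟨a, b, Subtype.ext e⟩)
    [1, 22] (by decide +kernel) α
  refine ⟨g, i, ?_, h1, h2⟩
  simpa using hi

theorem pY_pow_mod (b : ℕ) : pY ^ b = pY ^ (b % 11) := by
  rw [← orderOf_pY, pow_mod_orderOf]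

theorem pY_pow_eq_one {b : ℕ} (h : pY ^ (2 * b) = 1) : pY ^ b = 1 := by
  have hd : 11 ∣ 2 * b := orderOf_pY ▸ orderOf_dvd_of_pow_eq_one h
  rw [pY_pow_mod, show b % 11 = 0 by omega, pow_zero]

theorem pZ_pow_five : pZ ^ 5 = 1 := by
  rw [pZ, ← map_pow, show mZ ^ 5 = 1 from Subtype.ext (perm_ext_pt fun i hi =>
    (sZ_pow_pt 5 hi).trans (congrArg Golay.pt
      ((by decide +kernel : ∀ i < 24, (Golay.fn dZ)^[5] i = i) i hi))), map_one]

/-- An element normalising `⟨pY⟩` sends fixed vectors to fixed vectors. -/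
theorem pY_fix_smul {g : Co0} {e : ℕ} (h : g * pY = pY ^ e * g) {v : leechLattice}
    (hv : pY • v = v) : pY • (g • v) = g • v := by
  have : Fact (Nat.Prime 11) := ⟨by norm_num⟩
  refine fix_of_conj orderOf_pY ?_ hv
  rw [h, mul_inv_cancel_right]
  exact pow_mem (Subgroup.mem_zpowers _) e

theorem co3_images {g : Co0} (hF : g • baseF = baseF) {e : ℕ} (he : e ∈ [1, 3, 8, 10])
    (h : g * pY = pY ^ e * g) :
    (∃ w, (g = w ∨ g = invA * w) ∧ ((e = 1 ∧ ∃ b : ℕ, w = pY ^ b) ∨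
      (e = 3 ∧ ∃ b : ℕ, w = pZ * pY ^ b))) := by
  have hy := pY_fix_smul h (pXYZ_fix pY_mem).2
  rcases cand32 hy (by rw [sqNorm_smul, sqNorm_vecO]) (by
    rw [← hF, dotInt_smul, dot_F_O]) with h' | h'
  · exact ⟨g, Or.inl rfl, normY_co0 hF h' he h⟩
  · have e1 : g • vecO = invA • vecO := Subtype.ext (h'.trans invA_vecO.2.symm)
    refine ⟨invA * g, Or.inr (by rw [← mul_assoc, invA_mul_self, one_mul]), normY_co0 ?_ ?_ he ?_⟩
    · rw [mul_smul, hF, invA_fix]
    · rw [mul_smul, e1, ← mul_smul, invA_mul_self, one_smul]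
    · have hc : Commute pY invA := invA_pY
      rw [mul_assoc, h, ← mul_assoc, ← (hc.pow_left e).eq, mul_assoc]

theorem card_out_co3Group : Nat.card (Cfsg.Out co3Group) = 1 := by
  have hxm := xyz_le_co3 pX_mem
  have hym := xyz_le_co3 pY_mem
  have hzm := xyz_le_co3 pZ_mem
  have htm := invA_mem_co3
  refine card_out_eq_one _ (gens_top co3_gen hxm hym hzm htm) fun α => ?_
  obtain ⟨g, i, hi, h1, h2⟩ := exists_normal hxm hym (by rw [natCard_co3Group]; norm_num)
    (fun g hg h => ⟨co3_fix hg, normX_of_fixF (co3_fix hg) h⟩) α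
  refine ⟨g, ?_⟩
  let f : co3Group →* co3Group := (MulAut.conj g * α : MulAut co3Group).toMonoidHom
  have fe : ∀ a, f a = g * α a * g⁻¹ := fun a => rfl
  have finj : Function.Injective f := (MulAut.conj g * α : MulAut co3Group).injective
  have fy : ((f ⟨pY, hym⟩ : co3Group) : Co0) = pY := by rw [fe, h2]
  -- the image of `pZ`
  obtain ⟨b, hb⟩ : ∃ b : ℕ, ((f ⟨pZ, hzm⟩ : co3Group) : Co0) = pZ * pY ^ b := by
    set u := ((f ⟨pZ, hzm⟩ : co3Group) : Co0) with hu
    have hrel : u * pY = pY ^ 3 * u := by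
      have e := congrArg (fun a => ((f a : co3Group) : Co0))
        (show (⟨pZ, hzm⟩ : co3Group) * ⟨pY, hym⟩ = ⟨pY, hym⟩ ^ 3 * ⟨pZ, hzm⟩ from
          Subtype.ext pZ_conj_pY)
      simp only [map_mul, map_pow, Subgroup.coe_mul, SubmonoidClass.coe_pow, fy] at e
      exact e
    have hfix : u • baseF = baseF := co3_fix (f ⟨pZ, hzm⟩).2
    obtain ⟨w, hw, ⟨h13, -⟩ | ⟨-, b, rfl⟩⟩ := co3_images hfix (e := 3) (by simp) hrel
    · exact absurd h13 (by norm_num)
    rcases hw with hw | hw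
    · exact ⟨b, hw⟩
    exfalso
    have h5 : u ^ 5 = 1 := by
      have e := congrArg (fun a => ((f a : co3Group) : Co0))
        (show (⟨pZ, hzm⟩ : co3Group) ^ 5 = 1 from Subtype.ext pZ_pow_five)
      simpa only [map_pow, map_one, SubmonoidClass.coe_pow, OneMemClass.coe_one] using e
    have hc : Commute invA (pZ * pY ^ b) := by
      refine Commute.mul_right ?_ (Commute.pow_right ?_ b)
      · exact invA_pZ.symm
      · exact invA_pY.symm
    have hw5 : ((pZ * pY ^ b) ^ 5) • vecO = vecO :=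
      (pXYZ_fix (pow_mem (mul_mem pZ_mem (pow_mem pY_mem b)) 5)).2
    rw [hw, hc.mul_pow, show invA ^ 5 = invA by
      rw [pow_succ, show 4 = 2 * 2 by rfl, pow_mul, sq invA, invA_mul_self, one_pow,
        one_mul]] at h5
    have hfixed : invA • vecO = vecO := by
      have := congrArg (fun a : Co0 => a • vecO) h5
      simp only [mul_smul, one_smul, hw5] at this
      exact this
    exact Rep.ne invA_vecO rep_O (by decide +kernel) hfixed
  obtain ⟨rfl, hb0⟩ := exponents_eq hxm hym hzm f hi (Nat.mod_lt b (by norm_num : 0 < 11)) h1 h2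
    (Subtype.ext (by rw [hb, pY_pow_mod]; rfl))
  -- the image of the involution
  have ft : ((f ⟨invA, htm⟩ : co3Group) : Co0) = invA := by
    set u := ((f ⟨invA, htm⟩ : co3Group) : Co0) with hu
    have hrel : u * pY = pY ^ 1 * u := by
      have e := congrArg (fun a => ((f a : co3Group) : Co0))
        (show (⟨invA, htm⟩ : co3Group) * ⟨pY, hym⟩ = ⟨pY, hym⟩ * ⟨invA, htm⟩ from
          Subtype.ext invA_pY.symm)
      simp only [map_mul, Subgroup.coe_mul, fy] at e
      rw [pow_one]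
      exact e
    have h2' : u * u = 1 := by
      have e := congrArg (fun a => ((f a : co3Group) : Co0))
        (show (⟨invA, htm⟩ : co3Group) * ⟨invA, htm⟩ = 1 from Subtype.ext invA_mul_self)
      simpa only [map_mul, map_one, Subgroup.coe_mul, OneMemClass.coe_one] using e
    have hne : u ≠ 1 := fun h => invA_ne_one (congrArg Subtype.val (finj (a₁ := ⟨invA, htm⟩) (a₂ := 1)
      (Subtype.ext (by rw [map_one]; exact h))))
    have hfix : u • baseF = baseF := co3_fix (f ⟨invA, htm⟩).2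
    obtain ⟨w, hw, ⟨-, c, rfl⟩ | ⟨h13, -⟩⟩ := co3_images hfix (e := 1) (by simp) hrel
    swap
    · exact absurd h13 (by norm_num)
    have hc : Commute invA (pY ^ c) := Commute.pow_right invA_pY.symm c
    rcases hw with hw | hw
    · refine absurd ?_ hne
      rw [hw, ← pow_add, ← two_mul] at h2'
      rw [hw, pY_pow_eq_one h2']
    · rw [hw, mul_assoc, ← mul_assoc (pY ^ c), ← hc.eq, mul_assoc, ← mul_assoc invA invA,
        invA_mul_self, one_mul, ← pow_add, ← two_mul] at h2'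
      rw [hw, pY_pow_eq_one h2', mul_one]
  intro s hs
  simp only [Set.mem_insert_iff, Set.mem_singleton_iff] at hs
  rcases hs with rfl | rfl | rfl | rfl
  · rw [h1, pow_one]
  · exact h2
  · refine Subtype.ext ?_
    rw [← fe, hb, pY_pow_mod, hb0, pow_zero, mul_one]
  · exact Subtype.ext ft

end Cfsg.Agent.OutCert
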