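import Cfsg.Agent.Lib.OutCert.Co1Words
import Cfsg.Agent.Lib.OutCert.Co3

/-!
# Normalisers of `⟨pX⟩` and `⟨pY⟩` in `Co0`

* `boxList`, `exists_box` : the fixed vectors of `pY` of small norm
* `normX_pm` : the normaliser of `⟨pX⟩`
* `normal_y` : elements conjugating `pY` to its powers with exponents `1`, `3`, `10`
-/

set_option autoImplicit false

namespace Cfsg.Agent.OutCert

open Leech MulAction

/-- The fixed vectors of `pY` with sum of squares `n`. -/
def boxList (n : ℤ) : List (List ℤ) :=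
  ((List.range 15).flatMap fun a : ℕ => (List.range 15).flatMap fun b : ℕ =>
    (List.range 5).flatMap fun c : ℕ => (List.range 5).map fun d : ℕ =>
      (Int.subNatNat a 7, Int.subNatNat b 7, Int.subNatNat c 2, Int.subNatNat d 2)).filterMap
    fun t => if t.1 * t.1 + t.2.1 * t.2.1 + 11 * (t.2.2.1 * t.2.2.1) + 11 * (t.2.2.2 * t.2.2.2) == n
        && dotsOK (vec4 t.1 t.2.1 t.2.2.1 t.2.2.2) then
      some (vec4 t.1 t.2.1 t.2.2.1 t.2.2.2) else none

theorem exists_box {v : leechLattice} {n : ℤ} (hn : sqNorm (v : GolayPt → ℤ) = n) (hn' : n ≤ 48)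
    (hv : pY • v = v) : ∃ x ∈ boxList n, Rep v x := by
  obtain ⟨a, b, c, d, e, hs, hok⟩ := cand_aux hn hn' hv
  refine ⟨_, ?_, ⟨by simp [vec4], e⟩⟩
  rw [boxList, List.mem_filterMap]
  refine ⟨((a.val : ℤ) - 7, (b.val : ℤ) - 7, (c.val : ℤ) - 2, (d.val : ℤ) - 2), ?_, ?_⟩
  · simp only [List.mem_flatMap, List.mem_map, List.mem_range]
    exact ⟨a.val, a.isLt, b.val, b.isLt, c.val, c.isLt, d.val, d.isLt, by simp [Int.subNatNat_eq_coe]⟩
  · rw [if_pos]
    rw [Bool.and_eq_true, beq_iff_eq]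
    exact ⟨hs, hok⟩

theorem dotInt_rep {v w : leechLattice} {x y : List ℤ} (hx : Rep v x) (hy : Rep w y) :
    dotInt (v : GolayPt → ℤ) (w : GolayPt → ℤ) = dotL x y := by
  rw [hx.2, hy.2]
  exact vOf_dotProduct x hy.1

theorem Rep.list_eq {v : leechLattice} {x y : List ℤ} (h : Rep v x) (h' : Rep v y) : x = y := by
  by_contra hne
  exact Rep.ne h h' hne rfl

/-- Pairs of vectors in the configuration of `baseF`, `vecO` are fixed or negated. -/
theorem pairX_check : ∀ x ∈ boxList 48, ∀ y ∈ boxList 32, actP dX x = x → actP dX y = y →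
    dotL x y = 8 → (x = vec4 5 1 1 1 ∧ y = vec4 (-3) 1 1 1) ∨
      (x = (vec4 5 1 1 1).map (- ·) ∧ y = (vec4 (-3) 1 1 1).map (- ·)) := by
  decide +kernel

theorem normX_pm {g : Co0} (h : g * pX * g⁻¹ ∈ Subgroup.zpowers pX) :
    ∃ a b : ℕ, g = pX ^ a * pY ^ b ∨ g = negOne * (pX ^ a * pY ^ b) := by
  have : Fact (Nat.Prime 23) := ⟨by norm_num⟩
  obtain ⟨hxF, hxO⟩ := pXYZ_fix pX_mem
  have hvF : pX • (g • baseF) = g • baseF := fix_of_conj orderOf_pX h hxF
  have hvO : pX • (g • vecO) = g • vecO := fix_of_conj orderOf_pX h hxO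
  have hy : ∀ {v : leechLattice}, pX • v = v → pY • v = v := fun {v} hv => by
    refine Subtype.ext (funext fun p => ?_)
    show ((permEl sY sY_mem • v : leechLattice) : GolayPt → ℤ) p = _
    rw [vec_permEl]
    exact pX_const hv sXY_none.2.1 p
  obtain ⟨x, hx, rx⟩ := exists_box (n := 48) (by rw [sqNorm_smul, sqNorm_baseF]) le_rfl (hy hvF)
  obtain ⟨y, hy', ry⟩ := exists_box (n := 32) (by rw [sqNorm_smul, sqNorm_vecO]) (by norm_num)
    (hy hvO)
  have fx : actP dX x = x := (hvF ▸ rx.pX).list_eq rx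
  have fy : actP dX y = y := (hvO ▸ ry.pX).list_eq ry
  have hd : dotL x y = 8 := by rw [← dotInt_rep rx ry, dotInt_smul, dot_F_O]
  have hcn : negOne ∈ Subgroup.center Co0 := negOne_mem_center
  rcases pairX_check x hx y hy' fx fy hd with ⟨rfl, rfl⟩ | ⟨rfl, rfl⟩
  · obtain ⟨a, b, e⟩ := normX_co0 (rx.eq rep_F) (ry.eq rep_O) h
    exact ⟨a, b, Or.inl e⟩
  · have hneg : ∀ v : leechLattice, (negOne * g) • v = -(g • v) := fun v => by
      rw [mul_smul, negOne_smul]
    have h' : negOne * g * pX * (negOne * g)⁻¹ ∈ Subgroup.zpowers pX := by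
      rw [show negOne * g * pX * (negOne * g)⁻¹ = negOne * (g * pX * g⁻¹) * negOne⁻¹ by group,
        ← Subgroup.mem_center_iff.1 hcn (g * pX * g⁻¹), mul_inv_cancel_right]
      exact h
    obtain ⟨a, b, e⟩ := normX_co0 (g := negOne * g)
      (by rw [hneg, rx.eq rep_F.neg, neg_neg]) (by rw [hneg, ry.eq rep_O.neg, neg_neg]) h'
    refine ⟨a, b, Or.inr ?_⟩
    rw [← e, ← mul_assoc]
    have hsq : negOne * negOne = 1 := co0_ext fun v => by
      rw [mul_smul, negOne_smul, negOne_smul, one_smul, neg_neg]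
    rw [hsq, one_mul]

/-- The six words in `pD`, `invA`. -/
def cWords : List (List ℕ) := [[], [4], [5], [4, 5], [5, 4], [4, 5, 4]]

/-- The images of `(baseF, vecO)` are reached by twenty-four words. -/
theorem pairY_check : ∀ x ∈ boxList 48, ∀ y ∈ boxList 32, dotL x y = 8 →
    ∃ s ∈ [[], [6]], ∃ c ∈ cWords, ∃ p ∈ [[], [3]],
      runW (s ++ c ++ p) (vec4 5 1 1 1) = x ∧ runW (s ++ c ++ p) (vec4 (-3) 1 1 1) = y := by
  decide +kernel

theorem letters_check : sameW [4, 1] [1, 4] = true ∧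
    sameW [3, 1] (List.replicate 10 1 ++ [3]) = true := by
  decide +kernel

theorem commute_cword : ∀ l : List ℕ, (∀ k ∈ l, k = 4 ∨ k = 5 ∨ k = 6) → Commute (W l) pY
  | [], _ => by rw [W_nil]; exact Commute.one_left _
  | k :: l, h => by
    rw [show k :: l = [k] ++ l from rfl, W_append, W_single]
    refine Commute.mul_left ?_ (commute_cword l fun a ha => h a (List.mem_cons_of_mem _ ha))
    rcases h k List.mem_cons_self with rfl | rfl | rfl
    · have e := W_eq letters_check.1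
      rw [show ([4, 1] : List ℕ) = [4] ++ [1] from rfl, show ([1, 4] : List ℕ) = [1] ++ [4] from rfl,
        W_append, W_append, W_single, W_single] at e
      exact e
    · exact invA_pY.symm
    · exact (Subgroup.mem_center_iff.1 negOne_mem_center pY).symm

/-- The middle letter of an exponent. -/
def midW (e : ℕ) : List ℕ := if e = 3 then [2] else if e = 10 then [3] else []

theorem semiconj_S : SemiconjBy (W [3]) pY (pY ^ 10) := by
  have e := W_eq letters_check.2
  rw [show ([3, 1] : List ℕ) = [3] ++ [1] from rfl, W_append, W_append, W_replicate,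
    show W [1] = pY from W_single 1] at e
  exact e

theorem normal_y {g : Co0} {e : ℕ} (he : e ∈ [1, 3, 10]) (h : g * pY = pY ^ e * g) :
    ∃ s ∈ [[], [6]], ∃ c ∈ cWords, ∃ b < 11,
      g = W (s ++ (c ++ midW e ++ List.replicate b 1)) := by
  have hyF : pY • (g • baseF) = g • baseF := pY_fix_smul h (pXYZ_fix pY_mem).1
  have hyO : pY • (g • vecO) = g • vecO := pY_fix_smul h (pXYZ_fix pY_mem).2
  obtain ⟨x, hx, rx⟩ := exists_box (n := 48) (by rw [sqNorm_smul, sqNorm_baseF]) le_rfl hyF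
  obtain ⟨y, hy, ry⟩ := exists_box (n := 32) (by rw [sqNorm_smul, sqNorm_vecO]) (by norm_num) hyO
  obtain ⟨s, hs, c, hc, p, hp, eF, eO⟩ := pairY_check x hx y hy
    (by rw [← dotInt_rep rx ry, dotInt_smul, dot_F_O])
  refine ⟨s, hs, c, hc, ?_⟩
  set w := (W (s ++ c ++ p))⁻¹ * g with hw
  have wF : w • baseF = baseF := by
    rw [hw, mul_smul, inv_smul_eq_iff]
    exact (eF ▸ rx).eq (rep_W srep_F _)
  have wO : w • vecO = vecO := by
    rw [hw, mul_smul, inv_smul_eq_iff]
    exact (eO ▸ ry).eq (rep_W srep_O _)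
  have hC : Commute (W (s ++ c)) pY := by
    refine commute_cword _ fun k hk => ?_
    rcases List.mem_append.1 hk with hk | hk
    · rcases List.mem_cons.1 hs with rfl | hs
      · simp at hk
      · rw [List.mem_singleton.1 hs] at hk
        simp_all
    · have key : ∀ c ∈ cWords, ∀ k ∈ c, k = 4 ∨ k = 5 ∨ k = 6 := by decide
      exact key c hc k hk
  have hfin : ∀ (ε : ℕ), ε * ε % 11 = 1 → SemiconjBy (W (s ++ c ++ p)) pY (pY ^ ε) →
      w * pY = pY ^ (ε * e % 11) * w := by
    intro ε hε hsemi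
    have h2 := (hsemi.pow_right (ε * e % 11)).eq
    rw [← pow_mul] at h2
    refine mul_left_cancel (a := W (s ++ c ++ p)) ?_
    have hcan : W (s ++ c ++ p) * w = g := by rw [hw, mul_inv_cancel_left]
    conv_lhs => rw [← mul_assoc, hcan]
    conv_rhs => rw [← mul_assoc, h2, mul_assoc, hcan]
    rw [h, pY_pow_mod e, pY_pow_mod (ε * (ε * e % 11))]
    congr 2
    rw [Nat.mul_mod, Nat.mod_mod, ← Nat.mul_mod, ← mul_assoc, Nat.mul_mod, hε, one_mul, Nat.mod_mod]
  have hg : g = W (s ++ c ++ p) * w := by rw [hw, mul_inv_cancel_left]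
  have he' : e = 1 ∨ e = 3 ∨ e = 10 := by simpa using he
  have pb : ∀ b : ℕ, pY ^ b = W (List.replicate (b % 11) 1) := fun b => by
    rw [W_replicate, pY_pow_mod]
    rfl
  rcases List.mem_cons.1 hp with rfl | hp
  · have hw' := hfin 1 (by norm_num) (by simpa [SemiconjBy] using hC.eq)
    rcases he' with rfl | rfl | rfl
    · rcases normY_co0 wF wO (e := 1 * 1 % 11) (by simp) hw' with ⟨-, b, hb⟩ | ⟨h13, -⟩
      · refine ⟨b % 11, Nat.mod_lt _ (by norm_num), ?_⟩
        rw [hg, hb, pb, ← W_append]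
        simp [midW]
      · exact absurd h13 (by norm_num)
    · rcases normY_co0 wF wO (e := 1 * 3 % 11) (by simp) hw' with ⟨h13, -⟩ | ⟨-, b, hb⟩
      · exact absurd h13 (by norm_num)
      · refine ⟨b % 11, Nat.mod_lt _ (by norm_num), ?_⟩
        rw [hg, hb, pb, show pZ = W [2] from (W_single 2).symm, ← W_append, ← W_append]
        simp [midW]
    · rcases normY_co0 wF wO (e := 1 * 10 % 11) (by simp) hw' with ⟨h13, -⟩ | ⟨h13, -⟩ <;>
        exact absurd h13 (by norm_num)
  · obtain rfl := List.mem_singleton.1 hp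
    have hw' := hfin 10 (by norm_num) (by
      rw [W_append (s ++ c) [3]]
      exact SemiconjBy.mul_left ((hC.pow_right 10).eq : SemiconjBy (W (s ++ c)) (pY ^ 10) (pY ^ 10))
        semiconj_S)
    rcases he' with rfl | rfl | rfl
    · rcases normY_co0 wF wO (e := 10 * 1 % 11) (by simp) hw' with ⟨h13, -⟩ | ⟨h13, -⟩ <;>
        exact absurd h13 (by norm_num)
    · rcases normY_co0 wF wO (e := 10 * 3 % 11) (by simp) hw' with ⟨h13, -⟩ | ⟨h13, -⟩ <;>
        exact absurd h13 (by norm_num)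
    · rcases normY_co0 wF wO (e := 10 * 10 % 11) (by simp) hw' with ⟨-, b, hb⟩ | ⟨h13, -⟩
      · refine ⟨b % 11, Nat.mod_lt _ (by norm_num), ?_⟩
        rw [hg, hb, pb, ← W_append]
        simp [midW]
      · exact absurd h13 (by norm_num)

end Cfsg.Agent.OutCert
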