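import Cfsg.Agent.Lib.OutCert.Gen
import Cfsg.Agent.Lib.OutCert.Fast
import Cfsg.Agent.Lib.Leech.Co0Center
import Cfsg.Agent.Lib.StabCert.Chain

/-!
# Words in seven elements of `Co0`

* `lt7` : the three permutations, `pS` exchanging `∞` and `0`, the sign change `pD`, `invA`, `-1`
* `W`, `runW`, `rep_W` : words evaluated on lists
* `W_eq`, `W_central`, `W_not_central` : checks on words
-/

set_option autoImplicit false

namespace Cfsg.Agent.OutCert

open Leech MulAction

/-- The support of the sign change. -/
def dD : ℕ := 0xfacca0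

theorem isCode_dD : Golay.isCode dD = true := by decide +kernel

theorem mem_dD : Golay.pts dD ∈ supports (golayCode : Set (GolayPt → ZMod 2)) :=
  (Golay.pts_mem_supports_iff (Golay.lt_of_isCode isCode_dD)).2 isCode_dD

/-- The permutation exchanging `∞` and `0`. -/
noncomputable def pS : Co0 := permEl (Golay.toPerm dS) (Golay.toPerm_mem_M24 isAut_dS)

/-- The sign change. -/
noncomputable def pD : Co0 := signEl (Golay.pts dD) mem_dD

/-- The letters. -/
noncomputable def lt7 (k : ℕ) : Co0 :=
  if k = 0 then pX else if k = 1 then pY else if k = 2 then pZ else if k = 3 then pS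
  else if k = 4 then pD else if k = 5 then invA else negOne

/-- The value of a word. -/
noncomputable def W (w : List ℕ) : Co0 := StabCert.wordEl lt7 w

/-- The action of a letter on lists. -/
def act7 (k : ℕ) (x : List ℤ) : List ℤ :=
  if k = 0 then actC dXCols x else if k = 1 then actC dYCols x else if k = 2 then actC dZCols x
  else if k = 3 then actC dSCols x else if k = 4 then actC dDCols x else if k = 5 then actC t3Cols x
  else x.map (- ·)

/-- The action of a word on lists. -/
def runW : List ℕ → List ℤ → List ℤ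
  | [], x => x
  | k :: w, x => act7 k (runW w x)

theorem Rep.neg {v : leechLattice} {x : List ℤ} (h : Rep v x) : Rep (-v) (x.map (- ·)) := by
  refine ⟨by simp [h.1], funext fun p => ?_⟩
  rw [AddSubgroup.coe_neg, Pi.neg_apply, h.2]
  show -x.getD (Golay.idx p) 0 = (x.map (- ·)).getD (Golay.idx p) 0
  rw [← List.getD_map (f := fun a : ℤ => -a)]
  simp

theorem cols7_ok : ((permRows dX).all smallL = true ∧ dXCols = packCols (permRows dX)) ∧
    ((permRows dY).all smallL = true ∧ dYCols = packCols (permRows dY)) ∧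
    ((permRows dZ).all smallL = true ∧ dZCols = packCols (permRows dZ)) ∧
    ((permRows dS).all smallL = true ∧ dSCols = packCols (permRows dS)) ∧
    ((signRows dD).all smallL = true ∧ dDCols = packCols (signRows dD)) := by
  decide +kernel

theorem SRep.letter {v : leechLattice} {x : List ℤ} (h : SRep v x) (k : ℕ) :
    SRep (lt7 k • v) (act7 k x) := by
  obtain ⟨⟨x1, x2⟩, ⟨y1, y2⟩, ⟨z1, z2⟩, ⟨s1, s2⟩, ⟨d1, d2⟩⟩ := cols7_ok
  unfold lt7 act7
  split_ifs
  · exact h.perm isAut_xyz.1 x1 x2
  · exact h.perm isAut_xyz.2.1 y1 y2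
  · exact h.perm isAut_xyz.2.2 z1 z2
  · exact h.perm isAut_dS s1 s2
  · refine h.smul ?_
    rw [d2, actC_eq (by simp [signRows]) d1 h.1.1 h.small, ← actD_eq dD h.1.1]
    refine ⟨by simp, funext fun p => ?_⟩
    rw [pD, vec_signEl]
    show _ = ((List.range 24).map fun i =>
      if dD.testBit i then -x.getD i 0 else x.getD i 0).getD (Golay.idx p) 0
    rw [List.getD_eq_getElem _ _ (by simpa using Golay.idx_lt p), List.getElem_map,
      List.getElem_range]
    have e : (v : GolayPt → ℤ) p = x.getD (Golay.idx p) 0 := congrFun h.1.2 p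
    simp only [Golay.mem_pts, e]
  · exact h.mat okA
  · rw [negOne_smul]; exact h.neg h.1.neg

theorem srep_W {v : leechLattice} {x : List ℤ} (h : SRep v x) :
    ∀ w : List ℕ, SRep (W w • v) (runW w x)
  | [] => by simpa [W, StabCert.wordEl, runW] using h
  | k :: w => by
    rw [W, StabCert.wordEl, List.map_cons, List.prod_cons, mul_smul]
    exact (srep_W h w).letter k

theorem rep_W {v : leechLattice} {x : List ℤ} (h : SRep v x) (w : List ℕ) :
    Rep (W w • v) (runW w x) :=
  (srep_W h w).1

theorem srep_F : SRep baseF (vec4 5 1 1 1) := ⟨rep_F, sqNorm_baseF.le.trans (by norm_num)⟩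

theorem srep_O : SRep vecO (vec4 (-3) 1 1 1) := ⟨rep_O, sqNorm_vecO.le.trans (by norm_num)⟩

theorem W_append (a b : List ℕ) : W (a ++ b) = W a * W b := StabCert.wordEl_append _ a b

theorem W_nil : W [] = 1 := rfl

theorem W_single (k : ℕ) : W [k] = lt7 k := by simp [W, StabCert.wordEl]

theorem W_replicate (k n : ℕ) : W (List.replicate n k) = lt7 k ^ n := by
  simp [W, StabCert.wordEl, List.map_replicate]

/-- The list of `8 e_j`. -/
def e8 (j : ℕ) : List ℤ := (List.range 24).map fun i => if i = j then 8 else 0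

theorem rep_e8 (p : GolayPt) : Rep (eightVec p) (e8 (Golay.idx p)) := by
  refine ⟨by simp [e8], funext fun q => ?_⟩
  show _ = (e8 (Golay.idx p)).getD (Golay.idx q) 0
  rw [e8, List.getD_eq_getElem _ _ (by simpa using Golay.idx_lt q), List.getElem_map,
    List.getElem_range, coe_eightVec, Pi.single_apply]
  simp only [Golay.idx_injective.eq_iff]

theorem srep_e8 (p : GolayPt) : SRep (eightVec p) (e8 (Golay.idx p)) :=
  ⟨rep_e8 p, by rw [sqNorm_eightVec]; norm_num⟩

/-- The two words agree. -/
def sameW (w w' : List ℕ) : Bool := (List.range 24).all fun j => runW w (e8 j) == runW w' (e8 j)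

theorem W_eq {w w' : List ℕ} (h : sameW w w' = true) : W w = W w' := by
  simp only [sameW, List.all_eq_true, List.mem_range, beq_iff_eq] at h
  refine ext_frame fun p => ?_
  have h1 := rep_W (srep_e8 p) w
  rw [h _ (Golay.idx_lt p)] at h1
  exact h1.eq (rep_W (srep_e8 p) w')

theorem W_central {w : List ℕ} (h : sameW w [] = true ∨ sameW w [6] = true) :
    W w ∈ Subgroup.center Co0 := by
  rcases h with h | h
  · rw [W_eq h, W_nil]; exact one_mem _
  · rw [W_eq h, W_single]; exact negOne_mem_center

/-- A vector moved to neither itself nor its negative. -/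
def movedW (w : List ℕ) : Bool :=
  [e8 1, vec4 5 1 1 1, e8 0, vec4 (-3) 1 1 1].any fun x =>
    !(runW w x == x) && !(runW w x == x.map (- ·))

theorem W_not_central {w : List ℕ} (h : movedW w = true) : W w ∉ Subgroup.center Co0 := by
  have key : ∀ {v : leechLattice} {x : List ℤ}, SRep v x → runW w x ≠ x →
      runW w x ≠ x.map (- ·) → W w ∉ Subgroup.center Co0 := by
    intro v x hx h1 h2 hc
    rcases center_eq hc with e | e
    · exact (rep_W hx w).ne hx.1 h1 (by rw [e, one_smul])
    · exact (rep_W hx w).ne hx.1.neg h2 (by rw [e, negOne_smul])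
  simp only [movedW, List.any_cons, List.any_nil, Bool.or_false, Bool.or_eq_true,
    Bool.and_eq_true, Bool.not_eq_true', beq_eq_false_iff_ne] at h
  have i0 : Golay.idx (Golay.pt 0) = 0 := Golay.idx_pt (by norm_num)
  have i1 : Golay.idx (Golay.pt 1) = 1 := Golay.idx_pt (by norm_num)
  rcases h with ⟨a, b⟩ | ⟨a, b⟩ | ⟨a, b⟩ | ⟨a, b⟩
  · exact key (i1 ▸ srep_e8 (Golay.pt 1)) a b
  · exact key srep_F a b
  · exact key (i0 ▸ srep_e8 (Golay.pt 0)) a b
  · exact key srep_O a b

end Cfsg.Agent.OutCert
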