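import Cfsg.Agent.Lib.OutCert.Co3

/-!
# The stabiliser of `vecO` has no outer automorphisms

* `stabO_images` : elements normalising `⟨pY⟩`;  `card_out_stabO`
-/

set_option autoImplicit false

namespace Cfsg.Agent.OutCert

open Leech MulAction

theorem invB_pow_pY : ∀ e : ℕ, invB * pY ^ e = pY ^ (10 * e) * invB
  | 0 => by simp
  | e + 1 => by
    have h1 : invB * pY = pY ^ 10 * invB := by
      calc invB * pY = invB * (pY * invB) * invB := by
              rw [mul_assoc, mul_assoc, invB_mul_self, mul_one]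
        _ = invB * (invB * pY ^ 10) * invB := by rw [invB_pY]
        _ = pY ^ 10 * invB := by rw [← mul_assoc invB invB, invB_mul_self, one_mul]
    rw [pow_succ, ← mul_assoc, invB_pow_pY e, mul_assoc, h1, ← mul_assoc, ← pow_add]
    ring_nf

theorem stabO_images {g : Co0} (hO : g • vecO = vecO) {e : ℕ} (h : g * pY = pY ^ e * g) :
    g • baseF = baseF ∨ ∃ w, g = invB * w ∧ w • baseF = baseF ∧ w • vecO = vecO ∧
      w * pY = pY ^ (10 * e % 11) * w := by
  have hy := pY_fix_smul h (pXYZ_fix pY_mem).1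
  rcases cand48 hy (by rw [sqNorm_smul, sqNorm_baseF]) (by
    rw [← hO, dotInt_smul, dotInt_comm, dot_F_O]) with h' | h'
  · exact Or.inl h'
  · have e1 : g • baseF = invB • baseF := Subtype.ext (h'.trans invB_baseF.2.symm)
    refine Or.inr ⟨invB * g, by rw [← mul_assoc, invB_mul_self, one_mul], ?_, ?_, ?_⟩
    · rw [mul_smul, e1, ← mul_smul, invB_mul_self, one_smul]
    · rw [mul_smul, hO, invB_fix]
    · rw [mul_assoc, h, ← mul_assoc, invB_pow_pY, ← pY_pow_mod, mul_assoc]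

theorem card_out_stabO : Nat.card (Cfsg.Out stabO) = 1 := by
  have hxm := xyz_le_stabO pX_mem
  have hym := xyz_le_stabO pY_mem
  have hzm := xyz_le_stabO pZ_mem
  have htm := invB_mem_stabO
  refine card_out_eq_one _ (gens_top stabO_gen hxm hym hzm htm) fun α => ?_
  obtain ⟨g, i, hi, h1, h2⟩ := exists_normal hxm hym (by rw [natCard_stabO]; norm_num)
    (fun g hg h => ⟨normX_of_fixO (mem_stabilizer_iff.1 hg) h, mem_stabilizer_iff.1 hg⟩) α
  refine ⟨g, ?_⟩
  let f : stabO →* stabO := (MulAut.conj g * α : MulAut stabO).toMonoidHom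
  have fe : ∀ a, f a = g * α a * g⁻¹ := fun a => rfl
  have fy : ((f ⟨pY, hym⟩ : stabO) : Co0) = pY := by rw [fe, h2]
  -- the image of `pZ`
  obtain ⟨b, hb⟩ : ∃ b : ℕ, ((f ⟨pZ, hzm⟩ : stabO) : Co0) = pZ * pY ^ b := by
    set u := ((f ⟨pZ, hzm⟩ : stabO) : Co0) with hu
    have hrel : u * pY = pY ^ 3 * u := by
      have e := congrArg (fun a => ((f a : stabO) : Co0))
        (show (⟨pZ, hzm⟩ : stabO) * ⟨pY, hym⟩ = ⟨pY, hym⟩ ^ 3 * ⟨pZ, hzm⟩ from
          Subtype.ext pZ_conj_pY)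
      simp only [map_mul, map_pow, Subgroup.coe_mul, SubmonoidClass.coe_pow, fy] at e
      exact e
    have hfix : u • vecO = vecO := mem_stabilizer_iff.1 (f ⟨pZ, hzm⟩).2
    rcases stabO_images hfix hrel with hF | ⟨w, -, hwF, hwO, hw⟩
    · rcases normY_co0 hF hfix (e := 3) (by simp) hrel with ⟨h13, -⟩ | ⟨-, b, hb⟩
      · exact absurd h13 (by norm_num)
      · exact ⟨b, hb⟩
    · rcases normY_co0 hwF hwO (e := 10 * 3 % 11) (by simp) hw with ⟨h13, -⟩ | ⟨h13, -⟩ <;>
        exact absurd h13 (by norm_num)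
  obtain ⟨rfl, hb0⟩ := exponents_eq hxm hym hzm f hi (Nat.mod_lt b (by norm_num : 0 < 11)) h1 h2
    (Subtype.ext (by rw [hb, pY_pow_mod]; rfl))
  have fz : ((f ⟨pZ, hzm⟩ : stabO) : Co0) = pZ := by
    rw [hb, pY_pow_mod, hb0, pow_zero, mul_one]
  -- the image of the involution
  have ft : ((f ⟨invB, htm⟩ : stabO) : Co0) = invB := by
    set u := ((f ⟨invB, htm⟩ : stabO) : Co0) with hu
    have hrel : u * pY = pY ^ 10 * u := by
      have e := congrArg (fun a => ((f a : stabO) : Co0))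
        (show (⟨invB, htm⟩ : stabO) * ⟨pY, hym⟩ = ⟨pY, hym⟩ ^ 10 * ⟨invB, htm⟩ from
          Subtype.ext (by have := invB_pow_pY 1; rwa [pow_one] at this))
      simp only [map_mul, map_pow, Subgroup.coe_mul, SubmonoidClass.coe_pow, fy] at e
      exact e
    have hfix : u • vecO = vecO := mem_stabilizer_iff.1 (f ⟨invB, htm⟩).2
    rcases stabO_images hfix hrel with hF | ⟨w, hw, hwF, hwO, hwy⟩
    · rcases normY_co0 hF hfix (e := 10) (by simp) hrel with ⟨h13, -⟩ | ⟨h13, -⟩ <;>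
        exact absurd h13 (by norm_num)
    rcases normY_co0 hwF hwO (e := 10 * 10 % 11) (by simp) hwy with ⟨-, c, rfl⟩ | ⟨h13, -⟩
    swap
    · exact absurd h13 (by norm_num)
    have key : pZ * u = u * (pZ * pY ^ 10) := by
      have e := congrArg (fun a => ((f a : stabO) : Co0))
        (show (⟨pZ, hzm⟩ : stabO) * ⟨invB, htm⟩ =
          ⟨invB, htm⟩ * (⟨pZ, hzm⟩ * ⟨pY, hym⟩ ^ 10) from Subtype.ext invB_pZ)
      simpa only [map_mul, map_pow, Subgroup.coe_mul, SubmonoidClass.coe_pow, fy, fz] using e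
    have hs : SemiconjBy pZ pY (pY ^ 3) := pZ_conj_pY
    have h4 : pY ^ c * pZ = pZ * pY ^ (4 * c) := by
      rw [(hs.pow_right (4 * c)).eq, ← pow_mul, pY_pow_mod c, pY_pow_mod (3 * (4 * c))]
      congr 2
      omega
    rw [hw, ← mul_assoc pZ, invB_pZ, mul_assoc invB (pY ^ c), ← mul_assoc (pY ^ c), h4,
      mul_assoc invB (pZ * pY ^ 10), mul_left_cancel_iff, mul_assoc pZ, mul_assoc pZ,
      mul_left_cancel_iff, ← pow_add, ← pow_add] at key
    have hmod : 10 + c ≡ 4 * c + 10 [MOD 11] := orderOf_pY ▸ pow_eq_pow_iff_modEq.1 key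
    have hc : c % 11 = 0 := by
      unfold Nat.ModEq at hmod
      omega
    rw [hw, pY_pow_mod, hc, pow_zero, mul_one]
  intro s hs
  simp only [Set.mem_insert_iff, Set.mem_singleton_iff] at hs
  rcases hs with rfl | rfl | rfl | rfl
  · rw [h1, pow_one]
  · exact h2
  · exact Subtype.ext fz
  · exact Subtype.ext ft

end Cfsg.Agent.OutCert
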