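import Cfsg.Agent.Lib.Leech.MatEl

/-!
# Certificate data: two involutions of `Co0` normalising a group of order `11`

* `t3Rows` fixes `(5, 1²³)`;  `t2Rows` fixes `(-3, 1²³)`
-/

set_option autoImplicit false

namespace Cfsg.Agent.OutCert

open Leech

/-- The rows, times eight. -/
def t3Rows : List (List ℤ) :=
  [[em4, ep0, ep0, ep0, ep0, ep2, ep0, ep2, ep0, ep0, ep2, ep2, ep0, ep0, ep2, ep2, ep0, ep2, ep0, ep2, ep2, ep2, ep2, em2],
   [ep0, em4, ep0, ep0, ep0, ep2, ep0, em2, ep0, ep0, em2, em2, ep0, ep0, ep2, ep2, ep0, em2, ep0, ep2, ep2, ep2, em2, ep2],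
   [ep0, ep0, em4, ep0, ep0, ep2, ep0, ep2, ep0, ep0, ep2, em2, ep0, ep0, em2, ep2, ep0, ep2, ep0, ep2, em2, em2, em2, ep2],
   [ep0, ep0, ep0, em4, ep0, em2, ep0, em2, ep0, ep0, em2, ep2, ep0, ep0, ep2, ep2, ep0, ep2, ep0, ep2, em2, em2, ep2, ep2],
   [ep0, ep0, ep0, ep0, em4, em2, ep0, ep2, ep0, ep0, ep2, ep2, ep0, ep0, ep2, ep2, ep0, em2, ep0, em2, ep2, em2, em2, ep2],
   [ep2, ep2, ep2, em2, em2, ep4, ep2, ep0, ep2, ep2, ep0, ep0, em2, em2, ep0, ep0, ep2, ep0, em2, ep0, ep0, ep0, ep0, ep0],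
   [ep0, ep0, ep0, ep0, ep0, ep2, em4, ep2, ep0, ep0, em2, ep2, ep0, ep0, em2, ep2, ep0, em2, ep0, em2, em2, ep2, ep2, ep2],
   [ep2, em2, ep2, em2, ep2, ep0, ep2, ep4, ep2, em2, ep0, ep0, ep2, ep2, ep0, ep0, em2, ep0, em2, ep0, ep0, ep0, ep0, ep0],
   [ep0, ep0, ep0, ep0, ep0, ep2, ep0, ep2, em4, ep0, em2, em2, ep0, ep0, ep2, em2, ep0, ep2, ep0, em2, ep2, em2, ep2, ep2],
   [ep0, ep0, ep0, ep0, ep0, ep2, ep0, em2, ep0, em4, ep2, ep2, ep0, ep0, em2, em2, ep0, em2, ep0, ep2, ep2, em2, ep2, ep2],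
   [ep2, em2, ep2, em2, ep2, ep0, em2, ep0, em2, ep2, ep4, ep0, ep2, em2, ep0, ep0, ep2, ep0, ep2, ep0, ep0, ep0, ep0, ep0],
   [ep2, em2, em2, ep2, ep2, ep0, ep2, ep0, em2, ep2, ep0, ep4, em2, ep2, ep0, ep0, ep2, ep0, em2, ep0, ep0, ep0, ep0, ep0],
   [ep0, ep0, ep0, ep0, ep0, em2, ep0, ep2, ep0, ep0, ep2, em2, em4, ep0, ep2, em2, ep0, em2, ep0, ep2, em2, ep2, ep2, ep2],
   [ep0, ep0, ep0, ep0, ep0, em2, ep0, ep2, ep0, ep0, em2, ep2, ep0, em4, em2, em2, ep0, ep2, ep0, ep2, ep2, ep2, em2, ep2],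
   [ep2, ep2, em2, ep2, ep2, ep0, em2, ep0, ep2, em2, ep0, ep0, ep2, em2, ep4, ep0, ep2, ep0, em2, ep0, ep0, ep0, ep0, ep0],
   [ep2, ep2, ep2, ep2, ep2, ep0, ep2, ep0, em2, em2, ep0, ep0, em2, em2, ep0, ep4, em2, ep0, ep2, ep0, ep0, ep0, ep0, ep0],
   [ep0, ep0, ep0, ep0, ep0, ep2, ep0, em2, ep0, ep0, ep2, ep2, ep0, ep0, ep2, em2, em4, ep2, ep0, em2, em2, ep2, em2, ep2],
   [ep2, em2, ep2, ep2, em2, ep0, em2, ep0, ep2, em2, ep0, ep0, em2, ep2, ep0, ep0, ep2, ep4, ep2, ep0, ep0, ep0, ep0, ep0],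
   [ep0, ep0, ep0, ep0, ep0, em2, ep0, em2, ep0, ep0, ep2, em2, ep0, ep0, em2, ep2, ep0, ep2, em4, em2, ep2, ep2, ep2, ep2],
   [ep2, ep2, ep2, ep2, em2, ep0, em2, ep0, em2, ep2, ep0, ep0, ep2, ep2, ep0, ep0, em2, ep0, em2, ep4, ep0, ep0, ep0, ep0],
   [ep2, ep2, em2, em2, ep2, ep0, em2, ep0, ep2, ep2, ep0, ep0, em2, ep2, ep0, ep0, em2, ep0, ep2, ep0, ep4, ep0, ep0, ep0],
   [ep2, ep2, em2, em2, em2, ep0, ep2, ep0, em2, em2, ep0, ep0, ep2, ep2, ep0, ep0, ep2, ep0, ep2, ep0, ep0, ep4, ep0, ep0],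
   [ep2, em2, em2, ep2, em2, ep0, ep2, ep0, ep2, ep2, ep0, ep0, ep2, em2, ep0, ep0, em2, ep0, ep2, ep0, ep0, ep0, ep4, ep0],
   [em2, ep2, ep2, ep2, ep2, ep0, ep2, ep0, ep2, ep2, ep0, ep0, ep2, ep2, ep0, ep0, ep2, ep0, ep2, ep0, ep0, ep0, ep0, ep4]]

/-- The packed columns. -/
def t3Cols : List ℤ :=
  [-5954257150996662712290393819679078197084971565323386125426749832410496679878447151398744152099609141445447951428606027497937674549099233284,
   5954257151007493463612062615573489834735260243820155392650724570406958099856012569056582926831707795501629165217933573955866640431919923200,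
   5954257150996662712290403670180627304663753603802776147465308168964165191480340067807076262665779907640481853890028929103872090967742873600,
   5954268507851729831148068503365125554734602879449036894580675636151443679387044705979186773676220695124990491844166897944589982673718476800,
   5954257150996662722619393332026712555708648253343581774421586516975380804372562812039453124939126535964708677069301260069628805106578227200,
   -4697085165543394481707119373417589361728314241397757259991747647326613256996849215436238670017289509555666942,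
   5954268507862560572140718085908804627562629761694343591002466458536692352722723967156777671166199535963439089519900812009852875666410700800,
   -4697085165551938429850803013739758747774415954235522222837410392790098328233362034151778128900391980912082942,
   5954268507851729841477058165211210814738476497692911212090709593188446324854390965636560372225724108446154786103099325607061377278961254400,
   5954268507851729841477068015712759904399300598741719397993716171946570551791621431010944675796976580992237755051818531005051676520559411200,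
   4697085165551938429850803013739758754841804213355487293347636356869515426212294927854562401596886944114016258,
   -4697085165543394481707119373410178668017119264903981929291248800476781546682257695388503819657207266823634942,
   5954268507862560572140727936410353726182432831446220490771255353022285075009507292526182382882982743507574133862455416918370079664085401600,
   5954257151007493463612062615573489843694239212523224083204472768739033964414588976301518958928029835807882698132280754691123295811954278400,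
   -4697085165543394481707111602742020451744642304436592653712913238191138423879133783022589313031374463140102142,
   4697085165543394489855263278748123006023520499414624042823875192916074922529791482994827155740543714806726658,
   5954257151007493453283053252724306386450750910803007874112551726997125090436187315836781201375968952969863565634837855192718536744527462400,
   4697094124530907141067645243516291715262716677324619698346129701397680538897365112817562998012160131052077058,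
   5954268507862560582469717598247044824814190085506050008163901404017860779596329863739654222241734703149208524085116985109397932891072102400,
   9850496852013454251131330174232889711511187043200407431464856643627355104206892624662187343965849502524711324614658,
   10328999512352331443789220082493754616692240760671554977304921646110379033721189822469313392742428057089056507676229369858,
   10830740992659433049925265572360859146399385339433952945312678311632032561696899348406301452589350375019524346678053753172525058,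
   11356855067118857664833189195335236392670127967858718102076952379323493767420565633151365861511296052113110815607594532405371109113858,
   11908525658859223294760121268441763376015611991930869902665682592824147088899767743860525337162178764333323270068487052499388168179575422974]

/-- The images of the generators. -/
def t3Imgs : List (List ℤ) :=
  [[em1, em1, em1, em1, em1, ep1, em1, ep1, em1, em1, ep1, ep1, em1, em1, ep1, ep1, em1, ep1, em1, ep1, ep1, ep1, ep1, em3],
   [ep1, em3, em1, em1, em1, ep1, em1, em1, em1, em1, em1, em1, em1, em1, ep1, ep1, em1, em1, em1, ep1, ep1, ep1, em1, em1],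
   [ep1, em1, em3, em1, em1, ep1, em1, ep1, em1, em1, ep1, em1, em1, em1, em1, ep1, em1, ep1, em1, ep1, em1, em1, em1, em1],
   [ep1, em1, em1, em3, em1, em1, em1, em1, em1, em1, em1, ep1, em1, em1, ep1, ep1, em1, ep1, em1, ep1, em1, em1, ep1, em1],
   [ep1, em1, em1, em1, em3, em1, em1, ep1, em1, em1, ep1, ep1, em1, em1, ep1, ep1, em1, em1, em1, em1, ep1, em1, em1, em1],
   [ep2, ep0, ep0, em2, em2, ep2, ep0, ep0, ep0, ep0, ep0, ep0, em2, em2, ep0, ep0, ep0, ep0, em2, ep0, ep0, ep0, ep0, em2],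
   [ep1, em1, em1, em1, em1, ep1, em3, ep1, em1, em1, em1, ep1, em1, em1, em1, ep1, em1, em1, em1, em1, em1, ep1, ep1, em1],
   [ep2, em2, ep0, em2, ep0, ep0, ep0, ep2, ep0, em2, ep0, ep0, ep0, ep0, ep0, ep0, em2, ep0, em2, ep0, ep0, ep0, ep0, em2],
   [ep1, em1, em1, em1, em1, ep1, em1, ep1, em3, em1, em1, em1, em1, em1, ep1, em1, em1, ep1, em1, em1, ep1, em1, ep1, em1],
   [ep1, em1, em1, em1, em1, ep1, em1, em1, em1, em3, ep1, ep1, em1, em1, em1, em1, em1, em1, em1, ep1, ep1, em1, ep1, em1],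
   [ep2, em2, ep0, em2, ep0, ep0, em2, ep0, em2, ep0, ep2, ep0, ep0, em2, ep0, ep0, ep0, ep0, ep0, ep0, ep0, ep0, ep0, em2],
   [ep2, em2, em2, ep0, ep0, ep0, ep0, ep0, em2, ep0, ep0, ep2, em2, ep0, ep0, ep0, ep0, ep0, em2, ep0, ep0, ep0, ep0, em2],
   [ep1, em1, em1, em1, em1, em1, em1, ep1, em1, em1, ep1, em1, em3, em1, ep1, em1, em1, em1, em1, ep1, em1, ep1, ep1, em1],
   [ep1, em1, em1, em1, em1, em1, em1, ep1, em1, em1, em1, ep1, em1, em3, em1, em1, em1, ep1, em1, ep1, ep1, ep1, em1, em1],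
   [ep2, ep0, em2, ep0, ep0, ep0, em2, ep0, ep0, em2, ep0, ep0, ep0, em2, ep2, ep0, ep0, ep0, em2, ep0, ep0, ep0, ep0, em2],
   [ep2, ep0, ep0, ep0, ep0, ep0, ep0, ep0, em2, em2, ep0, ep0, em2, em2, ep0, ep2, em2, ep0, ep0, ep0, ep0, ep0, ep0, em2],
   [ep1, em1, em1, em1, em1, ep1, em1, em1, em1, em1, ep1, ep1, em1, em1, ep1, em1, em3, ep1, em1, em1, em1, ep1, em1, em1],
   [ep2, em2, ep0, ep0, em2, ep0, em2, ep0, ep0, em2, ep0, ep0, em2, ep0, ep0, ep0, ep0, ep2, ep0, ep0, ep0, ep0, ep0, em2],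
   [ep1, em1, em1, em1, em1, em1, em1, em1, em1, em1, ep1, em1, em1, em1, em1, ep1, em1, ep1, em3, em1, ep1, ep1, ep1, em1],
   [ep2, ep0, ep0, ep0, em2, ep0, em2, ep0, em2, ep0, ep0, ep0, ep0, ep0, ep0, ep0, em2, ep0, em2, ep2, ep0, ep0, ep0, em2],
   [ep2, ep0, em2, em2, ep0, ep0, em2, ep0, ep0, ep0, ep0, ep0, em2, ep0, ep0, ep0, em2, ep0, ep0, ep0, ep2, ep0, ep0, em2],
   [ep2, ep0, em2, em2, em2, ep0, ep0, ep0, em2, em2, ep0, ep0, ep0, ep0, ep0, ep0, ep0, ep0, ep0, ep0, ep0, ep2, ep0, em2],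
   [ep2, em2, em2, ep0, em2, ep0, ep0, ep0, ep0, ep0, ep0, ep0, ep0, em2, ep0, ep0, em2, ep0, ep0, ep0, ep0, ep0, ep2, em2],
   [ep0, ep0, ep0, ep0, ep0, ep0, ep0, ep0, ep0, ep0, ep0, ep0, ep0, ep0, ep0, ep0, ep0, ep0, ep0, ep0, ep0, ep0, ep0, ep0],
   [em2, ep2, ep2, ep2, ep2, ep0, ep2, ep0, ep2, ep2, ep0, ep0, ep2, ep2, ep0, ep0, ep2, ep0, ep2, ep0, ep0, ep0, ep0, ep4],
   [ep3, em1, em1, em1, em1, ep1, em1, ep1, em1, em1, ep1, ep1, em1, em1, ep1, ep1, em1, ep1, em1, ep1, ep1, ep1, ep1, ep1],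
   [ep0, ep0, ep0, ep2, ep0, ep0, ep0, ep0, ep2, ep0, ep2, ep0, ep0, ep0, ep2, ep0, ep0, ep2, ep0, ep0, ep0, ep2, ep2, ep2],
   [ep2, ep0, ep0, ep2, ep0, ep0, ep0, ep0, ep0, ep0, ep0, ep0, ep0, em2, ep2, ep0, em2, ep0, ep0, ep2, ep0, ep2, ep0, ep2],
   [ep1, ep1, em1, ep1, ep1, em1, ep1, ep1, ep1, ep1, ep1, em1, em1, em1, em1, ep1, em1, ep1, ep1, ep1, ep1, ep1, ep1, ep3],
   [ep2, ep0, ep0, ep0, em2, em2, ep0, ep0, ep0, ep0, ep0, ep0, ep0, ep0, ep0, ep0, ep0, ep2, ep0, ep2, ep0, ep2, ep2, ep2],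
   [ep1, ep1, ep1, ep1, em1, em1, em1, ep1, ep1, ep1, ep1, ep1, em1, ep1, ep1, em1, em1, ep1, ep1, ep1, ep1, ep1, em1, ep3],
   [ep2, ep2, ep0, ep0, ep0, ep0, ep0, ep0, ep2, ep0, ep0, ep0, ep0, ep0, ep0, ep0, ep2, ep2, ep0, ep0, ep2, ep2, ep0, ep2],
   [ep2, ep2, ep0, ep2, ep0, ep0, ep0, ep0, ep0, ep0, ep0, ep0, ep2, ep0, ep0, ep2, ep0, ep0, ep0, ep0, ep0, ep2, ep2, ep2],
   [ep3, ep1, ep1, ep1, ep1, em1, em1, ep1, ep1, em1, ep1, em1, em1, ep1, ep1, ep1, em1, ep1, em1, ep1, ep1, ep1, ep1, ep1],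
   [ep2, ep2, ep0, ep0, ep0, ep0, ep0, ep0, em2, ep0, ep0, ep0, ep0, ep0, ep0, ep0, em2, ep2, ep0, ep0, ep2, ep2, ep0, ep2],
   [ep3, ep1, em1, ep1, em1, ep1, em1, em1, ep1, em1, ep1, ep1, ep1, ep1, ep1, em1, em1, ep1, ep1, ep1, ep1, ep1, ep1, ep1],
   [ep2, ep2, ep0, ep0, ep2, ep0, ep0, ep0, ep0, ep0, ep2, ep0, ep0, ep0, ep2, ep0, ep0, ep0, ep2, ep0, ep0, ep2, ep0, ep2],
   [ep2, ep0, ep0, ep2, ep0, ep0, ep2, ep0, ep0, ep0, ep0, ep2, ep0, ep0, ep0, ep0, ep0, ep2, ep2, ep0, ep0, ep2, ep0, ep2]]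

/-- The rows, times eight. -/
def t2Rows : List (List ℤ) :=
  [[em2, ep2, ep2, ep2, ep2, ep0, ep2, ep0, ep2, ep2, ep0, ep0, ep2, ep2, ep0, ep0, ep2, ep0, ep2, ep0, ep0, ep0, ep0, ep4],
   [ep2, ep2, ep2, ep2, em2, ep0, em2, ep0, em2, ep2, ep0, ep0, ep2, ep2, ep0, ep0, em2, ep0, em2, ep4, ep0, ep0, ep0, ep0],
   [ep2, ep2, em2, em2, em2, ep0, ep2, ep0, em2, em2, ep0, ep0, ep2, ep2, ep0, ep0, ep2, ep0, ep2, ep0, ep0, ep4, ep0, ep0],
   [ep2, ep2, em2, ep2, ep2, ep0, em2, ep0, ep2, em2, ep0, ep0, ep2, em2, ep4, ep0, ep2, ep0, em2, ep0, ep0, ep0, ep0, ep0],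
   [ep2, em2, em2, ep2, em2, ep0, ep2, ep0, ep2, ep2, ep0, ep0, ep2, em2, ep0, ep0, em2, ep0, ep2, ep0, ep0, ep0, ep4, ep0],
   [ep0, ep0, ep0, ep0, ep0, ep2, ep0, em2, ep0, ep0, ep2, em2, ep0, ep4, ep2, ep2, ep0, em2, ep0, em2, em2, em2, ep2, em2],
   [ep2, em2, ep2, em2, ep2, ep0, ep2, ep4, ep2, em2, ep0, ep0, ep2, ep2, ep0, ep0, em2, ep0, em2, ep0, ep0, ep0, ep0, ep0],
   [ep0, ep0, ep0, ep0, ep0, em2, ep4, em2, ep0, ep0, ep2, em2, ep0, ep0, ep2, em2, ep0, ep2, ep0, ep2, ep2, em2, em2, em2],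
   [ep2, em2, em2, ep2, ep2, ep0, ep2, ep0, em2, ep2, ep0, ep4, em2, ep2, ep0, ep0, ep2, ep0, em2, ep0, ep0, ep0, ep0, ep0],
   [ep2, ep2, em2, em2, ep2, ep0, em2, ep0, ep2, ep2, ep0, ep0, em2, ep2, ep0, ep0, em2, ep0, ep2, ep0, ep4, ep0, ep0, ep0],
   [ep0, ep0, ep0, ep0, ep0, ep2, ep0, ep2, ep0, ep0, em2, ep2, ep0, ep0, ep2, em2, ep0, em2, ep4, ep2, em2, em2, em2, em2],
   [ep0, ep0, ep0, ep0, ep0, em2, ep0, em2, ep4, ep0, ep2, ep2, ep0, ep0, em2, ep2, ep0, em2, ep0, ep2, em2, ep2, em2, em2],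
   [ep2, ep2, ep2, ep2, ep2, ep0, ep2, ep0, em2, em2, ep0, ep0, em2, em2, ep0, ep4, em2, ep0, ep2, ep0, ep0, ep0, ep0, ep0],
   [ep2, ep2, ep2, em2, em2, ep4, ep2, ep0, ep2, ep2, ep0, ep0, em2, em2, ep0, ep0, ep2, ep0, em2, ep0, ep0, ep0, ep0, ep0],
   [ep0, ep0, ep0, ep4, ep0, ep2, ep0, ep2, ep0, ep0, ep2, em2, ep0, ep0, em2, em2, ep0, em2, ep0, em2, ep2, ep2, em2, em2],
   [ep0, ep0, ep0, ep0, ep0, ep2, ep0, em2, ep0, ep0, em2, ep2, ep4, ep0, em2, ep2, ep0, ep2, ep0, em2, ep2, em2, em2, em2],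
   [ep2, em2, ep2, ep2, em2, ep0, em2, ep0, ep2, em2, ep0, ep0, em2, ep2, ep0, ep0, ep2, ep4, ep2, ep0, ep0, ep0, ep0, ep0],
   [ep0, ep0, ep0, ep0, ep0, em2, ep0, ep2, ep0, ep0, em2, em2, ep0, ep0, em2, ep2, ep4, em2, ep0, ep2, ep2, em2, ep2, em2],
   [ep2, em2, ep2, em2, ep2, ep0, em2, ep0, em2, ep2, ep4, ep0, ep2, em2, ep0, ep0, ep2, ep0, ep2, ep0, ep0, ep0, ep0, ep0],
   [ep0, ep4, ep0, ep0, ep0, em2, ep0, ep2, ep0, ep0, ep2, ep2, ep0, ep0, em2, em2, ep0, ep2, ep0, em2, em2, em2, ep2, em2],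
   [ep0, ep0, ep0, ep0, ep0, em2, ep0, ep2, ep0, ep4, em2, em2, ep0, ep0, ep2, ep2, ep0, ep2, ep0, em2, em2, ep2, em2, em2],
   [ep0, ep0, ep4, ep0, ep0, em2, ep0, em2, ep0, ep0, em2, ep2, ep0, ep0, ep2, em2, ep0, em2, ep0, em2, ep2, ep2, ep2, em2],
   [ep0, ep0, ep0, ep0, ep4, ep2, ep0, em2, ep0, ep0, em2, em2, ep0, ep0, em2, em2, ep0, ep2, ep0, ep2, em2, ep2, ep2, em2],
   [ep4, ep0, ep0, ep0, ep0, em2, ep0, em2, ep0, ep0, em2, em2, ep0, ep0, em2, em2, ep0, em2, ep0, em2, em2, em2, em2, ep2]]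

/-- The packed columns. -/
def t2Cols : List ℤ :=
  [11908525658859223294760121268441763376015611991930869902665682592824147088899767743860525337162178764333323270068487052499388168179575422974,
   9850496852013454251131330174232889711511187043200407431464856643627355104206892624662187343965849502524711324614658,
   10830740992659433049925265572360859146399385339433952945312678311632032561696899348406301452589350375019524346678053753172525058,
   -4697085165543394481707111602742020451744642304436592653712913238191138423879133783022589313031374463140102142,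
   11356855067118857664833189195335236392670127967858718102076952379323493767420565633151365861511296052113110815607594532405371109113858,
   -5954257151007493463612062615573489843694239212523224083204472768739033964414588976301518958928029835807882698132280754691123295811954278400,
   -4697085165551938429850803013739758747774415954235522222837410392790098328233362034151778128900391980912082942,
   -5954268507862560572140718085908804627562629761694343591002466458536692352722723967156777671166199535963439089519900812009852875666410700800,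
   -4697085165543394481707119373410178668017119264903981929291248800476781546682257695388503819657207266823634942,
   10328999512352331443789220082493754616692240760671554977304921646110379033721189822469313392742428057089056507676229369858,
   -5954268507862560582469717598247044824814190085506050008163901404017860779596329863739654222241734703149208524085116985109397932891072102400,
   -5954268507851729841477058165211210814738476497692911212090709593188446324854390965636560372225724108446154786103099325607061377278961254400,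
   4697085165543394489855263278748123006023520499414624042823875192916074922529791482994827155740543714806726658,
   -4697085165543394481707119373417589361728314241397757259991747647326613256996849215436238670017289509555666942,
   -5954268507851729831148068503365125554734602879449036894580675636151443679387044705979186773676220695124990491844166897944589982673718476800,
   -5954268507862560572140727936410353726182432831446220490771255353022285075009507292526182382882982743507574133862455416918370079664085401600,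
   4697094124530907141067645243516291715262716677324619698346129701397680538897365112817562998012160131052077058,
   -5954257151007493453283053252724306386450750910803007874112551726997125090436187315836781201375968952969863565634837855192718536744527462400,
   4697085165551938429850803013739758754841804213355487293347636356869515426212294927854562401596886944114016258,
   -5954257151007493463612062615573489834735260243820155392650724570406958099856012569056582926831707795501629165217933573955866640431919923200,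
   -5954268507851729841477068015712759904399300598741719397993716171946570551791621431010944675796976580992237755051818531005051676520559411200,
   -5954257150996662712290403670180627304663753603802776147465308168964165191480340067807076262665779907640481853890028929103872090967742873600,
   -5954257150996662722619393332026712555708648253343581774421586516975380804372562812039453124939126535964708677069301260069628805106578227200,
   5954257150996662712290393819679078197084971565323386125426749832410496679878447151398744152099609141445447951428606027497937674549099233284]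

/-- The images of the generators. -/
def t2Imgs : List (List ℤ) :=
  [[em3, ep1, ep1, ep1, ep1, ep1, ep1, ep1, ep1, ep1, ep1, ep1, ep1, ep1, ep1, ep1, ep1, ep1, ep1, ep1, ep1, ep1, ep1, ep1],
   [em1, ep1, ep1, ep1, em1, ep1, em1, ep1, em1, ep1, ep1, ep1, ep1, ep1, ep1, ep1, em1, ep1, em1, ep3, ep1, ep1, ep1, em1],
   [em1, ep1, em1, em1, em1, ep1, ep1, ep1, em1, em1, ep1, ep1, ep1, ep1, ep1, ep1, ep1, ep1, ep1, ep1, ep1, ep3, ep1, em1],
   [em1, ep1, em1, ep1, ep1, ep1, em1, ep1, ep1, em1, ep1, ep1, ep1, em1, ep3, ep1, ep1, ep1, em1, ep1, ep1, ep1, ep1, em1],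
   [em1, em1, em1, ep1, em1, ep1, ep1, ep1, ep1, ep1, ep1, ep1, ep1, em1, ep1, ep1, em1, ep1, ep1, ep1, ep1, ep1, ep3, em1],
   [em2, ep0, ep0, ep0, ep0, ep2, ep0, ep0, ep0, ep0, ep2, ep0, ep0, ep2, ep2, ep2, ep0, ep0, ep0, ep0, ep0, ep0, ep2, em2],
   [em1, em1, ep1, em1, ep1, ep1, ep1, ep3, ep1, em1, ep1, ep1, ep1, ep1, ep1, ep1, em1, ep1, em1, ep1, ep1, ep1, ep1, em1],
   [em2, ep0, ep0, ep0, ep0, ep0, ep2, ep0, ep0, ep0, ep2, ep0, ep0, ep0, ep2, ep0, ep0, ep2, ep0, ep2, ep2, ep0, ep0, em2],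
   [em1, em1, em1, ep1, ep1, ep1, ep1, ep1, em1, ep1, ep1, ep3, em1, ep1, ep1, ep1, ep1, ep1, em1, ep1, ep1, ep1, ep1, em1],
   [em1, ep1, em1, em1, ep1, ep1, em1, ep1, ep1, ep1, ep1, ep1, em1, ep1, ep1, ep1, em1, ep1, ep1, ep1, ep3, ep1, ep1, em1],
   [em2, ep0, ep0, ep0, ep0, ep2, ep0, ep2, ep0, ep0, ep0, ep2, ep0, ep0, ep2, ep0, ep0, ep0, ep2, ep2, ep0, ep0, ep0, em2],
   [em2, ep0, ep0, ep0, ep0, ep0, ep0, ep0, ep2, ep0, ep2, ep2, ep0, ep0, ep0, ep2, ep0, ep0, ep0, ep2, ep0, ep2, ep0, em2],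
   [em1, ep1, ep1, ep1, ep1, ep1, ep1, ep1, em1, em1, ep1, ep1, em1, em1, ep1, ep3, em1, ep1, ep1, ep1, ep1, ep1, ep1, em1],
   [em1, ep1, ep1, em1, em1, ep3, ep1, ep1, ep1, ep1, ep1, ep1, em1, em1, ep1, ep1, ep1, ep1, em1, ep1, ep1, ep1, ep1, em1],
   [em2, ep0, ep0, ep2, ep0, ep2, ep0, ep2, ep0, ep0, ep2, ep0, ep0, ep0, ep0, ep0, ep0, ep0, ep0, ep0, ep2, ep2, ep0, em2],
   [em2, ep0, ep0, ep0, ep0, ep2, ep0, ep0, ep0, ep0, ep0, ep2, ep2, ep0, ep0, ep2, ep0, ep2, ep0, ep0, ep2, ep0, ep0, em2],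
   [em1, em1, ep1, ep1, em1, ep1, em1, ep1, ep1, em1, ep1, ep1, em1, ep1, ep1, ep1, ep1, ep3, ep1, ep1, ep1, ep1, ep1, em1],
   [em2, ep0, ep0, ep0, ep0, ep0, ep0, ep2, ep0, ep0, ep0, ep0, ep0, ep0, ep0, ep2, ep2, ep0, ep0, ep2, ep2, ep0, ep2, em2],
   [em1, em1, ep1, em1, ep1, ep1, em1, ep1, em1, ep1, ep3, ep1, ep1, em1, ep1, ep1, ep1, ep1, ep1, ep1, ep1, ep1, ep1, em1],
   [em2, ep2, ep0, ep0, ep0, ep0, ep0, ep2, ep0, ep0, ep2, ep2, ep0, ep0, ep0, ep0, ep0, ep2, ep0, ep0, ep0, ep0, ep2, em2],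
   [em2, ep0, ep0, ep0, ep0, ep0, ep0, ep2, ep0, ep2, ep0, ep0, ep0, ep0, ep2, ep2, ep0, ep2, ep0, ep0, ep0, ep2, ep0, em2],
   [em2, ep0, ep2, ep0, ep0, ep0, ep0, ep0, ep0, ep0, ep0, ep2, ep0, ep0, ep2, ep0, ep0, ep0, ep0, ep0, ep2, ep2, ep2, em2],
   [em2, ep0, ep0, ep0, ep2, ep2, ep0, ep0, ep0, ep0, ep0, ep0, ep0, ep0, ep0, ep0, ep0, ep2, ep0, ep2, ep0, ep2, ep2, em2],
   [ep0, ep0, ep0, ep0, ep0, ep0, ep0, ep0, ep0, ep0, ep0, ep0, ep0, ep0, ep0, ep0, ep0, ep0, ep0, ep0, ep0, ep0, ep0, ep0],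
   [ep4, ep0, ep0, ep0, ep0, em2, ep0, em2, ep0, ep0, em2, em2, ep0, ep0, em2, em2, ep0, em2, ep0, em2, em2, em2, em2, ep2],
   [ep1, ep1, ep1, ep1, ep1, ep1, ep1, ep1, ep1, ep1, ep1, ep1, ep1, ep1, ep1, ep1, ep1, ep1, ep1, ep1, ep1, ep1, ep1, em3],
   [ep2, ep0, ep2, ep2, ep2, ep0, ep0, ep0, ep0, ep0, ep0, em2, ep0, ep0, em2, ep0, ep2, ep0, ep2, ep0, ep0, ep0, ep0, ep0],
   [ep2, ep2, ep2, ep2, ep0, ep2, ep0, ep0, ep0, ep0, ep0, ep0, ep0, ep0, em2, ep0, ep0, ep2, ep0, ep0, ep0, ep0, ep0, em2],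
   [ep3, ep1, ep1, em1, ep1, ep1, ep1, em1, em1, ep1, em1, em1, ep1, em1, em1, ep1, ep1, ep1, ep1, em1, em1, ep1, em1, em1],
   [ep2, ep2, ep2, ep0, ep2, ep0, ep0, ep0, ep0, ep0, ep0, ep0, ep0, em2, ep0, ep0, ep2, ep0, ep0, ep0, ep0, ep0, ep2, em2],
   [ep3, ep1, ep1, ep1, em1, em1, ep1, ep1, ep1, ep1, em1, em1, em1, em1, em1, ep1, ep1, ep1, ep1, em1, em1, em1, ep1, em1],
   [ep2, ep0, ep2, ep0, ep0, ep0, ep0, ep0, ep0, ep2, ep0, em2, ep0, ep0, ep0, ep0, ep2, em2, ep0, em2, ep0, ep0, ep0, em2],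
   [ep2, ep0, ep2, ep0, ep2, ep0, ep0, ep0, ep0, ep0, ep0, ep0, ep2, ep0, em2, em2, ep0, ep0, ep0, em2, ep0, ep0, ep0, em2],
   [ep1, ep1, ep1, ep1, ep1, em1, ep1, ep1, em1, ep1, ep1, em1, ep1, em1, em1, ep1, ep1, ep1, ep1, em1, ep1, em1, em1, em3],
   [ep2, ep0, ep2, ep0, ep0, ep0, ep0, ep0, ep0, ep2, ep0, ep2, ep0, ep0, ep0, ep0, ep2, ep2, ep0, em2, ep0, ep0, ep0, em2],
   [ep1, ep1, ep1, ep1, ep1, em1, em1, ep1, ep1, ep1, em1, em1, em1, ep1, em1, em1, ep1, ep1, ep1, em1, ep1, ep1, ep1, em3],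
   [ep2, ep0, ep2, ep2, ep0, ep0, ep0, ep0, ep0, ep0, em2, ep0, ep0, ep0, ep0, ep0, ep0, ep0, ep2, em2, ep0, ep0, em2, em2],
   [ep2, ep0, ep2, ep0, ep0, ep0, ep0, em2, ep2, ep0, em2, ep0, ep0, ep0, em2, ep0, ep2, ep0, ep0, ep0, ep0, ep0, ep0, em2]]

end Cfsg.Agent.OutCert
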