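import Cfsg.Agent.Lib.Leech.MatEl
import Cfsg.Agent.Lib.StabCert.Chain

/-!
# Certificate data: generators of `M22` and an element of order five of the McLaughlin group

* `m22Perms`, `m22Words`, `m22Chain` : a stabiliser chain of the pointwise stabiliser of `∞`, `0`
* `m22Sups` : code words supported on growing sets of points
* `vRows`, `vTRows` : the matrix of the element of order five
-/

set_option autoImplicit false

namespace Cfsg.Agent.OutCert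

open Leech

/-- The letters as packed permutations. -/
def m22Perms : List ℕ :=
  [0xbd6717b56939461b52507314831040,
   0xbae75734e2a3d8354606b24b222020,
   0xbb1f3aa869a38eb2350694036888a0,
   0xbae957b6289ba44b1cd0524ac18820,
   0xb9df5a1ac32ba448adac50a7042420,
   0xb99b1a25f35144382ed27309541c20,
   0xbac8a69dd2a159333d3585a2818820,
   0xbda8e7a0ed2d4925c46c5267030820,
   0xb9566659eeaa86d21e7044a9148820,
   0xbcd69958b5a44c4829ed621c718820,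
   0xbc12ba18ad946c79b11553dc418820]

/-- Each letter after the third as a word in earlier ones. -/
def m22Words : List (List ℕ) :=
  [[0], [1], [2], [2, 2], [0, 2, 2, 0, 0], [2, 2, 2, 0, 1, 2, 0, 0, 2], [5, 4, 4], [1, 1, 1, 1, 3, 1, 4], [4, 4, 4, 4, 5, 5, 1], [7, 8], [3, 6, 6, 9, 9, 9, 9, 3, 9, 6, 6]]

/-- Level 0. -/
def m22Lev0 : StabCert.Lev :=
  ⟨1, [0, 1, 2, 3, 4, 5, 6, 7, 8, 9, 10], [[], [0], [2], [0, 0], [1, 0], [4, 0], [5, 0], [0, 2], [4, 2], [6, 2], [8, 2], [9, 2], [1, 0, 0], [2, 0, 0], [3, 0, 0], [4, 0, 0], [5, 0, 0], [1, 1, 0], [9, 1, 0], [7, 4, 0], [9, 4, 0], [4, 0, 2]],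
    [(1, []), (3, []), (7, []), (4, [3, 1, 3]), (15, [1, 7]), (12, [9, 1, 6, 9, 7, 9, 6, 6, 10]), (11, [3, 4, 1, 9, 8, 6, 7, 6]), (10, [9, 1, 10, 9, 6, 10]), (20, [5, 5, 6, 9, 7, 3, 10]), (21, [1, 10, 7, 3, 6, 3]), (9, [8, 4, 6, 8, 7, 3, 10]), (2, [8, 6, 1, 6, 7, 10, 9, 6, 10]), (18, [3, 6, 1, 6, 7, 9, 6, 3]), (16, [9, 1, 9, 7, 9, 6, 6, 10, 10]), (0, [4]), (5, [4, 1, 7]), (8, [3, 1, 3, 6, 7, 3, 9, 10, 10]), (14, [5, 1, 6, 10, 7, 9, 6, 3]), (19, [5, 6, 10, 7, 3]), (17, [5, 1, 6, 8, 7, 9, 6, 3, 10, 10]), (6, [1, 8, 8, 10, 6, 3]), (13, [3, 4, 1, 8, 9, 6, 6, 10]), (0, [1]), (4, []), (2, [4, 8, 9, 10]), (12, []), (17, []), (15, [9, 1, 6, 9, 7, 10, 9, 6, 10, 10]), (13, [8, 5, 4, 6, 7, 6, 6, 10]), (9, [1, 1, 8, 8, 9, 6, 6, 10, 10]), (11, [4, 1, 8, 6, 7, 6, 6, 10]), (6, [9, 1, 9, 8, 6, 7, 10, 9, 6, 10]), (16, [5, 1, 7, 9, 10]), (20, [4, 3, 6, 7, 10, 6, 3, 10, 10]), (18, [8, 4, 8,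 7, 10, 6, 3, 10]), (21, [8, 5, 4, 3, 6, 7, 9, 6, 6, 10]), (19, [7, 4, 8, 3, 10, 10]), (1, [9, 1, 10, 7, 10, 9, 6]), (8, [3, 1, 6, 7, 6, 10]), (5, [3, 4, 1, 8, 9, 10]), (14, [1, 3, 5, 3, 6, 8, 7, 9, 6, 3, 10, 10]), (3, [7, 4, 7, 3]), (10, [3, 1, 8, 3, 6, 7, 10, 6, 6]), (7, [8, 5, 4, 3, 6, 7, 3, 6, 3]), (2, []), (1, [8, 6, 1, 8, 3, 6, 7, 6, 10]), (0, [3]), (13, []), (17, [8, 6, 1, 8, 3, 6, 7, 6, 10]), (4, [7, 4, 3, 8, 7, 9, 10, 10]), (12, [9, 4, 9, 8, 6, 7, 9, 6, 10]), (18, [8, 7, 3, 6]), (16, [5, 1, 6, 10, 7, 10, 9, 6, 10, 10]), (19, [7, 4, 9, 8, 6, 7, 6, 6, 10]), (8, [1, 10, 7, 3, 9, 10, 10]), (11, [8, 6, 7, 6, 3, 10]), (7, [4, 6, 9, 7, 9, 10]), (14, []), (21, [8, 5, 4, 8, 8, 9]), (5, [8, 5, 4, 9, 8, 6, 7, 10, 6, 6, 10]), (20, [9, 4, 7, 9, 7, 10, 6, 6]), (15, [1, 3, 5, 9, 7, 3, 6, 10]), (6, [7, 4, 9, 8, 6, 7, 3, 9, 10, 10]), (9, [5, 3, 8, 7, 9, 6, 10, 10]), (10, [7, 4, 7,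 9, 6, 6]), (3, [1, 8, 3, 6, 7, 10, 9, 6, 10]), (0, [3]), (1, [1, 1, 7]), (2, [3]), (14, []), (15, [1, 8, 3, 10, 10]), (17, [1, 8, 9, 10]), (7, [5, 1, 8, 7, 9, 6, 3, 10, 10]), (6, [7, 4, 7, 9, 7, 6, 3, 10]), (20, [3, 1, 6, 8, 6, 7, 3]), (9, [6, 10]), (16, [4, 7, 9, 7, 3, 6, 3]), (11, [3, 6, 10]), (18, [8, 4, 8, 8, 9, 9, 6]), (21, [8, 5, 4, 8, 8, 9]), (3, []), (4, [9, 1, 6, 9, 7, 9, 6, 6, 10]), (10, [5, 4, 6, 9, 7, 6, 10]), (5, [5, 1, 6, 10, 7, 9, 6, 3]), (12, [1, 3, 5, 3, 6, 8, 7, 9, 6, 3, 10, 10]), (19, [3, 4, 1, 8, 9, 10]), (8, [3, 6, 1, 6, 8, 6, 7, 6, 3]), (13, [1, 8, 3, 6, 7, 10, 9, 6, 10]), (0, [4]), (5, []), (8, []), (15, []), (14, [1, 8, 3, 10, 10]), (18, [1, 1, 6, 10, 7, 10, 6, 6]), (7, [3, 6, 1, 10, 6, 7, 3, 6, 3]), (21, []), (10, [5, 4, 10, 9, 6]), (13, [3, 4, 1, 8, 6, 7, 6, 3, 10, 10]), (16, [3, 1, 6, 9, 7, 10, 9, 6]), (11, [9, 4, 9, 7, 6, 10, 10]), (17, [3, 1,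 8, 3, 10, 10]), (6, [5, 1, 9, 8, 6, 7, 3, 6, 10]), (3, [5, 1, 8, 6, 7, 3, 6, 10]), (19, [3, 1, 7, 3]), (20, [3, 1, 9, 7, 3]), (1, [4, 8, 3, 10, 10]), (12, [3, 5, 10, 7, 3, 6, 10, 10]), (4, []), (2, [6, 1, 6, 8, 6, 7, 6, 3]), (9, [1, 3, 5, 3, 8, 7, 9, 6, 10, 10]), (0, [5]), (6, []), (3, [8, 4, 6, 9, 7, 6]), (16, []), (12, [9, 1, 6, 8, 7, 10, 6, 3, 10]), (13, [8, 5, 4, 9, 7, 3]), (11, [4, 3, 6, 7, 6, 3]), (21, [5, 1, 8, 7, 9, 10]), (10, [5, 6, 8, 6, 7, 6, 3, 10, 10]), (20, [1, 1, 3, 6, 7, 10, 6, 3]), (9, [5, 6, 8, 6, 7, 6, 6]), (2, [9, 1, 6, 10, 7, 6, 6, 10, 10]), (5, [3, 4, 1, 8, 7, 10, 6, 3]), (17, [4, 10, 6, 7, 10, 9, 6, 10, 10]), (19, [8, 4, 6, 8, 7, 3, 6, 3, 10, 10]), (8, [1, 1, 8, 8, 3, 6, 3, 10]), (18, [8, 4, 3, 6, 8, 7, 3, 6, 3, 10, 10]), (14, [4, 1, 10, 7, 9, 6, 3]), (1, [7, 4, 6, 9, 7, 9, 6, 6, 10, 10]), (4, [1, 10, 7, 9]), (7, [5, 8, 3, 6, 7, 10, 9, 6, 10]), (15,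 [5, 3, 6, 8, 7, 9, 6, 6, 10]), (0, [6]), (1, [3, 4, 1, 3, 6, 8, 7, 6, 6, 10]), (9, []), (4, [3, 5, 3, 6, 8, 7, 9, 6, 3, 10, 10]), (16, [4, 1, 3]), (5, [5, 1, 3, 8, 7, 9, 6]), (15, [7, 4, 3, 6, 7, 6, 6]), (20, [4, 8, 3, 6, 7, 9, 10]), (18, [8, 4, 9, 8, 6, 7, 3, 6, 3, 10, 10]), (11, [3, 9, 10, 10]), (7, [8, 5, 4, 6, 8, 6, 7, 6, 10]), (2, [3, 9, 10, 10]), (6, [3, 1, 7, 3]), (21, [9, 4, 3, 6, 8, 7, 6, 6]), (8, [3, 5, 6, 10, 7, 6, 10]), (12, [8, 6, 1, 3, 8, 7, 3, 6, 3, 10, 10]), (3, [8, 4, 8, 7, 9, 6, 3, 10]), (13, [1, 3, 5, 8, 8, 10, 6, 6]), (14, [1, 3, 5, 3, 6, 8, 7, 9, 6, 10]), (19, [9, 1, 7, 9, 7, 3, 9, 10, 10]), (10, [4, 1, 9, 7, 3, 6]), (17, [9, 1, 8, 3, 6, 7, 10]), (0, [7]), (1, [1, 8, 9, 10]), (8, [1, 3]), (15, [8, 9, 10]), (14, [3, 4, 1, 7, 3]), (19, []), (7, [5, 1, 6, 7, 10, 9, 6, 10, 10]), (9, [9, 1, 3, 8, 7, 6, 6, 10]), (20, [1, 8, 3, 6, 7, 9, 6, 10]), (6, [5, 1,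 8, 7, 9, 9, 6, 10]), (11, []), (16, [4, 7, 9, 7, 10, 6, 3, 10, 10]), (4, [7, 4, 8, 3, 10, 10]), (13, [3, 4, 1, 8, 3, 9]), (12, [3, 1, 8, 9, 10]), (18, [5, 4, 6, 8, 7, 9, 9, 6]), (10, [9, 1, 7, 6, 10, 10]), (5, [1, 1, 7]), (3, [1, 3, 5, 6, 10, 7, 3, 6, 3]), (17, [1, 1, 7]), (2, [9, 4, 7, 9, 9, 6, 10]), (21, [1, 1, 8, 7, 10, 10]), (0, [8]), (1, [3, 6, 1, 6, 7, 3, 6, 3, 10]), (10, []), (9, [9, 1, 9, 8, 6, 7, 6, 6, 10]), (15, [3, 5, 10, 7, 3, 6, 10, 10]), (8, [5, 5, 7, 9, 7, 9, 6, 10, 10]), (4, [8, 6, 1, 7, 9, 7, 9, 9, 6, 10]), (6, [3, 5, 6, 8, 7, 9, 6, 10, 10]), (14, [6, 1, 8, 3, 6, 7, 10, 6, 3]), (20, [7, 4, 8, 6, 7, 10, 6, 6, 10]), (17, [3, 1, 9, 8, 6, 7, 9, 10, 10]), (7, [8, 5, 4, 6, 8, 6, 7, 9, 6, 3]), (13, [8, 4, 3, 6, 8, 7, 10]), (2, [5, 3, 6, 8, 7, 10, 6, 3, 10]), (18, [5, 5, 8, 6, 7, 3, 6, 3, 10, 10]), (11, [4, 9, 8, 6, 7, 9, 6, 10]), (21, [9, 4, 3, 6, 7, 9, 6, 3, 10,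 10]), (12, [7, 4, 6, 8, 6, 7, 10, 6, 3]), (19, [5, 4, 7, 3, 9]), (5, [1, 7, 9, 7, 10, 9, 6, 10, 10]), (16, [5, 5, 9, 7, 9, 6, 10]), (3, [9, 4, 8, 3, 6, 7, 10, 6, 3, 10]), (0, [9]), (1, [9, 4, 9, 7, 3, 9]), (11, []), (6, [5, 4, 6, 7, 9, 9, 6, 10, 10]), (18, []), (20, []), (14, [1, 3, 5, 8, 6, 7, 9, 6]), (7, [6, 1, 7, 6, 10]), (12, [9, 4, 6, 10, 7, 9]), (2, [9, 9, 6, 10, 10]), (5, [7, 4, 9, 8, 6, 7, 9, 10, 10]), (9, [9, 9, 6, 10, 10]), (13, [1, 3, 6, 7, 10]), (8, [1, 3, 5, 3, 6, 8, 7, 10, 6, 3, 10]), (3, [8, 6, 1, 7, 6, 10]), (16, [5, 7, 6]), (21, [9, 4, 8, 8, 10, 6, 6]), (4, [3, 4, 1, 6, 8, 7, 10, 9, 6]), (17, [3, 5, 10, 7, 10, 10]), (19, [1, 7, 9, 7, 10, 9, 6, 10, 10]), (10, [8, 4, 7, 3, 10]), (15, [8, 5, 4, 3, 6, 7, 10, 6, 6, 10, 10]), (0, [10]), (1, [8, 8, 9, 9, 6, 10, 10]), (11, [3]), (3, [8, 6, 1, 7, 6, 10]), (16, [1, 3, 5, 7, 9, 9, 6, 10]), (4, [4, 6, 3]), (7, [1, 1,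 10, 7, 6, 6, 10, 10]), (14, [7, 4, 9, 8, 6, 7, 6, 10]), (10, [9, 1, 10, 7, 3, 9, 10]), (2, [10, 6, 3]), (21, [1, 3, 5, 6, 10, 7, 9, 9, 6, 10]), (9, [6, 6, 10, 10]), (17, [6, 1, 8]), (15, [8, 6, 1, 10, 7, 3, 6, 10, 10]), (6, [5, 4, 6, 7, 9, 9, 6, 10, 10]), (18, [9, 1, 6, 9, 7, 9, 6, 6, 10]), (5, [4, 10, 6, 3]), (20, [5, 1, 6, 10, 7, 9, 6, 3]), (13, [9, 1, 6, 8, 7, 6, 3, 10, 10]), (19, [3, 6, 1, 7, 9, 7, 9]), (12, [9, 1, 3, 8, 7, 3, 6, 3, 10, 10]), (8, [3, 1, 10, 7, 10, 6, 3, 10, 10])]⟩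

/-- Level 1. -/
def m22Lev1 : StabCert.Lev :=
  ⟨2, [1, 3, 4, 5, 6, 7, 8, 9, 10], [[], [1], [4], [5], [1, 1], [3, 1], [4, 1], [5, 1], [6, 1], [9, 1], [5, 4], [7, 4], [8, 4], [9, 4], [3, 5], [5, 5], [3, 4, 1], [3, 6, 1], [8, 6, 1], [8, 5, 4], [1, 3, 5]],
    [(1, []), (4, []), (5, [7]), (10, [6, 8, 6, 7, 9, 10, 10]), (2, [8, 9, 10]), (0, [3]), (11, [7, 3]), (9, [6, 8, 7, 6, 6, 10]), (12, [8, 8, 6, 3, 10, 10]), (6, [3, 6, 8, 7, 6, 6, 10]), (18, [8, 7, 9, 6, 10]), (16, [8, 3, 10, 10]), (15, [6, 9, 7, 9, 9, 6]), (17, [6, 10, 7, 3, 6, 10, 10]), (20, []), (13, [10, 9, 6, 10]), (7, [6, 8, 7, 6, 6, 10]), (8, [10, 6, 7, 3, 6, 3, 10, 10]), (14, [3, 8, 7, 6, 10]), (19, [7, 9, 7]), (3, [3, 6, 10]), (0, [3]), (5, []), (4, [7]), (14, []), (2, [8, 3, 10, 10]), (1, []), (16, []), (9, [9, 8, 6, 7, 9, 9, 6, 10]), (17, []), (7, [9, 8, 6, 7, 9, 10]), (18, [8, 7, 10, 9, 6]), (11, [8, 9, 10]),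 (13, [8, 7, 3, 9, 10]), (12, [8, 7, 3, 9, 10]), (3, []), (15, [8, 3, 6, 7, 10, 10]), (6, []), (8, []), (10, [10, 6, 7, 3, 10]), (19, [7, 9, 7, 10, 6, 3]), (20, [3, 6, 10]), (2, []), (6, []), (9, [6, 8, 6, 7, 3, 6, 10, 10]), (14, [8, 6, 7, 9, 6]), (0, [7, 3]), (11, [8, 9, 10]), (16, [8, 9, 10]), (4, [8, 8, 6, 6, 10, 10]), (13, [6, 7, 3]), (7, [9, 8, 6, 7, 9, 6, 3, 10, 10]), (3, [6, 7, 6, 10, 10]), (1, []), (17, [7, 9, 7, 9, 6, 10, 10]), (19, [6, 8, 6, 7, 6]), (18, [6, 9, 7, 3]), (15, [8, 9, 6]), (5, []), (8, [7, 9, 7, 10, 6, 3]), (20, [8, 6, 7, 3, 10, 10]), (12, [6, 8, 7, 3, 6, 3, 10, 10]), (10, [3, 8, 7, 3, 10, 10]), (3, []), (7, []), (10, []), (15, []), (6, [10, 6, 7, 9, 9, 6, 10]), (12, [8, 10, 6, 3, 10]), (11, [10, 7, 10, 6, 6, 10]), (2, [8]), (9, [6, 9, 7, 3, 6, 3, 10, 10]), (0, [9, 8, 6, 7, 3, 6, 10, 10]), (4, [9, 7, 3, 6, 3, 10, 10]), (1, [7, 9, 7, 6, 10, 10]), (17,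 [3, 6, 7, 9]), (14, [3, 8, 7, 9, 6, 3, 10]), (18, [7, 6, 6]), (19, [9, 7, 6, 6, 10, 10]), (8, [8, 9, 10]), (20, [8, 8, 3, 6, 10, 10]), (5, [9, 8, 6, 7, 9, 9, 6, 10]), (16, [10, 6, 7, 9, 6, 3, 10, 10]), (13, [7, 9, 7, 6, 6, 10]), (0, [6]), (8, []), (2, [6, 10, 7, 9, 6, 6, 10, 10]), (5, [10, 7, 10]), (10, [7, 3]), (7, [8, 9, 10]), (12, [8, 7, 6]), (3, [8, 6, 7, 9, 6, 6, 10]), (16, [6, 9, 7, 9, 6, 3, 10, 10]), (6, [9, 6, 6, 10, 10]), (18, [10, 7, 6, 3]), (11, [10, 7, 10, 6, 6, 10]), (9, [6, 9, 7, 6, 3, 10]), (17, [6, 10, 7, 10, 9, 6, 10]), (13, [8, 6, 7, 6, 6]), (19, [6, 9, 7]), (1, [6, 10, 7, 6, 6, 10]), (14, [6, 9, 7, 9, 6]), (4, [3, 6, 3, 10, 10]), (20, [3, 6, 8, 7, 10, 6, 3]), (15, [6, 9, 7, 10, 6, 3, 10]), (0, [7]), (6, [3]), (11, []), (14, [8, 6, 7, 10, 9, 6, 10, 10]), (2, [3]), (9, [6, 9, 7, 10, 9, 6, 10, 10]), (7, [6, 10, 7, 9, 6, 3]), (1, [10, 7, 9]), (17, [6, 10,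 7, 9, 6, 3, 10, 10]), (16, [6, 8, 7, 3, 10, 10]), (10, [10, 6, 7, 6, 3, 10]), (4, [3]), (13, []), (19, [6, 8, 7, 9, 6, 10]), (20, [6, 9, 7, 3, 9]), (8, [10, 6, 3, 10]), (5, [3]), (15, [8, 3, 6, 7, 9, 6, 6, 10, 10]), (18, [8, 7, 6]), (12, [3, 8, 7, 6]), (3, [3, 8, 7, 3, 9]), (0, [8]), (5, [3, 6, 8, 7, 3, 10, 10]), (12, []), (1, [8, 9, 6, 3, 10]), (7, [7, 3, 6, 10, 10]), (15, [8, 3, 6, 7, 9, 6, 3, 10, 10]), (9, [8, 6, 7, 9]), (10, [6, 8, 7, 6, 3, 10]), (18, []), (11, [3, 8, 7, 3, 6, 3, 10, 10]), (19, []), (2, [8, 6, 10]), (6, [8, 8, 9, 6, 6, 10]), (8, [7, 9, 7, 10, 6, 3]), (3, [6, 8, 7, 6, 6, 10]), (14, [3, 6, 8, 7, 6, 3, 10, 10]), (20, [6, 7, 6, 10, 10]), (4, [6, 9, 7, 6, 3]), (16, [8, 8, 10, 6, 6]), (17, [8, 8, 9, 6, 10, 10]), (13, [7, 6, 6, 10, 10]), (0, [9]), (9, []), (13, []), (6, [7, 9, 6, 6]), (1, [6, 8, 7, 9, 6, 6, 10]), (8, [6, 10, 7, 3]), (16, [6, 9, 7, 10, 6, 6,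 10, 10]), (10, [6, 8, 7, 3, 10]), (18, [8, 7, 6]), (4, [8, 7, 3, 6, 3, 10, 10]), (12, [3, 8, 7, 6]), (11, [8, 6, 10]), (7, [3, 6, 3, 10]), (17, [7, 9, 6, 3, 10, 10]), (14, [8, 8, 9, 9, 6, 10, 10]), (20, [10, 7, 6, 6, 10]), (3, [6, 9, 7, 3, 9, 10]), (2, [6, 10, 7, 6, 3]), (5, [10, 7, 9, 6]), (15, [3, 6, 7, 3, 9]), (19, [8, 6, 3, 10]), (0, [10]), (8, [6, 10, 7, 3]), (1, [6, 10, 7, 10, 9, 6, 10]), (14, [8, 8, 9, 9, 6, 10, 10]), (13, [8, 3, 10, 10]), (9, []), (3, [6, 9, 7, 3, 9, 10]), (4, [9, 7, 9, 6, 6]), (2, [6, 10, 7, 6, 3]), (10, [6, 9, 7, 6, 3]), (5, [7, 6, 6, 10]), (11, [3, 6, 7, 3, 6, 3]), (17, [8, 10, 9, 6, 10]), (7, [7, 9, 6, 10, 10]), (6, [7, 9, 6, 6]), (20, [3, 6, 7, 6, 10]), (16, [6, 9, 7, 10, 6, 6, 10, 10]), (18, [8, 7, 6]), (12, [9, 7]), (15, [3, 6, 8, 7, 9, 6, 3, 10, 10]), (19, [8, 9, 10, 10])]⟩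

/-- Level 2. -/
def m22Lev2 : StabCert.Lev :=
  ⟨3, [3, 6, 7, 8, 9, 10], [[], [7], [8], [6, 7], [8, 7], [9, 7], [10, 7], [8, 8], [3, 6, 7], [8, 6, 7], [10, 6, 7], [3, 8, 7], [6, 8, 7], [6, 9, 7], [7, 9, 7], [6, 10, 7], [8, 3, 6, 7], [6, 8, 6, 7], [9, 8, 6, 7], [3, 6, 8, 7]],
    [(0, [3]), (2, [9, 10]), (1, [3, 9]), (8, []), (11, []), (10, [6]), (7, [10, 6, 3, 10, 10]), (6, [9, 6, 6, 10, 10]), (3, []), (9, [9, 6, 3]), (5, [6, 6]), (4, []), (19, []), (15, []), (16, [6]), (13, []), (14, [6, 6]), (17, [6, 3, 10]), (18, [10, 6, 6, 10]), (12, []), (0, [6]), (3, []), (2, [3, 6, 10, 10]), (8, [6, 6]), (12, []), (13, []), (15, []), (11, [6, 3, 10, 10]), (1, [6]), (17, []), (4, [3, 10]), (14, [9, 9, 6, 10, 10]), (10, [3, 9, 10]), (16, [6, 6, 10]), (7, [3, 6]), (19, [10, 6, 3]), (5, [10, 6, 6, 10, 10]), (18, [3, 6, 10]), (9, [3, 6, 10]), (6, [10, 6, 3]), (1, []), (2, [3, 10, 10]),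 (0, [9]), (3, [9, 6, 10]), (5, []), (14, []), (9, [10, 9, 6, 10]), (6, [3, 9]), (8, [3, 6]), (7, [9, 9, 6, 10, 10]), (11, [6, 6]), (16, [6]), (19, [10, 6, 3]), (15, [6, 10]), (4, []), (18, [9, 9, 6, 10]), (10, []), (12, [3, 10]), (13, [9]), (17, [6]), (2, []), (4, []), (7, []), (9, []), (3, [6, 6, 10, 10]), (10, [6, 3, 10]), (13, [10, 6, 6, 10, 10]), (14, [3, 6, 3]), (16, []), (15, [3, 6, 3, 10, 10]), (18, [9, 9, 6]), (0, [3, 9, 10]), (5, [6, 3]), (8, [3, 6, 3]), (11, [10, 6, 6]), (1, [3, 6]), (17, [10, 6, 6]), (6, [9, 6, 10]), (19, [6, 3, 10, 10]), (12, [3, 9, 10]), (0, [9]), (5, []), (6, [3, 9]), (7, [9, 9, 6, 10, 10]), (3, [3, 6, 3, 10, 10]), (11, [3, 10]), (15, [6, 6]), (4, [3, 6, 3]), (10, []), (18, []), (13, [6]), (1, [3, 9, 10]), (14, [6, 3]), (8, [6, 6]), (16, [10, 6, 6, 10, 10]), (2, [9, 6, 6, 10, 10]), (12, [3, 6, 10]), (9, [9, 6]), (17, [9, 6]), (19, [9, 6, 10,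 10]), (0, [10]), (6, []), (5, [3, 9]), (10, []), (1, [3, 9, 10]), (13, [6, 6]), (4, [3, 10]), (15, [10, 9, 6, 10]), (7, [9, 9, 6, 10, 10]), (18, [9, 6, 3]), (11, [9, 9, 6, 10]), (3, [3, 6, 3, 10, 10]), (19, [9, 6, 10, 10]), (2, [9, 6, 6, 10, 10]), (12, [3, 10, 10]), (8, [6, 6]), (16, [10, 10]), (9, [9, 9, 6, 10, 10]), (17, [3, 6, 3, 10]), (14, [6, 3])]⟩

/-- Level 3. -/
def m22Lev3 : StabCert.Lev :=
  ⟨4, [3, 6, 9, 10], [[], [3], [6], [9], [6, 3], [3, 6], [6, 6], [9, 6], [3, 9], [3, 6, 3], [9, 6, 3], [10, 6, 3], [9, 6, 6], [10, 6, 6], [9, 9, 6], [10, 9, 6]],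
    [(1, []), (0, []), (5, []), (8, []), (9, []), (2, []), (11, [10]), (10, []), (3, []), (4, []), (7, []), (6, [10, 10]), (15, [10]), (14, [10]), (13, [10, 10]), (12, [10, 10]), (2, []), (4, []), (6, []), (5, [10]), (7, [10]), (10, [10]), (0, []), (1, [10, 10]), (9, [10]), (11, [10]), (3, [10]), (8, [10]), (14, []), (13, [10, 10]), (15, [10, 10]), (12, [10]), (3, []), (0, [10]), (7, []), (1, [10, 10]), (10, []), (6, [10, 10]), (12, []), (14, []), (8, [10]), (11, []), (15, []), (13, [10, 10]), (5, [10]), (9, [10]), (2, []), (4, []), (0, [10]), (3, []), (6, [10, 10]), (8, [10]), (11, []), (7, []), (13, []), (15, []), (1, [10, 10]), (10, []), (14, []), (12, [10, 10]), (4, [10]), (2, [10]), (9, []), (5, [])]⟩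

/-- Level 4. -/
def m22Lev4 : StabCert.Lev :=
  ⟨5, [10], [[], [10], [10, 10]],
    [(1, []), (2, []), (0, [])]⟩

/-- The chain. -/
def m22Chain : List StabCert.Lev :=
  [m22Lev0, m22Lev1, m22Lev2, m22Lev3, m22Lev4]

/-- Code words supported on the growing sets. -/
def m22Sups : List (List ℕ) :=
  [[0x810366],
   [0x843039, 0x5335f],
   [0xc12017, 0x45102e, 0xc630cf, 0x87210c, 0x433244, 0x70447, 0x3380b],
   [0xc75001, 0x49f002, 0xd4b004, 0x6e3008, 0x9b3010, 0xb66020, 0xecc040, 0x1ed080, 0x3da100, 0x7b4200, 0xb1d400, 0xe3a800]]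

/-- The rows, times eight. -/
def vRows : List (List ℤ) :=
  [[ep6, ep0, ep0, em2, em2, ep2, ep0, ep0, ep0, ep0, ep0, ep0, em2, em2, ep0, ep0, ep0, ep0, em2, ep0, ep0, ep0, ep0, ep2],
   [ep2, ep0, ep0, ep2, ep2, ep6, ep0, ep0, ep0, ep0, ep0, ep0, ep2, ep2, ep0, ep0, ep0, ep0, ep2, ep0, ep0, ep0, ep0, em2],
   [ep0, em2, ep2, ep0, ep0, ep0, ep2, em2, ep2, em2, ep2, ep2, ep0, ep0, ep2, ep2, ep2, em2, ep0, em2, em2, ep2, ep2, ep0],
   [ep0, ep2, ep2, ep0, ep0, ep0, em2, ep2, ep2, ep2, ep2, em2, ep0, ep0, ep2, ep2, em2, ep2, ep0, em2, em2, em2, ep2, ep0],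
   [ep0, ep2, em2, ep0, ep0, ep0, ep2, ep2, ep2, em2, em2, ep2, ep0, ep0, em2, ep2, ep2, ep2, ep0, em2, ep2, em2, ep2, ep0],
   [ep0, em2, em2, ep0, ep0, ep0, em2, ep2, em2, em2, ep2, ep2, ep0, ep0, ep2, ep2, em2, ep2, ep0, ep2, ep2, ep2, ep2, ep0],
   [ep0, em2, em2, ep0, ep0, ep0, ep2, ep2, ep2, ep2, ep2, em2, ep0, ep0, ep2, em2, ep2, ep2, ep0, em2, ep2, ep2, em2, ep0],
   [em2, ep0, ep0, em2, em2, ep2, ep0, ep0, ep0, ep0, ep0, ep0, ep6, em2, ep0, ep0, ep0, ep0, em2, ep0, ep0, ep0, ep0, ep2],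
   [ep0, em2, ep2, ep0, ep0, ep0, ep2, em2, ep2, ep2, ep2, ep2, ep0, ep0, em2, ep2, em2, ep2, ep0, ep2, ep2, em2, em2, ep0],
   [ep0, em2, ep2, ep0, ep0, ep0, ep2, ep2, em2, ep2, em2, em2, ep0, ep0, em2, ep2, ep2, ep2, ep0, ep2, em2, ep2, ep2, ep0],
   [em2, ep0, ep0, em2, em2, ep2, ep0, ep0, ep0, ep0, ep0, ep0, em2, em2, ep0, ep0, ep0, ep0, ep6, ep0, ep0, ep0, ep0, ep2],
   [em2, ep0, ep0, em2, ep6, ep2, ep0, ep0, ep0, ep0, ep0, ep0, em2, em2, ep0, ep0, ep0, ep0, em2, ep0, ep0, ep0, ep0, ep2],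
   [ep0, ep2, ep2, ep0, ep0, ep0, ep2, ep2, em2, em2, ep2, ep2, ep0, ep0, ep2, em2, ep2, ep2, ep0, ep2, em2, em2, em2, ep0],
   [ep0, ep2, em2, ep0, ep0, ep0, em2, em2, ep2, ep2, ep2, ep2, ep0, ep0, em2, em2, ep2, ep2, ep0, ep2, em2, ep2, ep2, ep0],
   [ep0, ep2, em2, ep0, ep0, ep0, ep2, em2, em2, ep2, ep2, em2, ep0, ep0, ep2, ep2, ep2, em2, ep0, ep2, ep2, em2, ep2, ep0],
   [ep0, ep2, ep2, ep0, ep0, ep0, em2, em2, em2, ep2, em2, ep2, ep0, ep0, ep2, ep2, ep2, ep2, ep0, em2, ep2, ep2, em2, ep0],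
   [ep0, em2, ep2, ep0, ep0, ep0, em2, ep2, ep2, ep2, em2, ep2, ep0, ep0, ep2, em2, ep2, em2, ep0, ep2, ep2, em2, ep2, ep0],
   [em2, ep0, ep0, em2, em2, ep2, ep0, ep0, ep0, ep0, ep0, ep0, em2, ep6, ep0, ep0, ep0, ep0, em2, ep0, ep0, ep0, ep0, ep2],
   [ep0, ep2, ep2, ep0, ep0, ep0, ep2, ep2, em2, ep2, ep2, ep2, ep0, ep0, em2, em2, em2, em2, ep0, em2, ep2, ep2, ep2, ep0],
   [ep0, ep2, em2, ep0, ep0, ep0, ep2, ep2, ep2, ep2, em2, ep2, ep0, ep0, ep2, ep2, em2, em2, ep0, ep2, em2, ep2, em2, ep0],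
   [ep0, ep2, ep2, ep0, ep0, ep0, em2, ep2, ep2, em2, ep2, em2, ep0, ep0, em2, ep2, ep2, em2, ep0, ep2, ep2, ep2, em2, ep0],
   [ep0, ep2, ep2, ep0, ep0, ep0, ep2, em2, ep2, em2, em2, em2, ep0, ep0, ep2, em2, em2, ep2, ep0, ep2, ep2, ep2, ep2, ep0],
   [em2, ep0, ep0, ep6, em2, ep2, ep0, ep0, ep0, ep0, ep0, ep0, em2, em2, ep0, ep0, ep0, ep0, em2, ep0, ep0, ep0, ep0, ep2],
   [ep2, ep0, ep0, ep2, ep2, em2, ep0, ep0, ep0, ep0, ep0, ep0, ep2, ep2, ep0, ep0, ep0, ep0, ep2, ep0, ep0, ep0, ep0, ep6]]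

/-- The packed columns. -/
def vCols : List ℤ :=
  [5954257151002078087951228217626284015910115904571770759038737201408727389867229860227663539465658468473538558323269800726902157490513772550,
   5415375660834397951902903990687733730091752985404958359959024230180466088911135013375940285087456110100011898981772450970206208,
   5415375660824547450353805370893207918210392951600288915338614162617154002663305607752993418334266342426980887606596375001694208,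
   5954279864712212325666557883995280516051814455864292237728120997977451784844983403912767482935993273584962332152069996544962580446814666750,
   5954257151002078087951228217626284015910115904571770759038737201408727403347203193802983436799166011983353895141842011997188398042318897150,
   -5954257151002078087951228217626284015910115904571770759038737201408727389867229860227663539465658468473538558323269800726902157490505383934,
   5415365331834885604268545367011045709896111761236432004280001917398418745204205354714912247304853102512866757549813028154769408,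
   -5415365331825035093325276416112643046461297375973168991677238091129236051807237472474326623696492876362188257675321772334907392,
   5415375660834397942508733659600944758529362562563677082223517552406920167556713437070666405576313620857692837233188299350212608,
   -5415375660824547440959635039789331050360643018775416373937423004887951051408853526410519391854926039518206144791426262412296192,
   -5415365331834885594874375035924256754630009149071039416692060746899898112261519235724029715025664612347609380413300000205832192,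
   -5415375660824547440959635039789331050360650789450985269786318423622041033281272256529756975853370480399032882427944124800827392,
   5954257151002078087951228217626284015910115904571770759038737201408727389867229860227663539465669618846137823634840568586038481671266762750,
   5954257151002078087951228217626284033828073841994204443498275445956281614840393838104859818665571276183873527764557363773922103663370698750,
   5415365331834885594874375035924256754630016919746608326675732683861062718540353644859504558777214152235716139907975265185169408,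
   -5415365331825035102719446747216519898014751727446583947081968322849323732777511982356974424498743480355751117713570811757985792,
   -5415365331834885604268545367011045709896103990560863094296329980437254126665406618652326536686537486617416957606891762789384192,
   5415365331825035093325276416112643046461289605297600095828342672395146082194783069282199917198648618963161981442536610419703808,
   5954257151002078087951228217626284015910115904571770759038737201408727389867242715732017611387862804170277287624089978350852419833196183550,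
   5415375660834397942508733659600944758529370333239245992207189489368084786095512173133252105560815411668946073223939226607812608,
   5415375660824547450353805370893207918210400722275857811187509581351243972275760010945120135465944707319807379461958230089924608,
   5415375660834397951902903990687733730091745214729389449975352293219301482632300604240465451969740677686362541995857404554641408,
   5415365331825035102719446747216519898014759498122152842930863741583413714649930712476211997863374096171724104511769995020075008,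
   17862794166716368501569014319247848565790004202430267440265133645342460803032593291324964810322946047821527749670860317799159668675931275266]

/-- The images of the generators. -/
def vImgs : List (List ℤ) :=
  [[ep2, ep2, ep0, ep0, ep0, ep0, ep0, em2, ep0, ep0, em2, em2, ep0, ep0, ep0, ep0, ep0, em2, ep0, ep0, ep0, ep0, em2, em2],
   [em1, ep1, em1, ep1, ep1, em1, em1, em1, em1, em1, em1, em1, ep1, ep1, ep1, ep1, em1, em1, ep1, ep1, ep1, ep1, em1, em3],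
   [em1, ep1, ep1, ep1, em1, em1, em1, em1, ep1, ep1, em1, em1, ep1, em1, em1, ep1, ep1, em1, ep1, em1, ep1, ep1, em1, em3],
   [em2, ep2, ep0, ep0, ep0, ep0, ep0, em2, ep0, ep0, em2, em2, ep0, ep0, ep0, ep0, ep0, em2, ep0, ep0, ep0, ep0, ep2, em2],
   [em2, ep2, ep0, ep0, ep0, ep0, ep0, em2, ep0, ep0, em2, ep2, ep0, ep0, ep0, ep0, ep0, em2, ep0, ep0, ep0, ep0, em2, em2],
   [ep0, ep4, ep0, ep0, ep0, ep0, ep0, ep0, ep0, ep0, ep0, ep0, ep0, ep0, ep0, ep0, ep0, ep0, ep0, ep0, ep0, ep0, ep0, em4],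
   [em1, ep1, ep1, em1, ep1, em1, ep1, em1, ep1, ep1, em1, em1, ep1, em1, ep1, em1, em1, em1, ep1, ep1, em1, ep1, em1, em3],
   [em1, ep1, em1, ep1, ep1, ep1, ep1, em1, em1, ep1, em1, em1, ep1, em1, em1, em1, ep1, em1, ep1, ep1, ep1, em1, em1, em3],
   [em1, ep1, ep1, ep1, ep1, em1, ep1, em1, ep1, em1, em1, em1, em1, ep1, em1, em1, ep1, em1, em1, ep1, ep1, ep1, em1, em3],
   [em1, ep1, em1, ep1, em1, em1, ep1, em1, ep1, ep1, em1, em1, em1, ep1, ep1, ep1, ep1, em1, ep1, ep1, em1, em1, em1, em3],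
   [em1, ep1, ep1, ep1, em1, ep1, ep1, em1, ep1, em1, em1, em1, ep1, ep1, ep1, em1, em1, em1, ep1, em1, ep1, em1, em1, em3],
   [em1, ep1, ep1, em1, ep1, ep1, em1, em1, ep1, em1, em1, em1, ep1, ep1, em1, ep1, ep1, em1, ep1, ep1, em1, em1, em1, em3],
   [em2, ep2, ep0, ep0, ep0, ep0, ep0, ep2, ep0, ep0, em2, em2, ep0, ep0, ep0, ep0, ep0, em2, ep0, ep0, ep0, ep0, em2, em2],
   [em2, ep2, ep0, ep0, ep0, ep0, ep0, em2, ep0, ep0, em2, em2, ep0, ep0, ep0, ep0, ep0, ep2, ep0, ep0, ep0, ep0, em2, em2],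
   [em1, ep1, ep1, ep1, em1, ep1, ep1, em1, em1, em1, em1, em1, ep1, em1, ep1, ep1, ep1, em1, em1, ep1, em1, ep1, em1, em3],
   [em1, ep1, ep1, ep1, ep1, ep1, em1, em1, ep1, ep1, em1, em1, em1, em1, ep1, ep1, em1, em1, em1, ep1, ep1, em1, em1, em3],
   [em1, ep1, ep1, em1, ep1, em1, ep1, em1, em1, ep1, em1, em1, ep1, ep1, ep1, ep1, ep1, em1, em1, em1, ep1, em1, em1, em3],
   [em1, ep1, em1, ep1, ep1, ep1, ep1, em1, ep1, ep1, em1, em1, ep1, ep1, em1, ep1, em1, em1, em1, em1, em1, ep1, em1, em3],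
   [em2, ep2, ep0, ep0, ep0, ep0, ep0, em2, ep0, ep0, ep2, em2, ep0, ep0, ep0, ep0, ep0, em2, ep0, ep0, ep0, ep0, em2, em2],
   [em1, ep1, em1, em1, em1, ep1, em1, em1, ep1, ep1, em1, em1, ep1, ep1, ep1, em1, ep1, em1, em1, ep1, ep1, ep1, em1, em3],
   [em1, ep1, em1, em1, ep1, ep1, ep1, em1, ep1, em1, em1, em1, em1, em1, ep1, ep1, ep1, em1, ep1, em1, ep1, ep1, em1, em3],
   [em1, ep1, ep1, em1, em1, ep1, ep1, em1, em1, ep1, em1, em1, em1, ep1, em1, ep1, em1, em1, ep1, ep1, ep1, ep1, em1, em3],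
   [em1, ep1, ep1, ep1, ep1, ep1, em1, em1, em1, ep1, em1, em1, em1, ep1, ep1, em1, ep1, em1, ep1, em1, em1, ep1, em1, em3],
   [ep0, ep0, ep0, ep0, ep0, ep0, ep0, ep0, ep0, ep0, ep0, ep0, ep0, ep0, ep0, ep0, ep0, ep0, ep0, ep0, ep0, ep0, ep0, ep0],
   [ep2, em2, ep0, ep0, ep0, ep0, ep0, ep2, ep0, ep0, ep2, ep2, ep0, ep0, ep0, ep0, ep0, ep2, ep0, ep0, ep0, ep0, ep2, ep6],
   [em1, ep3, ep1, ep1, ep1, ep1, ep1, em1, ep1, ep1, em1, em1, ep1, ep1, ep1, ep1, ep1, em1, ep1, ep1, ep1, ep1, em1, em1],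
   [ep1, ep1, ep1, ep1, ep1, ep1, ep1, ep1, em1, ep1, ep1, em1, ep1, ep1, ep1, ep1, ep1, em1, em1, em1, em1, ep1, em1, ep3],
   [em1, ep1, ep1, ep1, ep1, ep1, em1, ep1, em1, ep1, em1, em1, ep1, ep1, ep3, ep1, ep1, ep1, em1, ep1, ep1, ep1, em1, ep1],
   [em1, ep1, ep1, ep1, ep1, ep1, em1, ep1, ep1, ep1, ep1, em1, em1, em1, ep1, ep1, ep1, ep1, ep1, em1, ep1, ep1, em1, ep3],
   [em2, ep2, ep0, ep0, ep0, ep2, ep0, ep0, ep0, ep2, ep0, em2, ep0, ep2, ep0, ep0, ep0, ep0, ep0, ep0, ep0, ep2, ep0, ep2],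
   [em1, ep1, em1, em1, ep1, ep1, ep1, ep1, ep1, ep1, em1, ep1, ep1, ep1, ep1, ep1, ep1, ep1, em1, em1, ep1, ep1, em1, ep3],
   [ep0, ep2, ep0, ep0, ep0, ep2, ep2, ep0, ep0, ep0, ep2, ep0, ep0, ep0, ep0, ep2, ep0, ep2, ep0, ep0, ep0, ep2, ep0, ep2],
   [ep0, ep0, ep2, ep0, ep0, ep2, ep0, ep0, ep0, ep2, ep2, ep0, ep0, ep0, ep2, ep0, ep0, ep0, ep0, ep2, ep0, ep2, ep0, ep2],
   [em1, ep1, em1, ep1, ep1, ep3, ep1, ep1, ep1, ep1, ep1, em1, ep1, em1, ep1, ep1, ep1, em1, em1, ep1, ep1, ep1, em1, ep1],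
   [em1, ep1, ep1, em1, ep1, ep1, ep1, em1, ep1, ep1, ep1, em1, em1, ep1, ep1, ep1, ep1, ep1, em1, ep1, ep3, ep1, em1, ep1],
   [ep0, ep0, ep0, ep0, ep0, ep2, ep2, ep0, ep0, ep2, ep0, ep0, ep0, ep2, ep2, ep2, ep2, ep0, ep0, ep0, ep0, ep2, ep0, ep0],
   [ep0, ep0, ep2, ep0, ep0, ep2, ep2, ep2, ep0, ep0, ep0, ep0, ep0, ep0, ep2, ep2, ep0, ep0, ep0, ep0, ep2, ep0, ep0, ep2],
   [ep0, ep0, ep2, ep0, ep2, ep2, ep0, ep0, ep0, ep2, ep0, ep0, ep0, ep2, ep0, ep2, ep0, ep2, ep0, ep0, ep0, ep0, ep0, ep2]]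

/-- The rows, times eight. -/
def vTRows : List (List ℤ) :=
  [[ep6, ep2, ep0, ep0, ep0, ep0, ep0, em2, ep0, ep0, em2, em2, ep0, ep0, ep0, ep0, ep0, em2, ep0, ep0, ep0, ep0, em2, ep2],
   [ep0, ep0, em2, ep2, ep2, em2, em2, ep0, em2, em2, ep0, ep0, ep2, ep2, ep2, ep2, em2, ep0, ep2, ep2, ep2, ep2, ep0, ep0],
   [ep0, ep0, ep2, ep2, em2, em2, em2, ep0, ep2, ep2, ep0, ep0, ep2, em2, em2, ep2, ep2, ep0, ep2, em2, ep2, ep2, ep0, ep0],
   [em2, ep2, ep0, ep0, ep0, ep0, ep0, em2, ep0, ep0, em2, em2, ep0, ep0, ep0, ep0, ep0, em2, ep0, ep0, ep0, ep0, ep6, ep2],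
   [em2, ep2, ep0, ep0, ep0, ep0, ep0, em2, ep0, ep0, em2, ep6, ep0, ep0, ep0, ep0, ep0, em2, ep0, ep0, ep0, ep0, em2, ep2],
   [ep2, ep6, ep0, ep0, ep0, ep0, ep0, ep2, ep0, ep0, ep2, ep2, ep0, ep0, ep0, ep0, ep0, ep2, ep0, ep0, ep0, ep0, ep2, em2],
   [ep0, ep0, ep2, em2, ep2, em2, ep2, ep0, ep2, ep2, ep0, ep0, ep2, em2, ep2, em2, em2, ep0, ep2, ep2, em2, ep2, ep0, ep0],
   [ep0, ep0, em2, ep2, ep2, ep2, ep2, ep0, em2, ep2, ep0, ep0, ep2, em2, em2, em2, ep2, ep0, ep2, ep2, ep2, em2, ep0, ep0],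
   [ep0, ep0, ep2, ep2, ep2, em2, ep2, ep0, ep2, em2, ep0, ep0, em2, ep2, em2, em2, ep2, ep0, em2, ep2, ep2, ep2, ep0, ep0],
   [ep0, ep0, em2, ep2, em2, em2, ep2, ep0, ep2, ep2, ep0, ep0, em2, ep2, ep2, ep2, ep2, ep0, ep2, ep2, em2, em2, ep0, ep0],
   [ep0, ep0, ep2, ep2, em2, ep2, ep2, ep0, ep2, em2, ep0, ep0, ep2, ep2, ep2, em2, em2, ep0, ep2, em2, ep2, em2, ep0, ep0],
   [ep0, ep0, ep2, em2, ep2, ep2, em2, ep0, ep2, em2, ep0, ep0, ep2, ep2, em2, ep2, ep2, ep0, ep2, ep2, em2, em2, ep0, ep0],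
   [em2, ep2, ep0, ep0, ep0, ep0, ep0, ep6, ep0, ep0, em2, em2, ep0, ep0, ep0, ep0, ep0, em2, ep0, ep0, ep0, ep0, em2, ep2],
   [em2, ep2, ep0, ep0, ep0, ep0, ep0, em2, ep0, ep0, em2, em2, ep0, ep0, ep0, ep0, ep0, ep6, ep0, ep0, ep0, ep0, em2, ep2],
   [ep0, ep0, ep2, ep2, em2, ep2, ep2, ep0, em2, em2, ep0, ep0, ep2, em2, ep2, ep2, ep2, ep0, em2, ep2, em2, ep2, ep0, ep0],
   [ep0, ep0, ep2, ep2, ep2, ep2, em2, ep0, ep2, ep2, ep0, ep0, em2, em2, ep2, ep2, em2, ep0, em2, ep2, ep2, em2, ep0, ep0],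
   [ep0, ep0, ep2, em2, ep2, em2, ep2, ep0, em2, ep2, ep0, ep0, ep2, ep2, ep2, ep2, ep2, ep0, em2, em2, ep2, em2, ep0, ep0],
   [ep0, ep0, em2, ep2, ep2, ep2, ep2, ep0, ep2, ep2, ep0, ep0, ep2, ep2, em2, ep2, em2, ep0, em2, em2, em2, ep2, ep0, ep0],
   [em2, ep2, ep0, ep0, ep0, ep0, ep0, em2, ep0, ep0, ep6, em2, ep0, ep0, ep0, ep0, ep0, em2, ep0, ep0, ep0, ep0, em2, ep2],
   [ep0, ep0, em2, em2, em2, ep2, em2, ep0, ep2, ep2, ep0, ep0, ep2, ep2, ep2, em2, ep2, ep0, em2, ep2, ep2, ep2, ep0, ep0],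
   [ep0, ep0, em2, em2, ep2, ep2, ep2, ep0, ep2, em2, ep0, ep0, em2, em2, ep2, ep2, ep2, ep0, ep2, em2, ep2, ep2, ep0, ep0],
   [ep0, ep0, ep2, em2, em2, ep2, ep2, ep0, em2, ep2, ep0, ep0, em2, ep2, em2, ep2, em2, ep0, ep2, ep2, ep2, ep2, ep0, ep0],
   [ep0, ep0, ep2, ep2, ep2, ep2, em2, ep0, em2, ep2, ep0, ep0, em2, ep2, ep2, em2, ep2, ep0, ep2, em2, em2, ep2, ep0, ep0],
   [ep2, em2, ep0, ep0, ep0, ep0, ep0, ep2, ep0, ep0, ep2, ep2, ep0, ep0, ep0, ep0, ep0, ep2, ep0, ep0, ep0, ep0, ep2, ep6]]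

/-- The packed columns. -/
def vTCols : List ℤ :=
  [5954262829429611647380060634213836060259482360294730588632385332282656394879328825216055632489549569352373094355103413678328184238656978950,
   -5954262829429611647380060634213836060259482360294730588632385332282656394879328825216055632489549569352373084213898611852492972265031335934,
   5678432948924760657451690271482137604006917905890767339105795223927279851439720852971396583746796580481755171529343754177585566711808,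
   5678422118183767998018645043310689765510964430467031091864485416668956212486576215992792175821320980822741930105424530846183281655808,
   5678422118194096997530992677669313450742924621640219569046986219121549440935292173211443181080275857267367549358355034741560687198208,
   5678432948935089666814539454948340054189453051582579053089233888029242279431077303228037267041163921992141933624850407799199113412608,
   -5678422118183768007869146592400350589612013238652934098443243540895893430096446246212749210859523101716760350471468306725834737057792,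
   5954262829429611647380060634213836060259482360294730588632385332296791171397555899852722012495492917478992965530108365343301033848997937150,
   -5678432948924760657451690271482137604006909757746862001161450150137786220832536810107348063088048129934755964199270403430141071982592,
   5678432948924760667302191820589716386045389147761129883929100902365710259693905019537546962310438687049925080488492350000016295723008,
   5954262829429611647380060634232624400921673026117846433406700028501661855270595384181713960261807241553289961902813005665406333862912458750,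
   5954262829429611647380060634213836060259482360294730588632385332282656394879328825216055632489549569352373094355113085084885101272054628350,
   -5678432948935089656964037905840761272150981809696675157128122377009976189733237571403818848996765011964055335472365291105209697697792,
   5678432948924760667302191820589716386045380999617224545984755828589696615275800650654446155479171414649363173441184363588532995883008,
   5678422118194097007381494226758974274843973429841663926763550175902362393321691648823455094733948884500099919442132658837622156689408,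
   -5678422118183768007869146592400350589612005090509028760498898467106399812344766557432314907635129247068657721307732400854462619451392,
   5678422118194097007381494226758974274843965281697758588819205102126348736048082925868432094717357472635548762985059858496773012062208,
   5954262829429611647380060634213836060259482360294730588632400153670078771352343042302136744541754787910410296347300464249081197119250890750,
   5678432948935089656964037905840761272150973661552769819183777303233962545315133202509026040217233749307141799858169407325938026283008,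
   -5678422118194096997530992677669313450742916473496314231102641145332055823183612484419316853606851546184357591438046497941074206523392,
   -5678422118183767998018645043310689765510956282323125753920140342892942555212967493026077151555720380171216003545745560471592073428992,
   5678432948935089666814539454948340054189444903438673715144888814239748648823893260375680748330700729349426913515631415350099661815808,
   5954262829429611647380060634213836060259482360294730588632385332282656394879328825216055632489549569352373094355103413687551556275511754750,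
   17862788488288834942140181902660296521440637746707307610671485514468531798020494326336572717299054946942693213639026704847733641927788068866]

/-- The images of the generators. -/
def vTImgs : List (List ℤ) :=
  [[ep2, ep0, ep0, em2, em2, ep2, ep0, ep0, ep0, ep0, ep0, ep0, em2, em2, ep0, ep0, ep0, ep0, em2, ep0, ep0, ep0, ep0, em2],
   [ep0, ep0, ep0, ep0, ep0, ep4, ep0, ep0, ep0, ep0, ep0, ep0, ep0, ep0, ep0, ep0, ep0, ep0, ep0, ep0, ep0, ep0, ep0, em4],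
   [em1, em1, ep1, em1, em1, ep1, ep1, em1, ep1, em1, ep1, ep1, em1, em1, ep1, ep1, ep1, em1, em1, em1, em1, ep1, ep1, em3],
   [em1, ep1, ep1, em1, em1, ep1, em1, ep1, ep1, ep1, ep1, em1, em1, em1, ep1, ep1, em1, ep1, em1, em1, em1, em1, ep1, em3],
   [em1, ep1, em1, em1, em1, ep1, ep1, ep1, ep1, em1, em1, ep1, em1, em1, em1, ep1, ep1, ep1, em1, em1, ep1, em1, ep1, em3],
   [em1, em1, em1, em1, em1, ep1, em1, ep1, em1, em1, ep1, ep1, em1, em1, ep1, ep1, em1, ep1, em1, ep1, ep1, ep1, ep1, em3],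
   [em1, em1, em1, em1, em1, ep1, ep1, ep1, ep1, ep1, ep1, em1, em1, em1, ep1, em1, ep1, ep1, em1, em1, ep1, ep1, em1, em3],
   [em2, ep0, ep0, em2, em2, ep2, ep0, ep0, ep0, ep0, ep0, ep0, ep2, em2, ep0, ep0, ep0, ep0, em2, ep0, ep0, ep0, ep0, em2],
   [em1, em1, ep1, em1, em1, ep1, ep1, em1, ep1, ep1, ep1, ep1, em1, em1, em1, ep1, em1, ep1, em1, ep1, ep1, em1, em1, em3],
   [em1, em1, ep1, em1, em1, ep1, ep1, ep1, em1, ep1, em1, em1, em1, em1, em1, ep1, ep1, ep1, em1, ep1, em1, ep1, ep1, em3],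
   [em2, ep0, ep0, em2, em2, ep2, ep0, ep0, ep0, ep0, ep0, ep0, em2, em2, ep0, ep0, ep0, ep0, ep2, ep0, ep0, ep0, ep0, em2],
   [em2, ep0, ep0, em2, ep2, ep2, ep0, ep0, ep0, ep0, ep0, ep0, em2, em2, ep0, ep0, ep0, ep0, em2, ep0, ep0, ep0, ep0, em2],
   [em1, ep1, ep1, em1, em1, ep1, ep1, ep1, em1, em1, ep1, ep1, em1, em1, ep1, em1, ep1, ep1, em1, ep1, em1, em1, em1, em3],
   [em1, ep1, em1, em1, em1, ep1, em1, em1, ep1, ep1, ep1, ep1, em1, em1, em1, em1, ep1, ep1, em1, ep1, em1, ep1, ep1, em3],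
   [em1, ep1, em1, em1, em1, ep1, ep1, em1, em1, ep1, ep1, em1, em1, em1, ep1, ep1, ep1, em1, em1, ep1, ep1, em1, ep1, em3],
   [em1, ep1, ep1, em1, em1, ep1, em1, em1, em1, ep1, em1, ep1, em1, em1, ep1, ep1, ep1, ep1, em1, em1, ep1, ep1, em1, em3],
   [em1, em1, ep1, em1, em1, ep1, em1, ep1, ep1, ep1, em1, ep1, em1, em1, ep1, em1, ep1, em1, em1, ep1, ep1, em1, ep1, em3],
   [em2, ep0, ep0, em2, em2, ep2, ep0, ep0, ep0, ep0, ep0, ep0, em2, ep2, ep0, ep0, ep0, ep0, em2, ep0, ep0, ep0, ep0, em2],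
   [em1, ep1, ep1, em1, em1, ep1, ep1, ep1, em1, ep1, ep1, ep1, em1, em1, em1, em1, em1, em1, em1, em1, ep1, ep1, ep1, em3],
   [em1, ep1, em1, em1, em1, ep1, ep1, ep1, ep1, ep1, em1, ep1, em1, em1, ep1, ep1, em1, em1, em1, ep1, em1, ep1, em1, em3],
   [em1, ep1, ep1, em1, em1, ep1, em1, ep1, ep1, em1, ep1, em1, em1, em1, em1, ep1, ep1, em1, em1, ep1, ep1, ep1, em1, em3],
   [em1, ep1, ep1, em1, em1, ep1, ep1, em1, ep1, em1, em1, em1, em1, em1, ep1, em1, em1, ep1, em1, ep1, ep1, ep1, ep1, em3],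
   [em2, ep0, ep0, ep2, em2, ep2, ep0, ep0, ep0, ep0, ep0, ep0, em2, em2, ep0, ep0, ep0, ep0, em2, ep0, ep0, ep0, ep0, em2],
   [ep0, ep0, ep0, ep0, ep0, ep0, ep0, ep0, ep0, ep0, ep0, ep0, ep0, ep0, ep0, ep0, ep0, ep0, ep0, ep0, ep0, ep0, ep0, ep0],
   [ep2, ep0, ep0, ep2, ep2, em2, ep0, ep0, ep0, ep0, ep0, ep0, ep2, ep2, ep0, ep0, ep0, ep0, ep2, ep0, ep0, ep0, ep0, ep6],
   [em1, ep1, ep1, em1, em1, ep3, ep1, ep1, ep1, ep1, ep1, ep1, em1, em1, ep1, ep1, ep1, ep1, em1, ep1, ep1, ep1, ep1, em1],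
   [ep1, ep1, ep1, ep1, em1, ep1, ep1, ep1, em1, ep1, ep1, ep1, em1, ep1, ep1, em1, ep1, em1, em1, ep1, ep1, em1, ep1, ep3],
   [ep0, ep2, ep0, ep2, ep0, ep2, ep0, ep0, ep0, ep2, ep0, ep2, ep0, ep0, ep2, ep0, ep2, ep0, ep0, ep2, ep0, ep0, ep0, ep0],
   [ep0, ep2, ep2, ep2, ep0, ep0, ep0, ep0, ep0, ep0, ep2, ep2, ep0, ep0, ep0, ep0, ep2, ep0, ep0, ep0, ep0, ep2, ep0, ep2],
   [em1, ep3, ep1, ep1, em1, ep1, ep1, ep1, ep1, ep1, ep1, ep1, em1, ep1, ep1, em1, em1, ep1, em1, ep1, em1, ep1, ep1, ep1],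
   [ep0, ep2, ep0, ep0, ep0, ep0, ep0, ep2, ep2, ep0, ep0, ep2, ep0, ep2, ep0, ep0, ep2, ep0, ep0, ep2, ep0, ep0, ep0, ep2],
   [ep0, ep2, ep0, ep0, ep0, ep0, ep0, ep0, ep0, ep0, ep2, ep0, ep0, ep2, ep0, ep0, ep0, ep0, ep0, ep2, ep2, ep2, ep2, ep2],
   [ep0, ep2, ep0, ep2, ep0, ep0, ep2, ep0, ep0, ep2, ep0, ep0, ep0, ep0, ep2, ep0, ep0, ep0, ep0, ep0, ep2, ep2, ep0, ep2],
   [em1, ep3, ep1, em1, em1, ep1, ep1, ep1, em1, ep1, ep1, ep1, ep1, ep1, ep1, ep1, ep1, em1, em1, ep1, ep1, ep1, em1, ep1],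
   [ep0, ep2, ep2, ep0, ep0, ep0, ep0, ep0, ep2, ep2, ep0, ep2, ep0, ep0, ep0, ep0, ep0, ep0, ep0, ep2, ep2, ep2, ep0, ep0],
   [em1, ep1, ep1, ep1, em1, ep1, ep1, ep1, ep1, ep1, em1, em1, em1, ep1, ep1, ep1, ep1, em1, em1, ep3, ep1, ep1, ep1, ep1],
   [ep0, ep2, ep2, ep0, ep0, ep0, ep0, ep0, ep0, ep0, ep0, ep0, ep0, ep0, ep2, ep0, ep2, ep0, ep2, ep2, ep2, ep0, ep0, ep2],
   [em1, ep1, ep1, ep1, ep1, ep1, em1, em1, ep1, ep1, em1, ep1, em1, ep1, ep1, em1, ep1, ep1, em1, ep1, ep1, ep1, ep1, ep3]]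

end Cfsg.Agent.OutCert
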