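import Cfsg.Agent.Lib.OutCert.McLData
import Cfsg.Agent.Lib.OutCert.Gen
import Cfsg.Agent.Lib.OutCert.Fast

/-!
# Four generators of the McLaughlin group

* `sW`, `pW`, `elV` : a permutation of order four and an element of order five
* `mem_closure_yzw` : generators of the stabiliser of `∞`, `0` in `M24`
* `lt5`, `W5`, `run5` : words evaluated on lists
* `mcl_gen` : `mclGroup` is generated by `pY`, `pZ`, `pW`, `elV`
-/

set_option autoImplicit false

namespace Cfsg.Agent.OutCert

open Leech MulAction Golay StabCert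

/-- The code of an element of order four. -/
def dW : ℕ := 0xbb1f3aa869a38eb2350694036888a0

theorem isAut_dW : isAut dW = true := by decide +kernel

/-- The element of order four. -/
noncomputable def sW : Equiv.Perm GolayPt := toPerm dW

theorem sW_mem : sW ∈ M24 := toPerm_mem_M24 isAut_dW

/-- The element of order four in `M24`. -/
noncomputable def mW : M24 := ⟨sW, sW_mem⟩

/-- The element of order four in `Co0`. -/
noncomputable def pW : Co0 := Leech.permHom mW

/-- The certificate for the element of order five. -/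
theorem okV : matOKB vRows vTRows vCols vTCols vImgs vTImgs = true := by decide +kernel

/-- The element of order five. -/
noncomputable def elV : Co0 := matEl (toMat vRows) (matOK_of_lists okV).1

/-- A letter of the certificate. -/
noncomputable def letter22 (k : ℕ) : Equiv.Perm GolayPt := toPerm (m22Perms.getD k 0)

theorem letters22_ok : (∀ k : Fin 11, isAut (m22Perms.getD k.val 0) = true ∧
      fn (m22Perms.getD k.val 0) 23 = 23 ∧ fn (m22Perms.getD k.val 0) 0 = 0) ∧
    m22Perms.take 3 = [dY, dZ, dW] ∧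
    (∀ k : Fin 11, (m22Words.getD k.val []).all
        (fun l => decide (l < k.val ∨ (k.val < 3 ∧ l = k.val))) = true ∧
      ∀ i : Fin 24, ev 5 m22Perms (m22Words.getD k.val []) i.val = fn (m22Perms.getD k.val 0) i.val) := by
  decide +kernel

theorem m22_chain_ok : chainOK 5 24 11 m22Perms (List.range 24) m22Chain = true := by
  decide +kernel

theorem tablesSound22 :
    TablesSound (MonoidHom.id (Equiv.Perm GolayPt)) letter22 pt 5 24 11 m22Perms := by
  intro k hk i hi
  have hv := validPerm_of_isAut (letters22_ok.1 ⟨k, hk⟩).1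
  exact ⟨fn_lt_of_valid hv hi, toPerm_pt hv hi⟩

/-- Every permutation of the code fixing `∞` and `0` is generated by the three. -/
theorem mem_closure_yzw {σ : Equiv.Perm GolayPt} (hσ : σ ∈ M24) (h0 : σ none = none)
    (h1 : σ pO = pO) : σ ∈ Subgroup.closure ({sY, sZ, sW} : Set (Equiv.Perm GolayPt)) := by
  set C := Subgroup.closure ({sY, sZ, sW} : Set (Equiv.Perm GolayPt)) with hC
  obtain ⟨ha, h3, hwords⟩ := letters22_ok
  have hl3 : letter22 0 = sY ∧ letter22 1 = sZ ∧ letter22 2 = sW := by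
    have e : m22Perms.getD 0 0 = dY ∧ m22Perms.getD 1 0 = dZ ∧ m22Perms.getD 2 0 = dW := by
      decide +kernel
    exact ⟨congrArg toPerm e.1, congrArg toPerm e.2.1, congrArg toPerm e.2.2⟩
  have hmem : ∀ k, k < 11 → letter22 k ∈ C := by
    intro k
    induction k using Nat.strong_induction_on with
    | _ k ih =>
      intro hk
      by_cases hk3 : k < 3
      · interval_cases k
        · rw [hl3.1]; exact Subgroup.subset_closure (Or.inl rfl)
        · rw [hl3.2.1]; exact Subgroup.subset_closure (Or.inr (Or.inl rfl))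
        · rw [hl3.2.2]; exact Subgroup.subset_closure (Or.inr (Or.inr rfl))
      obtain ⟨hw, hev⟩ := hwords ⟨k, hk⟩
      simp only [List.all_eq_true, decide_eq_true_eq] at hw
      have hm : ∀ l ∈ m22Words.getD k [], l < k := fun l hl => by
        rcases hw l hl with h | h
        · exact h
        · omega
      have e : letter22 k = wordEl letter22 (m22Words.getD k []) := by
        refine perm_ext_pt fun i hi => ?_
        have := (ev_spec tablesSound22 (m22Words.getD k [])
          (fun l hl => (hm l hl).trans hk) i hi).2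
        rw [show ev 5 m22Perms (m22Words.getD k []) i = fn (m22Perms.getD k 0) i from
          hev ⟨i, hi⟩] at this
        exact (toPerm_pt (validPerm_of_isAut (ha ⟨k, hk⟩).1) hi).trans this.symm
      rw [e, wordEl]
      refine Subgroup.list_prod_mem _ fun x hx => ?_
      obtain ⟨l, hl, rfl⟩ := List.mem_map.1 hx
      exact ih l (hm l hl) ((hm l hl).trans hk)
  obtain ⟨hnm, hcard, -⟩ := chain_spec tablesSound22
    (fun i (hi : i < 24) j (hj : j < 24) e => by rw [← idx_pt hi, ← idx_pt hj, e])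
    (fun β hβ => List.mem_range.1 hβ)
    (fun g _ h => perm_ext_pt fun i hi => (h i (List.mem_range.2 hi)))
    m22Chain m22_chain_ok
  have hle : sub letter22 (nextGens m22Chain) ≤ C := by
    rw [sub, Subgroup.closure_le]
    rintro _ ⟨k, hk, rfl⟩
    exact hmem k (hnm k hk)
  have hle2 : sub letter22 (nextGens m22Chain) ≤ pointStab2 := by
    rw [sub, Subgroup.closure_le]
    rintro _ ⟨k, hk, rfl⟩
    obtain ⟨k1, k2, k3⟩ := ha ⟨k, hnm k hk⟩
    refine ⟨⟨toPerm_mem_M24 k1, MulAction.mem_stabilizer_iff.2 ?_⟩,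
      MulAction.mem_stabilizer_iff.2 ?_⟩
    · rw [show (none : GolayPt) = pt 23 by decide +kernel, Equiv.Perm.smul_def]
      exact (toPerm_pt (validPerm_of_isAut k1) (by norm_num)).trans (congrArg pt k2)
    · rw [show pO = pt 0 by decide +kernel, Equiv.Perm.smul_def]
      exact (toPerm_pt (validPerm_of_isAut k1) (by norm_num)).trans (congrArg pt k3)
  have heq := Subgroup.eq_of_le_of_card_ge hle2 (by
    rw [hcard, pointStab2, natCard_m22 none_ne_pO]; decide +kernel)
  exact hle (heq ▸ ⟨⟨hσ, MulAction.mem_stabilizer_iff.2 h0⟩, MulAction.mem_stabilizer_iff.2 h1⟩)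

/-- The letters: `pY`, `pZ`, `pW`, `elV`, `invA`. -/
noncomputable def lt5 (k : ℕ) : Co0 :=
  if k = 0 then pY else if k = 1 then pZ else if k = 2 then pW else if k = 3 then elV else invA

/-- The value of a word. -/
noncomputable def W5 (w : List ℕ) : Co0 := wordEl lt5 w

/-- The action of a letter on lists. -/
def act5 (k : ℕ) (x : List ℤ) : List ℤ :=
  if k = 0 then actC dYCols x else if k = 1 then actC dZCols x else if k = 2 then actC dWCols x
  else if k = 3 then actC vCols x else actC t3Cols x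

/-- The action of a word on lists. -/
def run5 : List ℕ → List ℤ → List ℤ
  | [], x => x
  | k :: w, x => act5 k (run5 w x)

theorem cols5_ok : ((permRows dY).all smallL = true ∧ dYCols = packCols (permRows dY)) ∧
    ((permRows dZ).all smallL = true ∧ dZCols = packCols (permRows dZ)) ∧
    ((permRows dW).all smallL = true ∧ dWCols = packCols (permRows dW)) := by
  decide +kernel

theorem SRep.letter5 {v : leechLattice} {x : List ℤ} (h : SRep v x) (k : ℕ) :
    SRep (lt5 k • v) (act5 k x) := by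
  obtain ⟨⟨y1, y2⟩, ⟨z1, z2⟩, ⟨w1, w2⟩⟩ := cols5_ok
  unfold lt5 act5
  split_ifs
  · exact h.perm isAut_xyz.2.1 y1 y2
  · exact h.perm isAut_xyz.2.2 z1 z2
  · exact h.perm isAut_dW w1 w2
  · exact h.mat okV
  · exact h.mat okA

theorem srep_W5 {v : leechLattice} {x : List ℤ} (h : SRep v x) :
    ∀ w : List ℕ, SRep (W5 w • v) (run5 w x)
  | [] => by simpa [W5, wordEl, run5] using h
  | k :: w => by
    rw [W5, wordEl, List.map_cons, List.prod_cons, mul_smul]
    exact (srep_W5 h w).letter5 k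

theorem rep_W5 {v : leechLattice} {x : List ℤ} (h : SRep v x) (w : List ℕ) :
    Rep (W5 w • v) (run5 w x) :=
  (srep_W5 h w).1

theorem srep_bases : SRep baseF (vec4 5 1 1 1) ∧ SRep baseU (vec4 4 4 0 0) ∧
    SRep baseU' (vec4 4 (-4) 0 0) :=
  ⟨⟨rep_F, sqNorm_baseF.le.trans (by norm_num)⟩, ⟨rep_U, sqNorm_baseU.le.trans (by norm_num)⟩,
    ⟨rep_U', sqNorm_baseU'.le.trans (by norm_num)⟩⟩

theorem W5_append (a b : List ℕ) : W5 (a ++ b) = W5 a * W5 b := wordEl_append _ a b

theorem W5_single (k : ℕ) : W5 [k] = lt5 k := by simp [W5, wordEl]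

theorem W5_replicate (k n : ℕ) : W5 (List.replicate n k) = lt5 k ^ n := by
  simp [W5, wordEl, List.map_replicate]

theorem mem_of_word {H : Subgroup Co0} {w : List ℕ} (h : ∀ k ∈ w, lt5 k ∈ H) : W5 w ∈ H := by
  refine Subgroup.list_prod_mem _ fun x hx => ?_
  obtain ⟨k, hk, rfl⟩ := List.mem_map.1 hx
  exact h k hk

/-- The list of `8 e_j`. -/
def e8' (j : ℕ) : List ℤ := (List.range 24).map fun i => if i = j then 8 else 0

theorem rep_e8' (p : GolayPt) : Rep (eightVec p) (e8' (idx p)) := by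
  refine ⟨by simp [e8'], funext fun q => ?_⟩
  show _ = (e8' (idx p)).getD (idx q) 0
  rw [e8', List.getD_eq_getElem _ _ (by simpa using idx_lt q), List.getElem_map,
    List.getElem_range, coe_eightVec, Pi.single_apply]
  simp only [idx_injective.eq_iff]

theorem srep_e8' (p : GolayPt) : SRep (eightVec p) (e8' (idx p)) :=
  ⟨rep_e8' p, by rw [sqNorm_eightVec]; norm_num⟩

/-- The two words agree. -/
def same5 (w w' : List ℕ) : Bool :=
  (List.range 24).all fun j => run5 w (e8' j) == run5 w' (e8' j)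

theorem W5_eq {w w' : List ℕ} (h : same5 w w' = true) : W5 w = W5 w' := by
  simp only [same5, List.all_eq_true, List.mem_range, beq_iff_eq] at h
  refine ext_frame fun p => ?_
  have h1 := rep_W5 (srep_e8' p) w
  rw [h _ (idx_lt p)] at h1
  exact h1.eq (rep_W5 (srep_e8' p) w')

/-- A moved vector. -/
def moved5 (w : List ℕ) : Bool :=
  [e8' 0, e8' 1, vec4 5 1 1 1, vec4 4 4 0 0].any fun x => !(run5 w x == x)

theorem W5_ne_one {w : List ℕ} (h : moved5 w = true) : W5 w ≠ 1 := by
  have key : ∀ {v : leechLattice} {x : List ℤ}, SRep v x → run5 w x ≠ x → W5 w ≠ 1 :=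
    fun {v x} hx h1 e => (rep_W5 hx w).ne hx.1 h1 (by rw [e, one_smul])
  simp only [moved5, List.any_cons, List.any_nil, Bool.or_false, Bool.or_eq_true,
    Bool.not_eq_true', beq_eq_false_iff_ne] at h
  have i0 : idx (pt 0) = 0 := idx_pt (by norm_num)
  have i1 : idx (pt 1) = 1 := idx_pt (by norm_num)
  rcases h with a | a | a | a
  · exact key (i0 ▸ srep_e8' (pt 0)) a
  · exact key (i1 ▸ srep_e8' (pt 1)) a
  · exact key srep_bases.1 a
  · exact key srep_bases.2.1 a

theorem fixes5 : (∀ k ∈ [0, 1, 2, 3],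
    act5 k (vec4 5 1 1 1) = vec4 5 1 1 1 ∧ act5 k (vec4 4 4 0 0) = vec4 4 4 0 0) ∧
    act5 3 (vec4 4 (-4) 0 0) ≠ vec4 4 (-4) 0 0 := by
  decide +kernel

theorem lt5_mem_mcl {k : ℕ} (hk : k ∈ [0, 1, 2, 3]) : lt5 k ∈ mclGroup := by
  refine ⟨mem_stabilizer_iff.2 ?_, mem_stabilizer_iff.2 ?_⟩
  · exact ((fixes5.1 k hk).1 ▸ (srep_bases.1.letter5 k).1).eq rep_F
  · exact ((fixes5.1 k hk).2 ▸ (srep_bases.2.1.letter5 k).1).eq rep_U

theorem perm_mem_of_yzw {H : Subgroup Co0} (hy : OutCert.pY ∈ H) (hz : OutCert.pZ ∈ H)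
    (hw : OutCert.pW ∈ H) {σ : Equiv.Perm GolayPt} (hσ : σ ∈ M24) (h0 : σ none = none)
    (h1 : σ pO = pO) : permEl σ hσ ∈ H := by
  have key : ∀ τ, τ ∈ Subgroup.closure ({sY, sZ, sW} : Set (Equiv.Perm GolayPt)) →
      ∃ hτ : τ ∈ M24, Leech.permHom ⟨τ, hτ⟩ ∈ H := by
    intro τ hτ
    induction hτ using Subgroup.closure_induction with
    | mem x hx =>
      rcases hx with rfl | rfl | rfl
      · exact ⟨sY_mem, hy⟩
      · exact ⟨sZ_mem, hz⟩
      · exact ⟨sW_mem, hw⟩
    | one => exact ⟨one_mem _, by rw [show (⟨1, one_mem _⟩ : M24) = 1 from rfl, map_one]; exact one_mem _⟩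
    | mul a b _ _ ha hb =>
      obtain ⟨a1, a2⟩ := ha
      obtain ⟨b1, b2⟩ := hb
      exact ⟨mul_mem a1 b1, by
        rw [show (⟨a * b, mul_mem a1 b1⟩ : M24) = ⟨a, a1⟩ * ⟨b, b1⟩ from rfl, map_mul]
        exact mul_mem a2 b2⟩
    | inv a _ ha =>
      obtain ⟨a1, a2⟩ := ha
      exact ⟨inv_mem a1, by
        rw [show (⟨a⁻¹, inv_mem a1⟩ : M24) = ⟨a, a1⟩⁻¹ from rfl, map_inv]
        exact inv_mem a2⟩
  obtain ⟨_, h2⟩ := key σ (mem_closure_yzw hσ h0 h1)
  exact h2

theorem mcl_gen : Subgroup.closure (lt5 '' {k | k ∈ [0, 1, 2, 3]}) = mclGroup := by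
  set H := Subgroup.closure (lt5 '' {k | k ∈ [0, 1, 2, 3]}) with hH
  have hm : ∀ k ∈ [0, 1, 2, 3], lt5 k ∈ H := fun k hk => Subgroup.subset_closure ⟨k, hk, rfl⟩
  refine mcl_eq_of_le ?_ (fun s hs => ?_) ⟨lt5 3, hm 3 (by simp), ?_⟩
  · rw [hH, Subgroup.closure_le]
    rintro _ ⟨k, hk, rfl⟩
    exact lt5_mem_mcl hk
  · obtain ⟨σ, hσ, h1, h2, rfl⟩ := exists_perm_of_stab3 hs
    exact perm_mem_of_yzw (hm 0 (by simp)) (hm 1 (by simp)) (hm 2 (by simp)) hσ h1 h2
  · exact (srep_bases.2.2.letter5 3).1.ne rep_U' fixes5.2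

end Cfsg.Agent.OutCert
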