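import Cfsg.Agent.Lib.OutCert.McLGen
import Cfsg.Agent.Lib.OutCert.Co3

/-!
# Normalisers of `⟨pY⟩` and `⟨pZ⟩` in the McLaughlin group

* `enumW` : small vectors constant on given classes
* `zfix_mcl`, `normZ_stab3`, `normZ_mcl` : the elements conjugating `pZ` to `pZ` or its square
* `normY_mcl` : the normaliser of `⟨pY⟩`
-/

set_option autoImplicit false

namespace Cfsg.Agent.OutCert

open Leech MulAction Golay StabCert

/-- Parameters of bounded weighted square sum and fixed parity. -/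
def enumW (par : ℕ) : List ℕ → ℤ → List (List ℤ)
  | [], left => if left == 0 then [[]] else []
  | w :: ws, left => (List.range 11).flatMap fun k : ℕ =>
      let a := Int.subNatNat k 5
      if a % 2 == (par : ℤ) && decide ((w : ℤ) * (a * a) ≤ left) then
        (enumW par ws (left - (w : ℤ) * (a * a))).map (List.cons a) else []

/-- The weighted sum of squares. -/
def wsum : List ℕ → List ℤ → ℤ
  | w :: ws, a :: as => (w : ℤ) * (a * a) + wsum ws as
  | [], _ => 0
  | _ :: _, [] => 0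

theorem mem_enumW (par : ℕ) : ∀ (ws : List ℕ) (ps : List ℤ) (left : ℤ), (∀ w ∈ ws, 1 ≤ w) →
    ws.length = ps.length → (∀ a ∈ ps, a % 2 = (par : ℤ)) → wsum ws ps = left → left ≤ 32 →
    ps ∈ enumW par ws left
  | [], [], left, _, _, _, h, _ => by
    simp only [wsum] at h
    subst h
    simp [enumW]
  | w :: ws, a :: ps, left, hw, hlen, hp, h, h32 => by
    simp only [wsum] at h
    have h1 : 1 ≤ w := hw w List.mem_cons_self
    have hge : ∀ (ws : List ℕ) (ps : List ℤ), 0 ≤ wsum ws ps := by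
      intro ws
      induction ws with
      | nil => intro ps; simp [wsum]
      | cons v vs ih =>
        intro ps
        cases ps with
        | nil => simp [wsum]
        | cons b bs =>
          simp only [wsum]
          have := ih bs
          have := mul_self_nonneg b
          positivity
    have hr := hge ws ps
    have hmul : a * a ≤ (w : ℤ) * (a * a) :=
      le_mul_of_one_le_left (mul_self_nonneg a) (by exact_mod_cast h1)
    have hb : -5 ≤ a ∧ a ≤ 5 := by constructor <;> nlinarith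
    rw [enumW, List.mem_flatMap]
    refine ⟨(a + 5).toNat, List.mem_range.2 (by omega), ?_⟩
    have e : Int.subNatNat (a + 5).toNat 5 = a := by
      rw [Int.subNatNat_eq_coe]; omega
    simp only [e]
    rw [if_pos]
    · exact List.mem_map.2 ⟨ps, mem_enumW par ws ps _
        (fun v hv => hw v (List.mem_cons_of_mem _ hv)) (Nat.succ.inj hlen)
        (fun b hb => hp b (List.mem_cons_of_mem _ hb)) (by linarith)
        (by linarith [mul_self_nonneg a]), rfl⟩
    · rw [Bool.and_eq_true, beq_iff_eq, decide_eq_true_eq]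
      exact ⟨hp a List.mem_cons_self, by linarith⟩

/-- The class of a point under `pZ`. -/
def zcls (k : ℕ) : ℕ :=
  if k ∈ [2, 8, 6, 9, 16] then 0 else if k ∈ [3, 4, 18, 13, 12] then 1
  else if k ∈ [7, 22, 11, 10, 17] then 2 else if k ∈ [14, 15, 20, 21, 19] then 3
  else if k = 0 then 4 else if k = 1 then 5 else if k = 5 then 6 else 7

/-- The list with given values on the classes. -/
def zVec (ps : List ℤ) : List ℤ := (List.range 24).map fun k => ps.getD (zcls k) 0

/-- The representatives of the classes. -/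
def zReps : List ℕ := [2, 3, 7, 14, 0, 1, 5, 23]

theorem zcls_reach : ∀ k : Fin 24, ∃ m : Fin 5,
    (fn dZ)^[m.val] (zReps.getD (zcls k.val) 0) = k.val ∧ zReps.getD (zcls k.val) 0 < 24 := by
  decide +kernel

theorem exists_zVec {v : leechLattice} (h : OutCert.pZ • v = v) :
    ∃ ps : List ℤ, ps.length = 8 ∧ Rep v (zVec ps) ∧
      ∃ par : ℕ, par < 2 ∧ ∀ a ∈ ps, a % 2 = (par : ℤ) := by
  have h1 : ∀ (m : ℕ) (p : GolayPt), (v : GolayPt → ℤ) ((sZ ^ m) p) = (v : GolayPt → ℤ) p := by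
    intro m
    induction m with
    | zero => simp
    | succ m ih =>
      intro p
      rw [pow_succ, Equiv.Perm.mul_apply, ih]
      conv_lhs => rw [← h]
      show ((permEl sZ sZ_mem • v : leechLattice) : GolayPt → ℤ) (sZ p) = _
      rw [vec_permEl, Equiv.symm_apply_apply]
  set ps := zReps.map fun r => (v : GolayPt → ℤ) (pt r) with hps
  refine ⟨ps, by simp [hps, zReps], ⟨by simp [zVec], funext fun p => ?_⟩, ?_⟩
  · show _ = (zVec ps).getD (idx p) 0
    rw [zVec, List.getD_eq_getElem _ _ (by simpa using idx_lt p), List.getElem_map, List.getElem_range]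
    obtain ⟨m, hm, hr⟩ := zcls_reach ⟨idx p, idx_lt p⟩
    simp only at hm hr
    have hcl : zcls (idx p) < zReps.length :=
      (by decide +kernel : ∀ k : Fin 24, zcls k.val < zReps.length) ⟨_, idx_lt p⟩
    rw [hps, List.getD_eq_getElem _ _ (by simpa using hcl), List.getElem_map,
      ← List.getD_eq_getElem _ 0 hcl]
    conv_lhs => rw [← pt_idx p, ← hm, ← sZ_pow_pt _ hr, h1]
  · obtain ⟨m, a, hm, e, -, -⟩ := exists_rep v.2
    refine ⟨m.toNat, by omega, fun b hb => ?_⟩
    obtain ⟨r, -, rfl⟩ := List.mem_map.1 hb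
    have := e (pt r)
    omega

theorem zVec_dot : ∀ ps : List ℤ, ps.length = 8 →
    dotL (zVec ps) (zVec ps) = wsum [5, 5, 5, 5, 1, 1, 1, 1] ps := by
  intro ps h
  match ps, h with
  | [a, b, c, d, e, f, g, i], _ =>
    rw [dotL_eq_sum, show (zVec [a, b, c, d, e, f, g, i]).length = 24 by simp [zVec]]
    simp +decide [Finset.sum_range_succ, zVec, zcls, wsum]
    ring

/-- The five points of `mclPts` fixed by `pZ`. -/
theorem zfix_check : ∀ par : Fin 2, ∀ ps ∈ enumW par.val [5, 5, 5, 5, 1, 1, 1, 1] 32,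
    dotL (zVec ps) (vec4 5 1 1 1) = 16 → dotL (zVec ps) (vec4 4 4 0 0) = 0 →
    dotsOK (zVec ps) = true →
    ∃ k : Fin 5, run5 (List.replicate k.val 3) (vec4 4 (-4) 0 0) = zVec ps := by
  decide +kernel

theorem zfix_mcl {y : leechLattice} (hy : y ∈ mclPts) (h : OutCert.pZ • y = y) :
    ∃ k < 5, elV ^ k • baseU' = y := by
  obtain ⟨hn, hF, hU⟩ := hy
  obtain ⟨ps, hlen, hr, par, hpar, hp⟩ := exists_zVec h
  have dl : ∀ {w : leechLattice} {x : List ℤ}, Rep w x →
      dotInt (y : GolayPt → ℤ) (w : GolayPt → ℤ) = dotL (zVec ps) x := fun {w x} hw => by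
    rw [hr.2, hw.2]
    exact vOf_dotProduct _ hw.1
  have hs : wsum [5, 5, 5, 5, 1, 1, 1, 1] ps = 32 := by
    rw [← zVec_dot ps hlen, ← dl hr, ← sqNorm_eq_dotInt, hn]
  have hmem := mem_enumW par [5, 5, 5, 5, 1, 1, 1, 1] ps 32 (by simp) (by simp [hlen]) hp hs le_rfl
  have hok : dotsOK (zVec ps) = true := dotsOK_of_mem (by simp [zVec]) (hr.2 ▸ y.2)
  obtain ⟨k, hk⟩ := zfix_check ⟨par, hpar⟩ ps hmem (by rw [← dl rep_F, hF])
    (by rw [← dl rep_U, hU]) hok
  refine ⟨k.val, k.isLt, ?_⟩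
  have h2 := rep_W5 srep_bases.2.2 (List.replicate k.val 3)
  rw [W5_replicate, hk] at h2
  exact h2.eq hr

/-- The four long cycles of `pZ`. -/
def zCyc : List (List ℕ) :=
  [[2, 8, 6, 9, 16], [3, 4, 18, 13, 12], [7, 22, 11, 10, 17], [14, 15, 20, 21, 19]]

/-- A map sending `zReps` to given points and conjugating `pZ` to its `e`th power. -/
def zMap (e a : ℕ) (im : List ℕ) (k : ℕ) : ℕ :=
  if k = 1 then a else if k = 5 then 6 - a else if k = 0 then 0 else if k = 23 then 23
  else (fn dZ)^[e * ((zCyc.getD (zcls k) []).findIdx (· == k)) % 5] (im.getD (zcls k) 0)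

/-- The code words on the first cycles go to code words. -/
def zOK (e a : ℕ) (im : List ℕ) : Bool :=
  (m22Sups.getD (im.length - 1) []).all fun w =>
    isCode (imgMask (encFun (zMap e a im)) w)

/-- The moved points. -/
def zPts : List ℕ := zCyc.flatten

theorem dfs_check : ∀ e ∈ [1, 2], ∀ a ∈ [1, 5], ∀ p ∈ zPts, zOK e a [p] = true →
    ∀ q ∈ zPts, zOK e a [p, q] = true → ∀ r ∈ zPts, zOK e a [p, q, r] = true →
    ∀ s ∈ zPts, zOK e a [p, q, r, s] = true →
    ∃ j : Fin 5, ∀ k : Fin 24,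
      zMap e a [p, q, r, s] k.val = (fn dW)^[e - 1] ((fn dZ)^[j.val] k.val) := by
  decide +kernel

theorem isCode_img {σ : Equiv.Perm GolayPt} (hσ : σ ∈ M24) {g : ℕ → ℕ} (hg : ∀ k < 24, g k < 24)
    {m : ℕ} (hm : pts m ∈ supports (golayCode : Set (GolayPt → ZMod 2)))
    (h : ∀ k < 24, m.testBit k = true → σ (pt k) = pt (g k)) :
    isCode (imgMask (encFun g) m) = true := by
  have hfn : ∀ k < 24, fn (encFun g) k = g k := fun k hk => by
    rw [encFun, fn_encList _ (fun a ha => ?_), List.getD_eq_getElem _ _ (by simpa using hk)]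
    · simp
    · obtain ⟨j, hj, rfl⟩ := List.mem_map.1 ha
      have := hg j (List.mem_range.1 hj)
      omega
  have hlt : imgMask (encFun g) m < 2 ^ 24 := by
    refine Nat.lt_pow_two_of_testBit _ fun i hi => ?_
    by_contra hc
    rw [Bool.not_eq_false, imgMask, testBit_imgAux] at hc
    obtain ⟨k, hk, -, rfl⟩ := hc
    rw [hfn k hk] at hi
    have := hg k hk
    omega
  rw [← pts_mem_supports_iff hlt]
  convert smul_mem_supports hσ hm using 1
  ext p
  rw [mem_pts, imgMask, testBit_imgAux, smul_eq_image, Finset.mem_image]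
  constructor
  · rintro ⟨k, hk, hb, he⟩
    refine ⟨pt k, mem_pts.2 (by rwa [idx_pt hk]), ?_⟩
    rw [h k hk hb, ← hfn k hk, he, pt_idx]
  · rintro ⟨q, hq, rfl⟩
    refine ⟨idx q, idx_lt q, mem_pts.1 hq, ?_⟩
    rw [hfn _ (idx_lt q)]
    conv_rhs => rw [← pt_idx q, h _ (idx_lt q) (mem_pts.1 hq), idx_pt (hg _ (idx_lt q))]

theorem sups_ok : (∀ l ∈ m22Sups, ∀ m ∈ l, isCode m = true) ∧
    ∀ n : Fin 4, ∀ m ∈ m22Sups.getD n.val [], ∀ k : Fin 24, m.testBit k.val = true →
      zcls k.val ≤ n.val ∨ 4 ≤ zcls k.val := by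
  decide +kernel

/-- The permutations of `M22` conjugating `pZ` to itself or to its square. -/
theorem normZ_cases {σ : Equiv.Perm GolayPt} (hσ : σ ∈ M24) (h0 : σ none = none) (h1 : σ pO = pO)
    {e : ℕ} (he : e = 1 ∨ e = 2) (h : σ * sZ = sZ ^ e * σ) :
    ∃ j < 5, σ = sW ^ (e - 1) * sZ ^ j := by
  have h23 : pt 23 = none := by decide +kernel
  have hp0 : pt 0 = pO := by decide +kernel
  set S : ℕ → ℕ := fun k => idx (σ (pt k)) with hS
  have hS0 : S 0 = 0 ∧ S 23 = 23 := by
    constructor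
    · show idx (σ (pt 0)) = 0
      rw [hp0, h1, ← hp0, idx_pt (by norm_num)]
    · show idx (σ (pt 23)) = 23
      rw [h23, h0, ← h23, idx_pt (by norm_num)]
  have hinj : ∀ j < 24, ∀ k < 24, S j = S k → j = k := fun j hj k hk hjk => by
    have := congrArg idx (σ.injective (idx_injective hjk))
    rwa [idx_pt hj, idx_pt hk] at this
  have hcomm : ∀ m : ℕ, σ * sZ ^ m = sZ ^ (e * m % 5) * σ := fun m => by
    have h1' : SemiconjBy σ sZ (sZ ^ e) := h
    have h5 : sZ ^ 5 = 1 := perm_ext_pt fun i hi => (sZ_pow_pt 5 hi).trans (congrArg pt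
      ((by decide +kernel : ∀ i < 24, (fn dZ)^[5] i = i) i hi))
    rw [(h1'.pow_right m).eq, ← pow_mul]
    congr 1
    rw [← Nat.mod_add_div (e * m) 5, pow_add, pow_mul, h5, one_pow, mul_one,
      Nat.add_mul_mod_self_left, Nat.mod_mod]
  have hstep : ∀ k < 24, ∀ m : ℕ, S ((fn dZ)^[m] k) = (fn dZ)^[e * m % 5] (S k) := fun k hk m => by
    show idx (σ (pt _)) = _
    rw [← sZ_pow_pt m hk, ← Equiv.Perm.mul_apply, hcomm, Equiv.Perm.mul_apply,
      ← pt_idx (σ (pt k)), sZ_pow_pt _ (idx_lt _), idx_pt (iterate_lt valid_xyz.2.2 _ (idx_lt _))]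
  -- the fixed points
  have hfix : ∀ k : Fin 24, (fn dZ)^[e % 5] k.val = k.val → k.val ∈ [0, 1, 5, 23] := by
    rcases he with rfl | rfl <;> decide +kernel
  have hcase : ∀ k, k = 1 ∨ k = 5 → S k = 1 ∨ S k = 5 := by
    intro k hk
    have e1 : (fn dZ)^[1] k = k := by rcases hk with rfl | rfl <;> decide +kernel
    have hk24 : k < 24 := by omega
    have e2 := hstep k hk24 1
    rw [e1, mul_one] at e2
    have := hfix ⟨S k, idx_lt _⟩ e2.symm
    simp only [List.mem_cons, List.not_mem_nil, or_false] at this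
    rcases this with h' | h' | h' | h'
    · have := hinj k hk24 0 (by norm_num) (h'.trans hS0.1.symm); omega
    · exact Or.inl h'
    · exact Or.inr h'
    · have := hinj k hk24 23 (by norm_num) (h'.trans hS0.2.symm); omega
  have h15 : S 5 = 6 - S 1 := by
    rcases hcase 1 (Or.inl rfl) with a | a <;> rcases hcase 5 (Or.inr rfl) with b | b <;>
      rw [a, b] <;> first | rfl | exact absurd (hinj 1 (by norm_num) 5 (by norm_num) (a.trans b.symm)) (by norm_num)
  have hz : ∀ r ∈ [2, 3, 7, 14], S r ∈ zPts := by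
    intro r hr
    have h24 : r < 24 := (by decide : ∀ r ∈ [2, 3, 7, 14], r < 24) r hr
    have hne : ∀ j, j ∈ [0, 1, 5, 23] → r ≠ j :=
      fun j hj => (by decide : ∀ r ∈ [2, 3, 7, 14], ∀ j ∈ [0, 1, 5, 23], r ≠ j) r hr j hj
    have key : ∀ k : Fin 24, k.val ∈ zPts ∨ k.val ∈ [0, 1, 5, 23] := by decide +kernel
    refine (key ⟨S r, idx_lt _⟩).resolve_right fun hmem => ?_
    have hval : ∀ j, j ∈ [0, 1, 5, 23] → ∃ i, i ∈ [0, 1, 5, 23] ∧ S i = j := by
      intro j hj
      simp only [List.mem_cons, List.not_mem_nil, or_false] at hj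
      rcases hcase 1 (Or.inl rfl) with a | a <;> rcases hj with rfl | rfl | rfl | rfl
      · exact ⟨0, by simp, hS0.1⟩
      · exact ⟨1, by simp, a⟩
      · exact ⟨5, by simp, by omega⟩
      · exact ⟨23, by simp, hS0.2⟩
      · exact ⟨0, by simp, hS0.1⟩
      · exact ⟨5, by simp, by omega⟩
      · exact ⟨1, by simp, a⟩
      · exact ⟨23, by simp, hS0.2⟩
    obtain ⟨i, hi, hSi⟩ := hval _ hmem
    have hi24 : i < 24 := (by decide : ∀ i ∈ [0, 1, 5, 23], i < 24) i hi
    exact hne i hi (hinj r h24 i hi24 hSi.symm)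
  -- the map is determined by the images of the representatives
  have hmap : ∀ (n : ℕ) (im : List ℕ), im = ([2, 3, 7, 14].take n).map S → ∀ k < 24,
      (zcls k < n ∨ 4 ≤ zcls k) → S k = zMap e (S 1) im k := by
    intro n im him k hk hn
    unfold zMap
    split_ifs with k1 k5 k0 k23
    · rw [k1]
    · rw [k5, h15]
    · rw [k0, hS0.1]
    · rw [k23, hS0.2]
    have hd := (by decide +kernel : ∀ k : Fin 24, k.val ∉ [0, 1, 5, 23] →
      zcls k.val < 4 ∧ ([2, 3, 7, 14].getD (zcls k.val) 0) < 24 ∧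
        (fn dZ)^[(zCyc.getD (zcls k.val) []).findIdx (· == k.val)]
          ([2, 3, 7, 14].getD (zcls k.val) 0) = k.val) ⟨k, hk⟩ (by simp [k1, k5, k0, k23])
    simp only at hd
    obtain ⟨hc4, hlt, he'⟩ := hd
    have hget : im.getD (zcls k) 0 = S ([2, 3, 7, 14].getD (zcls k) 0) := by
      rw [him]
      rcases hn with hn | hn
      · have hl : zcls k < (([2, 3, 7, 14].take n).map S).length := by simp; omega
        rw [List.getD_eq_getElem _ _ hl, List.getElem_map, List.getElem_take,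
          List.getD_eq_getElem _ _ (show zcls k < [2, 3, 7, 14].length from hc4)]
      · omega
    conv_lhs => rw [← he', hstep _ hlt, ← hget]
  have hlt : ∀ (n : ℕ) (im : List ℕ), im = ([2, 3, 7, 14].take n).map S → ∀ k < 24,
      zMap e (S 1) im k < 24 := by
    intro n im him k hk
    unfold zMap
    split_ifs
    · exact idx_lt _
    · omega
    · norm_num
    · norm_num
    · refine iterate_lt valid_xyz.2.2 _ ?_
      by_cases hl : zcls k < im.length
      · rw [List.getD_eq_getElem _ _ hl]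
        simp only [him, List.getElem_map]
        exact idx_lt _
      · rw [List.getD_eq_default _ _ (by omega)]; norm_num
  have hok : ∀ n : Fin 4, zOK e (S 1) (([2, 3, 7, 14].take (n.val + 1)).map S) = true := by
    intro n
    have hlen : (([2, 3, 7, 14].take (n.val + 1)).map S).length - 1 = n.val := by
      have := n.isLt
      simp
      omega
    unfold zOK
    rw [hlen, List.all_eq_true]
    intro m hm
    have hmc : m22Sups.getD n.val [] ∈ m22Sups := by
      rw [List.getD_eq_getElem _ _ (show n.val < m22Sups.length from n.isLt)]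
      exact List.getElem_mem _
    have hc := sups_ok.1 _ hmc m hm
    refine isCode_img hσ (hlt _ _ rfl) ((pts_mem_supports_iff (lt_of_isCode hc)).2 hc)
      fun k hk hb => ?_
    rw [← hmap _ _ rfl k hk (by have := sups_ok.2 n m hm ⟨k, hk⟩ hb; simp only at this; omega)]
    exact (pt_idx _).symm
  obtain ⟨j, hj⟩ := dfs_check e (by simpa using he) (S 1) (by simpa using hcase 1 (Or.inl rfl))
    (S 2) (hz 2 (by simp)) (hok 0) (S 3) (hz 3 (by simp)) (hok 1)
    (S 7) (hz 7 (by simp)) (hok 2) (S 14) (hz 14 (by simp)) (hok 3)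
  refine ⟨j.val, j.isLt, perm_ext_pt fun k hk => ?_⟩
  have e1 : S k = (fn dW)^[e - 1] ((fn dZ)^[j.val] k) := by
    rw [hmap 4 [S 2, S 3, S 7, S 14] rfl k hk (by omega)]
    exact hj ⟨k, hk⟩
  rw [Equiv.Perm.mul_apply, sZ_pow_pt _ hk, ← pt_idx (σ (pt k)), show idx (σ (pt k)) = S k from rfl, e1]
  exact (toPerm_pow_pt (validPerm_of_isAut isAut_dW) _ (iterate_lt valid_xyz.2.2 _ hk)).symm

theorem elV_pZ : pZ * elV = elV * pZ := by
  have h : same5 [1, 3] [3, 1] = true := by decide +kernel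
  have e := W5_eq h
  rwa [show ([1, 3] : List ℕ) = [1] ++ [3] from rfl, show ([3, 1] : List ℕ) = [3] ++ [1] from rfl,
    W5_append, W5_append, W5_single, W5_single] at e

/-- The elements of the McLaughlin group conjugating `pZ` to itself or to its square. -/
theorem normZ_mcl {g : Co0} (hg : g ∈ mclGroup) {e : ℕ} (he : e = 1 ∨ e = 2)
    (h : g * pZ = pZ ^ e * g) :
    ∃ k < 5, ∃ j < 5, g = W5 (List.replicate k 3 ++ (List.replicate (e - 1) 2 ++ List.replicate j 1)) := by
  have : Fact (Nat.Prime 5) := ⟨by norm_num⟩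
  have hzfix : pZ • baseU' = baseU' :=
    ((show actP dZ (vec4 4 (-4) 0 0) = vec4 4 (-4) 0 0 by decide +kernel) ▸ rep_U'.pZ).eq rep_U'
  have o5 : orderOf pZ = 5 := orderOf_eq_prime pZ_pow_five fun h1 => by
    have h2 := congrArg (fun a : Co0 => a • eightVec (pt 2)) h1
    simp only [one_smul] at h2
    exact (rep_e8' (pt 2)).pZ.ne (rep_e8' (pt 2)) (by decide +kernel) h2
  have hfix : pZ • (g • baseU') = g • baseU' := by
    refine fix_of_conj o5 ?_ hzfix
    rw [h, mul_inv_cancel_right]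
    exact pow_mem (Subgroup.mem_zpowers _) e
  obtain ⟨k, hk, hgk⟩ := zfix_mcl (mclGroup_orbit ▸ ⟨g, hg, rfl⟩) hfix
  refine ⟨k, hk, ?_⟩
  set u := (elV ^ k)⁻¹ * g with hu
  have hum : u ∈ mclGroup :=
    mul_mem (inv_mem (pow_mem (lt5_mem_mcl (k := 3) (by simp)) k)) hg
  have hu3 : u ∈ stab3 := by
    rw [← mclGroup_inf]
    refine ⟨hum, mem_stabilizer_iff.2 ?_⟩
    rw [hu, mul_smul, ← hgk, inv_smul_smul]
  obtain ⟨σ, hσ, h0, h1, hue⟩ := exists_perm_of_stab3 hu3
  have hc : Commute pZ (elV ^ k) := Commute.pow_right elV_pZ k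
  have hrel : u * pZ = pZ ^ e * u := by
    rw [hu, mul_assoc, h, ← mul_assoc, ← ((hc.pow_left e).inv_right).eq, mul_assoc]
  have hp : σ * sZ = sZ ^ e * σ := by
    have h2 : Leech.permHom (⟨σ, hσ⟩ * mZ) = Leech.permHom (mZ ^ e * ⟨σ, hσ⟩) := by
      rw [map_mul, map_mul, map_pow]
      show permEl σ hσ * pZ = pZ ^ e * permEl σ hσ
      rw [← hue, hrel]
    exact congrArg Subtype.val (permHom_injective h2)
  obtain ⟨j, hj, hj'⟩ := normZ_cases hσ h0 h1 he hp
  refine ⟨j, hj, ?_⟩
  have hperm : u = pW ^ (e - 1) * pZ ^ j := by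
    rw [hue, pW, pZ, ← map_pow, ← map_pow, ← map_mul]
    exact congrArg Leech.permHom (Subtype.ext hj' : (⟨σ, hσ⟩ : M24) = mW ^ (e - 1) * mZ ^ j)
  rw [W5_append, W5_append, W5_replicate, W5_replicate, W5_replicate]
  show g = elV ^ k * (pW ^ (e - 1) * pZ ^ j)
  rw [← hperm, hu, mul_inv_cancel_left]

/-- The points of `mclPts` fixed by `pY`. -/
theorem yfix_check : ∀ a : Fin 15, ∀ b : Fin 15, ∀ c : Fin 5, ∀ d : Fin 5,
    (let x := vec4 (Int.subNatNat a.val 7) (Int.subNatNat b.val 7) (Int.subNatNat c.val 2)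
      (Int.subNatNat d.val 2)
     !(dotL x x == 32 && dotL x (vec4 5 1 1 1) == 16 && dotL x (vec4 4 4 0 0) == 0 && dotsOK x)
       || x == vec4 4 (-4) 0 0) = true := by
  decide +kernel

theorem yfix_mcl {y : leechLattice} (hy : y ∈ mclPts) (h : OutCert.pY • y = y) : y = baseU' := by
  obtain ⟨hn, hF, hU⟩ := hy
  obtain ⟨a, b, c, d, e, -, hok⟩ := cand_aux hn (by norm_num) h
  set x := vec4 ((a.val : ℤ) - 7) ((b.val : ℤ) - 7) ((c.val : ℤ) - 2) ((d.val : ℤ) - 2) with hx
  have hr : Rep y x := ⟨by simp [hx, vec4], e⟩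
  have dl : ∀ {w : leechLattice} {z : List ℤ}, Rep w z →
      dotInt (y : GolayPt → ℤ) (w : GolayPt → ℤ) = dotL x z := fun {w z} hw => by
    rw [hr.2, hw.2]
    exact vOf_dotProduct _ hw.1
  have key := yfix_check a b c d
  simp only [Int.subNatNat_eq_coe, Nat.cast_ofNat, ← hx] at key
  rw [show dotL x x = 32 by rw [← dl hr, ← sqNorm_eq_dotInt, hn],
    show dotL x (vec4 5 1 1 1) = 16 by rw [← dl rep_F, hF],
    show dotL x (vec4 4 4 0 0) = 0 by rw [← dl rep_U, hU], hok] at key
  simp only [beq_self_eq_true, Bool.and_self, Bool.not_true, Bool.false_or, beq_iff_eq] at key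
  exact (key ▸ hr).eq rep_U'

/-- The normaliser of `⟨pY⟩` in the McLaughlin group. -/
theorem normY_mcl {g : Co0} (hg : g ∈ mclGroup)
    (h : g * pY * g⁻¹ ∈ Subgroup.zpowers pY) : ∃ a b : ℕ, g = pY ^ a * pZ ^ b := by
  have : Fact (Nat.Prime 11) := ⟨by norm_num⟩
  have hyU' : pY • baseU' = baseU' :=
    ((show actP dY (vec4 4 (-4) 0 0) = vec4 4 (-4) 0 0 by decide +kernel) ▸ rep_U'.pY).eq rep_U'
  have hg3 : g ∈ stab3 := by
    rw [← mclGroup_inf]
    exact ⟨hg, mem_stabilizer_iff.2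
      (yfix_mcl (mclGroup_orbit ▸ ⟨g, hg, rfl⟩) (fix_of_conj orderOf_pY h hyU'))⟩
  obtain ⟨j, hj⟩ := mem_powers_iff_mem_zpowers.2 h
  have hrel : g * pY = pY ^ (j % 11) * g := by
    rw [← pY_pow_mod, show pY ^ j = g * pY * g⁻¹ from hj, inv_mul_cancel_right]
  have hj0 : j % 11 ≠ 0 := fun e => by
    rw [e, pow_zero, one_mul] at hrel
    have := mul_left_cancel (hrel.trans (mul_one g).symm)
    have ho := orderOf_pY
    rw [this, orderOf_one] at ho
    norm_num at ho
  obtain ⟨m, -, hm⟩ := (by decide +kernel : ∀ r : Fin 11, r.val ≠ 0 →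
    ∃ m < 5, r.val * 3 ^ m % 11 ∈ [1, 10]) ⟨j % 11, Nat.mod_lt _ (by norm_num)⟩ hj0
  simp only at hm
  have hz3 : ∀ m : ℕ, pZ ^ m * pY = pY ^ (3 ^ m) * pZ ^ m := by
    intro m
    induction m with
    | zero => simp
    | succ m ih =>
      have hs : SemiconjBy (pZ ^ m) pY (pY ^ (3 ^ m)) := ih
      rw [pow_succ, mul_assoc, pZ_conj_pY, ← mul_assoc, (hs.pow_right 3).eq, ← pow_mul,
        mul_assoc, ← pow_succ, ← pow_succ]
  have hgm : (g * pZ ^ m) * pY = pY ^ (j % 11 * 3 ^ m % 11) * (g * pZ ^ m) := by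
    have hs : SemiconjBy g pY (pY ^ (j % 11)) := hrel
    rw [mul_assoc, hz3, ← mul_assoc, (hs.pow_right _).eq, ← pow_mul, pY_pow_mod (j % 11 * 3 ^ m),
      mul_assoc]
  have hm3 : g * pZ ^ m ∈ stab3 := by
    have hzm : pZ ∈ stab3 := by
      refine permEl_mem_stab3 sZ_mem sXY_none.2.2 ?_
      rw [show pO = pt 0 by decide +kernel]
      exact (toPerm_pt valid_xyz.2.2 (by norm_num)).trans (congrArg pt (by decide +kernel))
    exact mul_mem hg3 (pow_mem hzm m)
  obtain ⟨sF, sU, sU'⟩ := stab3_fix hm3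
  have sO : (g * pZ ^ m) • vecO = vecO := by
    have e : vecO = baseF - (baseU + baseU') := by
      rw [baseU_add_baseU', ← baseF_sub_vecO, sub_sub_cancel]
    rw [e, smul_vsub, smul_vadd, sF, sU, sU']
  have hmem : j % 11 * 3 ^ m % 11 ∈ [1, 3, 8, 10] := by
    revert hm
    generalize j % 11 * 3 ^ m % 11 = r
    simp
    omega
  rcases normY_co0 sF sO hmem hgm with ⟨-, b, hb⟩ | ⟨h13, -⟩
  · refine ⟨b, 4 * m, ?_⟩
    have h5 : pZ ^ (4 * m) = (pZ ^ m)⁻¹ := by
      refine eq_inv_of_mul_eq_one_left ?_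
      rw [← pow_add, show 4 * m + m = 5 * m by ring, pow_mul, pZ_pow_five, one_pow]
    rw [h5, ← hb, mul_inv_cancel_right]
  · exfalso
    simp only [List.mem_cons, List.not_mem_nil, or_false] at hm
    omega

end Cfsg.Agent.OutCert
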